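import Cfsg.Agent.R2.Spec.X6.MovTwo_m3
import Cfsg.Agent.H161.G2Main
import Cfsg.Agent.H332.Cyc.G2Three
import Cfsg.Agent.H414.IsoE8_m3
import Cfsg.Agent.H378.OmF4
import Cfsg.Agent.H366.IsoE6_mg_m3
import Cfsg.Agent.R2.Spec.NA.Main_m3
import Cfsg.Agent.H378.OmE6
import Cfsg.Agent.H378.OmTE6
import Cfsg.Agent.S1063
import Cfsg.Agent.H493.EigFast
import Cfsg.Agent.Prune
set_option linter.all false

section
prune_inst 0x7fbffffcffbfbfffffff7e7ffff9fffe1bd4dfffffdffb43ffeeebff9fbf13963bcdfbaf1de0f8ff0ed7e2b530b97853fb7eefffef6fdc7ffffdfff75ffbee7ff7ffbf8911d294240f746ffffbf17fce7f3fffffffffdfffffffffffffffffbeffffffffffff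

-- part: R2/Spec/X4/H18/G2_mg
section
prune_inst 0x4000000000000000000000000000000000000000000000001100000040006900200000000400009020040800000000000000000000000000000000000000000000002460052900008800000002002000000000000020000000000000000041000000000000
set_option linter.all false
open scoped Cfsg.Agent.FastGrp

-- part: R2/Spec/X4/H18/G2
section
/-!
# Box X4 of S3435 : row `G₂(u)` (helper18)
-/

set_option autoImplicit false
set_option linter.unusedVariables false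

namespace Cfsg.Agent.R2.Spec.X4.H18

open Cfsg Cfsg.Agent.H426.LieFam

universe u

/-- the facts about `ω(G₂(u))` -/
structure G2Dat (v u : ℕ) (S : Type*) [Group S] : Prop where
  vp : v.Prime
  pw : ∃ f, 1 ≤ f ∧ u = v ^ f
  u3 : 3 ≤ u
  up : ∀ x : S, orderOf x ∣ v * (u + 1) ∨ orderOf x ∣ v * (u - 1) ∨ orderOf x ∣ u ^ 2 - 1 ∨
    orderOf x ∣ u ^ 2 + u + 1 ∨ orderOf x ∣ u ^ 2 - u + 1 ∨ (v = 2 ∧ orderOf x ∣ 24) ∨
    ((v = 3 ∨ v = 5) ∧ orderOf x ∣ v ^ 2)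
  exP : ∃ x : S, orderOf x = v * (u + 1)
  exM : ∃ x : S, orderOf x = v * (u - 1)
  ex1 : ∃ x : S, orderOf x = u ^ 2 - 1
  ex3 : ∃ x : S, orderOf x = u ^ 2 + u + 1
  ex6 : ∃ x : S, orderOf x = u ^ 2 - u + 1
  card : u ^ 6 ∣ Nat.card S

theorem g2Dat {v f : ℕ} (hv : v.Prime) {F : Type*} [Field F] [Fintype F] (hF : Fintype.card F = v ^ f)
    (h3 : 3 ≤ v ^ f) : G2Dat v (v ^ f) ↥(Lie.chevG2.group F) := by
  have := Fact.mk hv
  have hf : f ≠ 0 := by
    rintro rfl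
    norm_num at h3
  have hsq : v ^ (2 * f) = (v ^ f) ^ 2 := by rw [← pow_mul, mul_comm]
  have low : ∀ {N : ℕ}, _ → N ∈ Set.range (orderOf : ↥(Cfsg.Lie.chevG2.group F) → ℕ) := fun {N} =>
    Cfsg.Agent.H161.G2Main.lower (p := v) (n := f) (N := N) hf hF h3
  rw [hsq] at low
  refine ⟨hv, ⟨f, by omega, rfl⟩, h3, ?_, ?_, ?_, ?_, ?_, ?_, ?_⟩
  · intro x
    obtain ⟨N, h1, h2⟩ := Cfsg.Agent.H161.G2Main.upper (p := v) (n := f) hF h3 ⟨x, rfl⟩
    rw [hsq] at h2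
    rcases h2 with rfl | rfl | rfl | rfl | rfl | ⟨h2, h4⟩ | ⟨h2, rfl⟩
    · exact Or.inl h1
    · exact Or.inr (Or.inl h1)
    · exact Or.inr (Or.inr (Or.inl h1))
    · exact Or.inr (Or.inr (Or.inr (Or.inl h1)))
    · exact Or.inr (Or.inr (Or.inr (Or.inr (Or.inl h1))))
    · refine Or.inr (Or.inr (Or.inr (Or.inr (Or.inr (Or.inl ⟨h2, ?_⟩)))))
      rcases h4 with rfl | rfl
      · exact h1.trans (by norm_num)
      · exact h1.trans (by norm_num)
    · exact Or.inr (Or.inr (Or.inr (Or.inr (Or.inr (Or.inr ⟨h2, h1⟩)))))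
  · exact low (Or.inl rfl)
  · exact low (Or.inr (Or.inl rfl))
  · exact low (Or.inr (Or.inr (Or.inl rfl)))
  · exact low (Or.inr (Or.inr (Or.inr (Or.inl rfl))))
  · exact low (Or.inr (Or.inr (Or.inr (Or.inr (Or.inl rfl)))))
  · rw [Cfsg.Agent.S1059.result hF]
    exact (dvd_mul_right _ _).mul_right _

theorem G2Dat.congr {v u : ℕ} {S X : Type*} [Group S] [Group X] (e : S ≃* X) (h : G2Dat v u X) : G2Dat v u S := by
  have key : ∀ {n : ℕ}, (∃ x : X, orderOf x = n) → ∃ x : S, orderOf x = n := by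
    rintro n ⟨x, rfl⟩
    exact ⟨e.symm x, MulEquiv.orderOf_eq e.symm x⟩
  refine ⟨h.vp, h.pw, h.u3, ?_, key h.exP, key h.exM, key h.ex1, key h.ex3, key h.ex6, ?_⟩
  · intro x
    have := h.up (e x)
    rwa [MulEquiv.orderOf_eq] at this
  · rw [Nat.card_congr e.toEquiv]
    exact h.card

section

variable {p q k A k' B m i : ℕ} {W : ℕ → Prop} {S : Type u} [Group S] {v u : ℕ}

theorem sq_sub_one {u : ℕ} (hu : 1 ≤ u) : u ^ 2 - 1 = (u - 1) * (u + 1) := by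
  obtain ⟨t, rfl⟩ : ∃ t, u = t + 1 := ⟨u - 1, by omega⟩
  rw [Nat.add_sub_cancel]
  have : (t + 1) ^ 2 = t * (t + 1 + 1) + 1 := by ring
  omega

theorem le_sq {u : ℕ} : u ≤ u ^ 2 := Nat.le_self_pow two_ne_zero _

theorem two_dvd_P (hv : v.Prime) (hpw : ∃ f, 1 ≤ f ∧ u = v ^ f) : 2 ∣ v * (u + 1) ∧ 2 ∣ v * (u - 1) := by
  obtain ⟨f, hf, rfl⟩ := hpw
  rcases hv.eq_two_or_odd with h | h
  · rw [h]
    exact ⟨dvd_mul_right _ _, dvd_mul_right _ _⟩
  · have h1 : v ^ f % 2 = 1 := by rw [Nat.pow_mod, h]; simp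
    constructor
    · exact (show 2 ∣ v ^ f + 1 by omega).mul_left _
    · exact (show 2 ∣ v ^ f - 1 by omega).mul_left _

/-- primes of `k k'` -/
theorem SX.prime (h : SX p q k A k' B m i W S) {r : ℕ} (hr : r.Prime) (hk : r ∣ k ∨ r ∣ k') : 7 ≤ r :=
  (h.lw.side.prime h.lw.q2 hr hk).1

/-- a number with a prime `r` of `k` is not divisible by `2 r` -/
theorem SX.no_two (h : SX p q k A k' B m i W S) {r n : ℕ} (hr : r.Prime) (hk : r ∣ k) (hn : ∃ x : S, orderOf x = n)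
    (h2 : 2 ∣ n) : ¬ r ∣ n := by
  intro hrn
  obtain ⟨x, rfl⟩ := hn
  have h1 := h.uk hr hk x hrn
  have := h.lw.side.A_odd
  have := h2.trans h1
  omega

theorem g2_kT (h : SX p q k A k' B m i W S) (hg : Good W m i) (D : G2Dat v u S) :
    k ∣ u ^ 2 + u + 1 ∨ k ∣ u ^ 2 - u + 1 := by
  obtain ⟨r, hr, hrk⟩ := Nat.exists_prime_and_dvd h.lw.k_pos.1.ne'
  have hr7 := SX.prime h hr (Or.inl hrk)
  obtain ⟨x, hx⟩ := h.kS hg
  obtain ⟨e1, e2⟩ := two_dvd_P D.vp D.pw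
  have hP := SX.no_two h hr hrk D.exP e1
  have hM := SX.no_two h hr hrk D.exM e2
  have h0 := D.up x
  rw [hx] at h0
  rcases h0 with h0 | h0 | h0 | h0 | h0 | ⟨-, h0⟩ | ⟨h1, h0⟩
  · exact absurd (hrk.trans h0) hP
  · exact absurd (hrk.trans h0) hM
  · exfalso
    have := D.u3
    rw [sq_sub_one (by omega)] at h0
    rcases hr.dvd_mul.1 (hrk.trans h0) with h2 | h2
    · exact hM (h2.mul_left _)
    · exact hP (h2.mul_left _)
  · exact Or.inl h0
  · exact Or.inr h0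
  · exfalso
    have h2 : r ∣ 2 ^ 3 * 3 := by norm_num; exact hrk.trans h0
    rcases hr.dvd_mul.1 h2 with h3 | h3
    · have := Nat.le_of_dvd (by norm_num) (hr.dvd_of_dvd_pow h3)
      omega
    · have := Nat.le_of_dvd (by norm_num) h3
      omega
  · exfalso
    have h2 := Nat.le_of_dvd D.vp.pos (hr.dvd_of_dvd_pow (hrk.trans h0))
    omega

/-- `u ≠ q` -/
theorem u_ne_q (h : LW p q k A k' B W) (hv : v.Prime) (hpw : ∃ f, 1 ≤ f ∧ u = v ^ f) (hvp : v ≠ p) : u ≠ q := by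
  rintro rfl
  obtain ⟨f, hf, hu⟩ := hpw
  obtain ⟨e, he⟩ := h.qp
  have h1 : v ∣ p ^ e := by rw [← he, hu]; exact dvd_pow_self v (by omega)
  exact hvp ((Nat.prime_dvd_prime_iff_eq hv h.pp).1 (hv.dvd_of_dvd_pow h1))

/-- the two large tori -/
structure G2T (δ : ℤ) (u T T' : ℕ) : Prop where
  hδ : δ = 1 ∨ δ = -1
  hT : (T : ℤ) = (u : ℤ) ^ 2 + δ * u + 1
  hT' : (T' : ℤ) = (u : ℤ) ^ 2 - δ * u + 1

theorem cast6 : ((u ^ 2 - u + 1 : ℕ) : ℤ) = (u : ℤ) ^ 2 - u + 1 := by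
  push_cast [le_sq (u := u)]
  ring

theorem g2_T (h : SX p q k A k' B m i W S) (hg : Good W m i) (D : G2Dat v u S) :
    ∃ (δ : ℤ) (T T' : ℕ), G2T δ u T T' ∧ k ∣ T ∧ (∃ x : S, orderOf x = T) ∧ (∃ x : S, orderOf x = T') ∧
      ∀ n : ℕ, (n ∣ u ^ 2 + u + 1 ∨ n ∣ u ^ 2 - u + 1) → n ∣ T ∨ n ∣ T' := by
  rcases g2_kT h hg D with hk | hk
  · exact ⟨1, u ^ 2 + u + 1, u ^ 2 - u + 1, ⟨Or.inl rfl, by push_cast; ring, by rw [cast6]; ring⟩, hk, D.ex3, D.ex6,
      fun n hn => hn⟩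
  · exact ⟨-1, u ^ 2 - u + 1, u ^ 2 + u + 1, ⟨Or.inr rfl, by rw [cast6]; ring, by push_cast; ring⟩, hk, D.ex6, D.ex3,
      fun n hn => hn.symm⟩

theorem G2T.bounds {δ : ℤ} {u T T' : ℕ} (t : G2T δ u T T') :
    T ≤ u ^ 2 + u + 1 ∧ T' ≤ u ^ 2 + u + 1 ∧ u ^ 2 + 1 ≤ T + u ∧ u ^ 2 + 1 ≤ T' + u := by
  obtain ⟨h1, h2, h3⟩ := t
  rcases h1 with rfl | rfl
  · zify
    refine ⟨by linarith, by linarith, by linarith, by linarith⟩
  · zify
    refine ⟨by linarith, by linarith, by linarith, by linarith⟩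

/-- the bound for `c` -/
theorem g2_c (h : LW p q k A k' B W) {T c M : ℕ} (hc : A = c * T) (hk : k ≤ T) (hk' : k' ≤ M) (hu : 1 ≤ u)
    (hM : M ^ 3 < 3 * u ^ 4 * T) : 2 * c < 3 * u := by
  by_contra hcon
  have h1 := h_bound h hc hk hk'
  have h2 : (3 * u) ^ 4 ≤ (2 * c) ^ 4 := Nat.pow_le_pow_left (not_lt.1 hcon) 4
  have h3 : 81 * u ^ 4 * T ≤ 16 * c ^ 4 * T := by
    have : 81 * u ^ 4 ≤ 16 * c ^ 4 := by
      have e1 : (3 * u) ^ 4 = 81 * u ^ 4 := by ring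
      have e2 : (2 * c) ^ 4 = 16 * c ^ 4 := by ring
      omega
    exact Nat.mul_le_mul_right T this
  have h4 : 81 * u ^ 4 * T = 27 * (3 * u ^ 4 * T) := by ring
  omega

theorem g2_num1 {u T M : ℕ} (hu : 5 ≤ u) (hT : u ^ 2 + 1 ≤ T + u) (hM : M ≤ u ^ 2 + u + 1) :
    M ^ 3 < 3 * u ^ 4 * T := by
  have h1 : M ^ 3 ≤ (u ^ 2 + u + 1) ^ 3 := Nat.pow_le_pow_left hM 3
  have h2 : 3 * u ^ 4 * (u ^ 2 - u + 1) ≤ 3 * u ^ 4 * T := Nat.mul_le_mul_left _ (by
    have := le_sq (u := u)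
    omega)
  refine lt_of_le_of_lt h1 (lt_of_lt_of_le ?_ h2)
  zify [le_sq (u := u)]
  obtain ⟨t, rfl⟩ : ∃ t, u = t + 5 := ⟨u - 5, by omega⟩
  push_cast
  apply pos_lt
  ring_nf
  (clear * -; positivity)

/-- the two tori in state I -/
theorem g2_Ia (h : SX p q k A k' B m i W S) (D : G2Dat v u S) (hvp : v ≠ p) (hu : 5 ≤ u) {δ : ℤ}
    {T T' : ℕ} (t : G2T δ u T T') (hkT : k ∣ T) (hTA : T ∣ A) (hTB : T' ∣ B) (hk' : k' ≤ T') : False := by
  obtain ⟨b1, b2, b3, b4⟩ := t.bounds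
  have hT0 : 0 < T := by have := le_sq (u := u); linarith only [b3, this]
  obtain ⟨c, hc⟩ := hTA
  rw [mul_comm] at hc
  have hc2 := g2_c h.lw hc (Nat.le_of_dvd hT0 hkT) hk' (by omega) (g2_num1 hu b3 b2)
  obtain ⟨hδ, hT, hT'⟩ := t
  have hu5 : (5 : ℤ) ≤ u := by exact_mod_cast hu
  have hne := u_ne_q h.lw D.vp D.pw hvp
  have hdvd : (T' : ℤ) ∣ (1 - δ * u) * T - 2 := by
    refine ⟨-δ * (u + δ), ?_⟩
    rw [hT, hT']
    rcases hδ with rfl | rfl <;> ring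
  have habs : |1 - δ * (u : ℤ)| ≤ u + 1 := by
    rcases hδ with rfl | rfl
    · rw [abs_le]; constructor <;> linarith only [hu]
    · rw [abs_le]; constructor <;> linarith only [hu]
  have hcz : 2 * (c : ℤ) < 3 * u := by exact_mod_cast hc2
  have hAz : (A : ℤ) = c * T := by exact_mod_cast hc
  have cube : ∀ a b : ℕ, a ^ 3 = b ^ 3 → a = b := fun a b hab => Nat.pow_left_injective (by norm_num) hab
  rcases kill_eq h.lw hc hTB (κ := 2) (by norm_num) hdvd (by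
      have : (u : ℤ) ^ 2 + 1 ≤ T' + u := by exact_mod_cast b4
      nlinarith only [hu, b1, hc2, hT, hT', habs]) with ⟨h1, h2⟩ | ⟨h1, h2⟩
  · rcases hδ with rfl | rfl
    · have : (0 : ℤ) ≤ c := by (clear * -; positivity)
      linarith only [hu, h2]
    · apply hne
      apply cube
      rcases h.lw.side.two_mul with ⟨-, -, -, h3⟩ | ⟨-, h3, -, -⟩
      · omega
      · have h4 : 2 * (A : ℤ) = (q : ℤ) ^ 3 + 1 := by exact_mod_cast h3
        have : (u : ℤ) ^ 3 = (q : ℤ) ^ 3 := by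
          linear_combination h4 - 2 * hAz - 2 * (c : ℤ) * hT - ((u : ℤ) ^ 2 - u + 1) * h2
        exact_mod_cast this
  · rcases hδ with rfl | rfl
    · apply hne
      apply cube
      rcases h.lw.side.two_mul with ⟨-, h3, -, -⟩ | ⟨-, -, -, h3⟩
      · have h4 : 2 * (A : ℤ) + 1 = (q : ℤ) ^ 3 := by exact_mod_cast h3
        have : (u : ℤ) ^ 3 = (q : ℤ) ^ 3 := by
          linear_combination h4 - 2 * hAz - 2 * (c : ℤ) * hT - ((u : ℤ) ^ 2 + u + 1) * h2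
        exact_mod_cast this
      · omega
    · have : (0 : ℤ) ≤ c := by (clear * -; positivity)
      linarith only [hu, h2]

/-- `u² - 1 ∣ B`, `v ∣ B` -/
theorem g2_Ib (h : SX p q k A k' B m i W S) (D : G2Dat v u S) (hu : 7 ≤ u) {δ : ℤ}
    {T T' : ℕ} (t : G2T δ u T T') (hkT : k ∣ T) (hTA : T ∣ A) (h1B : u ^ 2 - 1 ∣ B) (hvB : v ∣ B)
    (hk' : k' ≤ u ^ 2 + u + 1) : False := by
  obtain ⟨b1, b2, b3, b4⟩ := t.bounds
  have hT0 : 0 < T := by have := le_sq (u := u); linarith only [b3, this]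
  obtain ⟨c, hc⟩ := hTA
  rw [mul_comm] at hc
  have hc2 := g2_c h.lw hc (Nat.le_of_dvd hT0 hkT) hk' (by omega) (g2_num1 (by omega) b3 le_rfl)
  obtain ⟨hδ, hT, hT'⟩ := t
  have hu5 : (7 : ℤ) ≤ u := by exact_mod_cast hu
  have hD : ((u ^ 2 - 1 : ℕ) : ℤ) = (u : ℤ) ^ 2 - 1 := by
    have : 1 ≤ u ^ 2 := Nat.one_le_pow _ _ (by omega)
    push_cast [this]
    ring
  have hdvd : ((u ^ 2 - 1 : ℕ) : ℤ) ∣ (2 - δ * u) * T - 3 := by
    refine ⟨1 - δ * u, ?_⟩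
    rw [hT, hD]
    rcases hδ with rfl | rfl <;> ring
  have habs : |2 - δ * (u : ℤ)| ≤ u + 2 := by
    rcases hδ with rfl | rfl
    · rw [abs_le]; constructor <;> linarith only [hu]
    · rw [abs_le]; constructor <;> linarith only [hu]
  have hcz : 2 * (c : ℤ) < 3 * u := by exact_mod_cast hc2
  have hAz : (A : ℤ) = c * T := by exact_mod_cast hc
  have hvu : (v : ℤ) ∣ u := by
    obtain ⟨f, hf, hu'⟩ := D.pw
    have : v ∣ u := by rw [hu']; exact dvd_pow_self v (by omega)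
    exact_mod_cast this
  have hvB' : (v : ℤ) ∣ B := by exact_mod_cast hvB
  have fin : ∀ e : ℤ, (e = 1 ∨ e = -1) → (v : ℤ) ∣ e → False := by
    intro e he hd
    have h1 : (v : ℤ) ∣ 1 := by
      rcases he with rfl | rfl
      · exact hd
      · exact (dvd_neg.2 hd)
    have h2 : v ∣ 1 := by exact_mod_cast h1
    exact D.vp.one_lt.ne' (Nat.dvd_one.1 h2)
  rcases kill_eq h.lw hc h1B (κ := 3) (by norm_num) hdvd (by rw [hD]; nlinarith only [hu, hc2, habs]) with ⟨h1, h2⟩ | ⟨h1, h2⟩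
  · rcases hδ with rfl | rfl
    · have : (0 : ℤ) ≤ c := by (clear * -; positivity)
      linarith only [hu, h2]
    · have h1' : (A : ℤ) = B + 1 := by exact_mod_cast h1
      refine fin (-1) (Or.inr rfl) ?_
      have e : (-1 : ℤ) = 3 * B - u * (u ^ 2 + u - 1) := by
        linear_combination 3 * h1' - 3 * hAz - 3 * (c : ℤ) * hT - ((u : ℤ) ^ 2 - u + 1) * h2
      rw [e]
      exact dvd_sub (hvB'.mul_left 3) (hvu.mul_right _)
  · rcases hδ with rfl | rfl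
    · have h1' : (B : ℤ) = A + 1 := by exact_mod_cast h1
      refine fin 1 (Or.inl rfl) ?_
      have e : (1 : ℤ) = 3 * B - u * (u ^ 2 - u - 1) := by
        linear_combination -3 * h1' - 3 * hAz - 3 * (c : ℤ) * hT - ((u : ℤ) ^ 2 + u + 1) * h2
      rw [e]
      exact dvd_sub (hvB'.mul_left 3) (hvu.mul_right _)
    · have : (0 : ℤ) ≤ c := by (clear * -; positivity)
      linarith only [hu, h2]

/-- state I, the remaining case `k' = v` -/
theorem g2_Ic (h : SX p q k A k' B m i W S) (D : G2Dat v u S) (hu : 25 ≤ u) (hv2 : v ≠ 2) {δ : ℤ}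
    {T T' : ℕ} (t : G2T δ u T T') (hkT : k ∣ T) (hTA : T ∣ A) (h1B : v * (u + 1) ∣ B) (h2B : v * (u - 1) ∣ B)
    (hk' : k' ≤ u) : False := by
  obtain ⟨b1, b2, b3, b4⟩ := t.bounds
  have hT0 : 0 < T := by have := le_sq (u := u); linarith only [b3, this]
  obtain ⟨hδ, hT, hT'⟩ := t
  have hu5 : (25 : ℤ) ≤ u := by exact_mod_cast hu
  -- `u` is odd
  have huo : u % 2 = 1 := by
    obtain ⟨f, hf, hu'⟩ := D.pw
    have := D.vp.eq_two_or_odd.resolve_left hv2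
    rw [hu', Nat.pow_mod, this]
    simp
  obtain ⟨w, hw⟩ : ∃ w, u = 2 * w + 1 := ⟨u / 2, by omega⟩
  have hDB : 2 * (w * (w + 1)) ∣ B := by
    have e1 : 2 * (w + 1) ∣ B := by
      have := (dvd_mul_left (u + 1) v).trans h1B
      rwa [show u + 1 = 2 * (w + 1) by omega] at this
    have e2 : 2 * w ∣ B := by
      have := (dvd_mul_left (u - 1) v).trans h2B
      rwa [show u - 1 = 2 * w by (clear * - hw; omega)] at this
    obtain ⟨b, hb⟩ := (dvd_mul_right 2 w).trans e2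
    rw [hb] at e1 e2 ⊢
    have e3 := Nat.dvd_of_mul_dvd_mul_left two_pos e1
    have e4 := Nat.dvd_of_mul_dvd_mul_left two_pos e2
    exact Nat.mul_dvd_mul_left 2 (Nat.Coprime.mul_dvd_of_dvd_of_dvd
      (by rw [Nat.coprime_self_add_right]; exact Nat.coprime_one_right _) e4 e3)
  have hD : 2 * ((2 * (w * (w + 1)) : ℕ) : ℤ) = (u : ℤ) ^ 2 - 1 := by
    rw [hw]
    push_cast
    ring
  have hdvd : ((2 * (w * (w + 1)) : ℕ) : ℤ) ∣ (2 - δ * u) * T - 3 := by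
    refine ⟨2 * (1 - δ * u), ?_⟩
    rw [hT, show ((2 * (w * (w + 1)) : ℕ) : ℤ) * (2 * (1 - δ * u)) = (1 - δ * u) * (2 * ((2 * (w * (w + 1)) : ℕ) : ℤ)) by ring,
      hD]
    rcases hδ with rfl | rfl <;> ring
  refine kill h.lw hTA (Nat.le_of_dvd hT0 hkT) hk' hDB (κ := 3) (by norm_num) hdvd ?_ ?_
  · rw [hT]
    obtain ⟨t, ht⟩ : ∃ t : ℕ, u = t + 25 := ⟨u - 25, by (clear * - hu; omega)⟩
    rw [ht]
    push_cast
    apply pos_lt
    rcases hδ with rfl | rfl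
    · ring_nf
      (clear * -; positivity)
    · ring_nf
      (clear * -; positivity)
  · have habs : |2 - δ * (u : ℤ)| ≤ u + 2 := by
      rcases hδ with rfl | rfl
      · rw [abs_le]; constructor <;> linarith only [hu]
      · rw [abs_le]; constructor <;> linarith only [hu]
    nlinarith only [hu, hD, habs]

theorem g2_I (h : SX p q k A k' B m i W S) (hg : Good W m i) (D : G2Dat v u S) (hvp : v ≠ p) (hu : 5 ≤ u)
    (h1 : ∀ r : ℕ, r.Prime → r ∣ k' → ¬ r ∣ m ∧ ¬ r ∣ i) : False := by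
  obtain ⟨δ, T, T', t, hkT, exT, exT', hTT⟩ := g2_T h hg D
  obtain ⟨b1, b2, b3, b4⟩ := t.bounds
  have hT0 : 0 < T := by have := le_sq (u := u); linarith only [b3, this]
  have hT'0 : 0 < T' := by have := le_sq (u := u); linarith only [b4, this]
  have hTA := SX.dvdA h exT hkT
  obtain ⟨x, hx⟩ := SX.k'S h h1
  have hk25 := (k_ge h.lw).2
  have hk'0 : k' ≠ 1 := by omega
  obtain ⟨r, hr, hrk⟩ := Nat.exists_prime_and_dvd hk'0
  have hp7 : ∀ w : ℕ, w.Prime → w ∣ k' → 7 ≤ w := fun w hw hwk => SX.prime h hw (Or.inr hwk)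
  -- a prime of `k'` dividing `u ^ 2 - 1`
  have key : ∀ w : ℕ, w.Prime → w ∣ k' → w ∣ u ^ 2 - 1 → 7 ≤ u → k' ≤ u ^ 2 + u + 1 → False := by
    intro w hw hwk hwu hu7 hle
    have e1 := SX.dvdB h D.ex1 hw hwk hwu
    refine g2_Ib h D hu7 t hkT hTA e1 ?_ hle
    rw [sq_sub_one (by omega)] at hwu
    rcases hw.dvd_mul.1 hwu with h2 | h2
    · exact (dvd_mul_right _ _).trans (SX.dvdB h D.exM hw hwk (h2.mul_left _))
    · exact (dvd_mul_right _ _).trans (SX.dvdB h D.exP hw hwk (h2.mul_left _))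
  have hvu : v ≤ u := by
    obtain ⟨f, hf, hu'⟩ := D.pw
    rw [hu']
    exact Nat.le_self_pow (by omega) v
  have hcase : (∃ e : ℕ, (e = u + 1 ∨ e = u - 1) ∧ k' ∣ v * e) ∨ k' ∣ u ^ 2 - 1 ∨ (k' ∣ T ∨ k' ∣ T') := by
    have h0 := D.up x
    rw [hx] at h0
    rcases h0 with h0 | h0 | h0 | h0 | h0 | ⟨-, h0⟩ | ⟨h1, h0⟩
    · exact Or.inl ⟨_, Or.inl rfl, h0⟩
    · exact Or.inl ⟨_, Or.inr rfl, h0⟩
    · exact Or.inr (Or.inl h0)
    · exact Or.inr (Or.inr (hTT _ (Or.inl h0)))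
    · exact Or.inr (Or.inr (hTT _ (Or.inr h0)))
    · exfalso
      have hr7 := hp7 r hr hrk
      have h2 : r ∣ 2 ^ 3 * 3 := by norm_num; exact hrk.trans h0
      rcases hr.dvd_mul.1 h2 with h3 | h3
      · have := Nat.le_of_dvd (by norm_num) (hr.dvd_of_dvd_pow h3)
        omega
      · have := Nat.le_of_dvd (by norm_num) h3
        omega
    · exfalso
      have hr7 := hp7 r hr hrk
      have h2 := Nat.le_of_dvd D.vp.pos (hr.dvd_of_dvd_pow (hrk.trans h0))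
      omega
  have hsq : u ^ 2 - 1 = (u - 1) * (u + 1) := sq_sub_one (by omega)
  rcases hcase with ⟨e, he, h0⟩ | h0 | h0 | h0
  · have he0 : 0 < e := by omega
    have heu : e ∣ u ^ 2 - 1 := by
      rw [hsq]
      rcases he with rfl | rfl
      · exact dvd_mul_left _ _
      · exact dvd_mul_right _ _
    have hle : k' ≤ u ^ 2 + u := by
      have h2 := Nat.le_of_dvd (Nat.mul_pos D.vp.pos he0) h0
      have h3 : v * e ≤ u * (u + 1) := Nat.mul_le_mul hvu (by omega)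
      have : u * (u + 1) = u ^ 2 + u := by ring
      omega
    by_cases hall : ∃ w : ℕ, w.Prime ∧ w ∣ k' ∧ w ≠ v
    · obtain ⟨w, hw, hwk, hwv⟩ := hall
      have hwe : w ∣ e := by
        rcases hw.dvd_mul.1 (hwk.trans h0) with h2 | h2
        · exact absurd ((Nat.prime_dvd_prime_iff_eq hw D.vp).1 h2) hwv
        · exact h2
      have hw7 := hp7 w hw hwk
      have hwe' := Nat.le_of_dvd he0 hwe
      by_cases hu7 : 7 ≤ u
      · exact key w hw hwk (hwe.trans heu) hu7 (by omega)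
      · -- `u = 6`, not a prime power
        have hu6 : u = 6 := by omega
        obtain ⟨f, hf, hu'⟩ := D.pw
        have h2 : 2 ∣ v ^ f := by rw [← hu', hu6]; norm_num
        have h3 : 3 ∣ v ^ f := by rw [← hu', hu6]; norm_num
        have h4 := (Nat.prime_dvd_prime_iff_eq Nat.prime_two D.vp).1 (Nat.prime_two.dvd_of_dvd_pow h2)
        have h5 := (Nat.prime_dvd_prime_iff_eq Nat.prime_three D.vp).1 (Nat.prime_three.dvd_of_dvd_pow h3)
        omega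
    · push Not at hall
      have hrv := hall r hr hrk
      have hcop : k'.Coprime e := by
        refine Nat.Coprime.symm ?_
        refine Nat.coprime_of_dvd fun w hw hwe hwk => ?_
        have h2 := hall w hw hwk
        rw [h2] at hwe
        obtain ⟨f, hf, hu'⟩ := D.pw
        have h3 : v ∣ u := by rw [hu']; exact dvd_pow_self v (by omega)
        rcases he with rfl | rfl
        · have := (Nat.dvd_add_right h3).1 hwe
          exact D.vp.one_lt.ne' (Nat.dvd_one.1 this)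
        · have h4 : v ∣ u - 1 + 1 := by rwa [Nat.sub_add_cancel (by omega)]
          have := (Nat.dvd_add_right hwe).1 h4
          exact D.vp.one_lt.ne' (Nat.dvd_one.1 this)
      have hkv : k' ∣ v := hcop.dvd_of_dvd_mul_right h0
      have hkv' := Nat.le_of_dvd D.vp.pos hkv
      have e1 := SX.dvdB h D.exP hr hrk (by rw [hrv]; exact dvd_mul_right _ _)
      have e2 := SX.dvdB h D.exM hr hrk (by rw [hrv]; exact dvd_mul_right _ _)
      exact g2_Ic h D (by omega) (by omega) t hkT hTA e1 e2 (by omega)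
  · have h2 := Nat.le_of_dvd (by
      have : 5 ^ 2 ≤ u ^ 2 := Nat.pow_le_pow_left hu 2
      omega) h0
    have hu7 : 7 ≤ u := by
      by_contra hcon
      have h5 : u = 5 ∨ u = 6 := by omega
      rcases h5 with h5 | h5
      · subst h5
        norm_num at h2
        omega
      · subst h5
        have h6 := hrk.trans h0
        norm_num at h6
        have hr7 := hp7 r hr hrk
        have h7 : r ∣ 5 * 7 := by norm_num; exact h6
        obtain ⟨f, hf, hu'⟩ := D.pw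
        have h2 : 2 ∣ v ^ f := by rw [← hu']; norm_num
        have h3 : 3 ∣ v ^ f := by rw [← hu']; norm_num
        have h4 := (Nat.prime_dvd_prime_iff_eq Nat.prime_two D.vp).1 (Nat.prime_two.dvd_of_dvd_pow h2)
        have h5 := (Nat.prime_dvd_prime_iff_eq Nat.prime_three D.vp).1 (Nat.prime_three.dvd_of_dvd_pow h3)
        omega
    exact key r hr hrk (hrk.trans h0) hu7 (by omega)
  · -- `T` is divisible by primes of `k` and `k'`
    obtain ⟨y, hy⟩ := exT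
    obtain ⟨s, hs, hsk⟩ := Nat.exists_prime_and_dvd h.lw.k_pos.1.ne'
    have hWT := h.WS y
    rw [hy] at hWT
    exact h.lw.na hs hsk hr hrk hWT (hsk.trans hkT) (hrk.trans h0)
  · exact g2_Ia h D hvp hu t hkT hTA (SX.dvdB h exT' hr hrk (hrk.trans h0)) (Nat.le_of_dvd hT'0 h0)

/-- the orders are small -/
theorem G2Dat.le (D : G2Dat v u S) (hu : 5 ≤ u) (x : S) : orderOf x ≤ u ^ 2 + u + 1 := by
  have hvu : v ≤ u := by
    obtain ⟨f, hf, hu'⟩ := D.pw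
    rw [hu']
    exact Nat.le_self_pow (by omega) v
  have hv0 := D.vp.pos
  have h25 : 25 ≤ u ^ 2 := by
    calc 25 = 5 ^ 2 := by norm_num
      _ ≤ u ^ 2 := Nat.pow_le_pow_left hu 2
  have e : u * (u + 1) = u ^ 2 + u := by ring
  rcases D.up x with h0 | h0 | h0 | h0 | h0 | ⟨-, h0⟩ | ⟨h1, h0⟩
  · have h2 := Nat.le_of_dvd (Nat.mul_pos hv0 (by omega)) h0
    have h3 : v * (u + 1) ≤ u * (u + 1) := Nat.mul_le_mul_right _ hvu
    omega
  · have h2 := Nat.le_of_dvd (Nat.mul_pos hv0 (by omega)) h0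
    have h3 : v * (u - 1) ≤ u * (u + 1) := Nat.mul_le_mul hvu (by omega)
    omega
  · have h2 := Nat.le_of_dvd (by omega) h0
    omega
  · exact Nat.le_of_dvd (by omega) h0
  · have h2 := Nat.le_of_dvd (by omega) h0
    omega
  · have h2 := Nat.le_of_dvd (by norm_num) h0
    omega
  · have h2 := Nat.le_of_dvd (pow_pos hv0 2) h0
    rcases h1 with rfl | rfl
    · norm_num at h2
      omega
    · norm_num at h2
      omega

theorem G2Dat.not_syl (D : G2Dat v u S) (hu : 5 ≤ u) [Finite S] (x : S) :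
    ¬ v ^ (Nat.card S).factorization v ∣ orderOf x := by
  intro hd
  obtain ⟨f, hf, hu'⟩ := D.pw
  have h1 : v ^ (f * 6) ∣ Nat.card S := by rw [pow_mul, ← hu']; exact D.card
  have h2 := (D.vp.pow_dvd_iff_le_factorization Nat.card_pos.ne').1 h1
  have h3 : u ^ 6 ∣ orderOf x := by
    rw [hu', ← pow_mul]
    exact (pow_dvd_pow v h2).trans hd
  have h4 := Nat.le_of_dvd (orderOf_pos x) h3
  have h5 := D.le hu x
  have h6 : u ^ 2 + u + 1 < u ^ 6 := by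
    obtain ⟨t, rfl⟩ : ∃ t, u = t + 5 := ⟨u - 5, by omega⟩
    zify
    apply pos_lt
    ring_nf
    (clear * -; positivity)
  omega

theorem g2_q_lt {p q X u : ℤ} {κ' : ℕ} (hκ : κ' = 1 ∨ κ' = 2) (hX : 2 * X = κ' * (p * (q ^ 2 + 1)))
    (hp : 3 ≤ p) (hu : 2 * X < 3 * u ^ 2) : 0 ≤ u → q < u := by
  intro hu0
  have h1 : 1 ≤ (κ' : ℤ) := by rcases hκ with rfl | rfl <;> norm_num
  have h2 : 3 * (q ^ 2 + 1) ≤ 2 * X := by
    rw [hX]
    have h3 : 0 < q ^ 2 + 1 := by positivity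
    have h4 : 3 * (q ^ 2 + 1) ≤ p * (q ^ 2 + 1) := mul_le_mul_of_nonneg_right hp h3.le
    have h5 : p * (q ^ 2 + 1) ≤ κ' * (p * (q ^ 2 + 1)) := le_mul_of_one_le_left (by linarith) h1
    linarith
  by_contra hcon
  push Not at hcon
  nlinarith only [hu, hu0, h2, hcon]

theorem g2_II (h : SX p q k A k' B m i W S) (hg : Good W m i) (D : G2Dat v u S) (hvp : v ≠ p) (hu : 5 ≤ u)
    (hF : ∀ w : ℕ, w.Prime → 5 ≤ w → F1.FldDat v w S) (hw : ∃ w : ℕ, w.Prime ∧ w ∣ k' ∧ w ∣ m * i)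
    (h2 : ∀ r : ℕ, r.Prime → (r ∣ (q ^ 2 + 1) / 2 ∨ r = p) → ¬ r ∣ m ∧ ¬ r ∣ i) : False := by
  have := h.fin
  obtain ⟨w, hwp, hwk, hwmi⟩ := hw
  have hw7 := SX.prime h hwp (Or.inr hwk)
  have hwm : w ∣ m := by
    rcases hwp.dvd_mul.1 hwmi with h3 | h3
    · exact h3
    · exact (SX.noFld h hwp hwk h3 h2 (hF w hwp (by omega))).elim
  have hz25 := z_ge h.lw
  have hp3 := h.lw.p3
  have hvz : ¬ v ∣ (q ^ 2 + 1) / 2 := by
    intro hd
    obtain ⟨x, hx⟩ := SX.cyc h hwp hwk hwm D.vp (Or.inl hd)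
    exact D.not_syl hu x hx
  have hvpz : ¬ v ∣ p * ((q ^ 2 + 1) / 2) := by
    intro hd
    rcases D.vp.dvd_mul.1 hd with h3 | h3
    · exact hvp ((Nat.prime_dvd_prime_iff_eq D.vp h.lw.pp).1 h3)
    · exact hvz h3
  have hcop : (p * ((q ^ 2 + 1) / 2)).Coprime v := (D.vp.coprime_iff_not_dvd.2 hvpz).symm
  have h75 : 75 ≤ p * ((q ^ 2 + 1) / 2) := by nlinarith only [hz25, hp3]
  obtain ⟨δ, T, T', t, hkT, exT, exT', hTT⟩ := g2_T h hg D
  obtain ⟨b1, b2, b3, b4⟩ := t.bounds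
  have hT0 : 0 < T := by have := le_sq (u := u); linarith only [b3, this]
  have hTA := SX.dvdA h exT hkT
  obtain ⟨x, hx⟩ := SX.pzS h h2
  have hcase : p * ((q ^ 2 + 1) / 2) ∣ u ^ 2 - 1 ∨ p * ((q ^ 2 + 1) / 2) ∣ T ∨ p * ((q ^ 2 + 1) / 2) ∣ T' := by
    have hsq : u ^ 2 - 1 = (u - 1) * (u + 1) := sq_sub_one (by omega)
    have h0 := D.up x
    rw [hx] at h0
    rcases h0 with h0 | h0 | h0 | h0 | h0 | ⟨-, h0⟩ | ⟨h1, h0⟩
    · left
      rw [hsq]
      exact (hcop.dvd_of_dvd_mul_left h0).mul_left _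
    · left
      rw [hsq]
      exact (hcop.dvd_of_dvd_mul_left h0).mul_right _
    · exact Or.inl h0
    · exact Or.inr (hTT _ (Or.inl h0))
    · exact Or.inr (hTT _ (Or.inr h0))
    · exfalso
      have := Nat.le_of_dvd (by norm_num) h0
      omega
    · exfalso
      have h3 := hcop.pow_right 2
      have h4 := Nat.Coprime.eq_one_of_dvd h3 h0
      omega
  obtain ⟨hδ, hT, hT'⟩ := t
  have hTz : (u : ℤ) ^ 2 + 1 ≤ T + u := by exact_mod_cast b3
  have hqz : (7 : ℤ) ≤ q := by exact_mod_cast h.lw.q7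
  have hpz : (3 : ℤ) ≤ p := by exact_mod_cast hp3
  have huz : (5 : ℤ) ≤ u := by exact_mod_cast hu
  rcases hcase with h0 | h0 | h0
  · obtain ⟨κ, hκ, -, hX⟩ := SX.pzD h D.ex1 h0
    have h1u : 1 ≤ u ^ 2 := Nat.one_le_pow _ _ (by omega)
    have hXz : 2 * ((u : ℤ) ^ 2 - 1) = κ * (p * ((q : ℤ) ^ 2 + 1)) := by
      have : ((2 * (u ^ 2 - 1) : ℕ) : ℤ) = ((κ * (p * (q ^ 2 + 1)) : ℕ) : ℤ) := by rw [hX]
      push_cast [h1u] at this
      linarith only [this]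
    have hXu : ((u ^ 2 - 1 : ℕ) : ℤ) = (u : ℤ) ^ 2 - 1 := by push_cast [h1u]; ring
    have hqu : (q : ℤ) < u := g2_q_lt hκ hXz hpz (by linarith only [h1u]) (by linarith only [hu])
    have hκ' : κ = 1 ∨ κ = 2 ∨ κ = 4 := by (clear * - hκ; tauto)
    rcases hδ with rfl | rfl
    · refine pz_kill' h.lw hTA hκ' hX (Y := u + 2) ?_ ?_ ?_
      · rw [hT, hXu, abs_of_nonneg (by linarith only [hqz, hqu])]
        ring
      · rw [hT, hXu]
        nlinarith only [hqu]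
      · linarith only [hqz, hqu]
    · refine pz_kill' h.lw hTA hκ' hX (Y := u - 2) ?_ ?_ ?_
      · rw [hT, hXu, abs_of_nonpos (by linarith only [hqz, hqu])]
        ring
      · rw [hT, hXu]
        nlinarith only [hqu]
      · linarith only [hqz, hqu]
  · obtain ⟨y, hy⟩ := exT
    obtain ⟨s, hs, hsk⟩ := Nat.exists_prime_and_dvd h.lw.k_pos.1.ne'
    have hWT := h.WS y
    rw [hy] at hWT
    exact h.lw.naz hs (Or.inl hsk) h.lw.pp (Or.inr rfl) hWT (hsk.trans hkT) ((dvd_mul_right _ _).trans h0)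
  · obtain ⟨κ, hκ, -, hX⟩ := SX.pzD h exT' h0
    have hκ' : κ = 1 ∨ κ = 2 ∨ κ = 4 := by (clear * - hκ; tauto)
    have hXz : 2 * (T' : ℤ) = κ * (p * ((q : ℤ) ^ 2 + 1)) := by exact_mod_cast hX
    have hT'z : (T' : ℤ) ≤ (u : ℤ) ^ 2 + u + 1 := by exact_mod_cast b2
    have hqu : (q : ℤ) < u := g2_q_lt hκ hXz hpz (by nlinarith only [hu, b2]) (by linarith only [hu])
    refine pz_kill' h.lw hTA hκ' hX (Y := 2 * u) ?_ ?_ ?_
    · rw [hT, hT']
      rcases hδ with rfl | rfl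
      · rw [abs_of_nonneg (by linarith only [hqz, hqu])]
        ring
      · rw [abs_of_nonpos (by linarith only [hqz, hqu])]
        ring
    · rw [hT, hT']
      rcases hδ with rfl | rfl
      · nlinarith only [hqu]
      · nlinarith only [hqu]
    · linarith only [hqz, hqu]

/-- **Row `G₂(u)`.** -/
theorem row_g2 {v f : ℕ} (h : SX p q k A k' B m i W S) (hg : Good W m i) (hI : Fam.Is v f S Fam.g2) (hv : v.Prime)
    (hvp : v ≠ p) : False := by
  have hF : ∀ w : ℕ, w.Prime → 5 ≤ w → F1.FldDat v w S := fun w hw hw5 =>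
    fldDat_exc (t := Fam.g2) trivial hv hI hw hw5
  obtain ⟨h3, F, _, _, _, hcard, ⟨e⟩⟩ := hI
  have D : G2Dat v (v ^ f) S := (g2Dat hv hcard h3).congr e
  have hk19 := (k_ge h.lw).1
  have hu : 5 ≤ v ^ f := by
    by_contra hcon
    have h34 : v ^ f = 3 ∨ v ^ f = 4 := by omega
    rcases h34 with h5 | h5
    · obtain ⟨x, hx⟩ := h.kS hg
      have := Cfsg.Agent.H332.Cyc.order_le_three (F := F) (by rw [hcard, h5]) (e x)
      rw [MulEquiv.orderOf_eq, hx] at this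
      omega
    · have h6 := g2_kT h hg D
      rw [h5] at h6
      norm_num at h6
      rcases h6 with h6 | h6
      · have h7 := Nat.le_of_dvd (by norm_num) h6
        interval_cases k
        all_goals revert h6
        all_goals try decide
        intro _
        have := SX.prime h Nat.prime_three (Or.inl (by norm_num : 3 ∣ 21))
        omega
      · have h7 := Nat.le_of_dvd (by norm_num) h6
        omega
  rcases h.dich with h1 | ⟨hw, h2⟩
  · exact g2_I h hg D hvp hu h1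
  · exact g2_II h hg D hvp hu hF hw h2

end

end Cfsg.Agent.R2.Spec.X4.H18
end

-- part: R2/Spec/X4/H18/Cof
section
/-!
# Box X4 of S3435, exceptional `S`: the cofactor equation (helper18)

* `cof_k'`, `cof_eq` : `A = c T`, `T = k t` give `g³ T = t (4 c² t² ∓ 6 g c t + 3 g²)`, `g ∈ {1, 3}`.
-/

set_option autoImplicit false
set_option linter.unusedVariables false

namespace Cfsg.Agent.R2.Spec.X4.H18

variable {p q k A k' B : ℕ} {W : ℕ → Prop}

theorem cof_k' (h : LW p q k A k' B W) {T c t : ℕ} (hc : A = c * T) (ht : T = k * t) :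
    ∃ g : ℕ, (g = 1 ∨ g = 3) ∧ (B = A + 1 ∧ 2 * (c * t) + g = g * q ∧ g * k = q ^ 2 + q + 1 ∨
      A = B + 1 ∧ 2 * (c * t) = g * (q + 1) ∧ g * k + q = q ^ 2 + 1) := by
  have hk0 : 0 < k := by have := (k_ge h).1; omega
  have hq := h.q7
  have hqq : q ≤ q ^ 2 := Nat.le_self_pow two_ne_zero q
  rcases h.side.cof h.q2 with ⟨h1, h2, -⟩ | ⟨h1, -, h2⟩
  · obtain ⟨g, hg, hg'⟩ : ∃ g : ℕ, (g = 1 ∨ g = 3) ∧ g * k = q ^ 2 + q + 1 := by
      rcases h2 with h2 | ⟨h2, -⟩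
      · exact ⟨1, Or.inl rfl, by rw [one_mul, h2]⟩
      · exact ⟨3, Or.inr rfl, h2⟩
    have h3 : 2 * A + 1 = q ^ 3 ∧ B = A + 1 := by
      rcases h.side.two_mul with ⟨-, h3, -, h4⟩ | ⟨h3, -⟩
      · exact ⟨h3, h4⟩
      · omega
    refine ⟨g, hg, Or.inl ⟨h3.2, ?_, hg'⟩⟩
    apply Nat.eq_of_mul_eq_mul_right hk0
    have h4 : (2 * (c * t) + g) * k = 2 * A + (q ^ 2 + q + 1) := by rw [hc, ht, ← hg']; ring
    have h5 : g * q * k = q * (q ^ 2 + q + 1) := by rw [← hg']; ring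
    rw [h4, h5]
    have h6 : q * (q ^ 2 + q + 1) + 1 = q ^ 3 + (q ^ 2 + q + 1) := by ring
    (clear * - h3 h6; omega)
  · obtain ⟨g, hg, hg'⟩ : ∃ g : ℕ, (g = 1 ∨ g = 3) ∧ g * k + q = q ^ 2 + 1 := by
      rcases h2 with h2 | ⟨h2, -⟩
      · exact ⟨1, Or.inl rfl, by rw [one_mul, h2]; omega⟩
      · exact ⟨3, Or.inr rfl, by rw [h2]; omega⟩
    have h3 : 2 * A = q ^ 3 + 1 ∧ A = B + 1 := by
      rcases h.side.two_mul with ⟨h3, -⟩ | ⟨-, h3, -, h4⟩
      · omega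
      · exact ⟨h3, h4⟩
    refine ⟨g, hg, Or.inr ⟨h3.2, ?_, hg'⟩⟩
    apply Nat.eq_of_mul_eq_mul_right hk0
    have h4 : 2 * (c * t) * k = 2 * A := by rw [hc, ht]; ring
    have h5 : g * (q + 1) * k + (q + 1) * q = (q + 1) * (q ^ 2 + 1) := by rw [← hg']; ring
    rw [h4, h3.1]
    have h6 : (q + 1) * (q ^ 2 + 1) = q ^ 3 + 1 + (q + 1) * q := by ring
    omega

/-- the cubic equation -/
theorem cof_eq (h : LW p q k A k' B W) {T c t : ℕ} (hc : A = c * T) (ht : T = k * t) :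
    ∃ g : ℤ, (g = 1 ∨ g = 3) ∧
      (B = A + 1 ∧ g ^ 3 * (T : ℤ) = t * (4 * (c * t : ℤ) ^ 2 + 6 * g * (c * t) + 3 * g ^ 2) ∨
        A = B + 1 ∧ g ^ 3 * (T : ℤ) = t * (4 * (c * t : ℤ) ^ 2 - 6 * g * (c * t) + 3 * g ^ 2)) := by
  obtain ⟨g, hg, h1⟩ := cof_k' h hc ht
  have htz : (T : ℤ) = k * t := by exact_mod_cast ht
  refine ⟨g, by rcases hg with rfl | rfl <;> simp, ?_⟩
  rcases h1 with ⟨h1, h2, h3⟩ | ⟨h1, h2, h3⟩
  · left
    refine ⟨h1, ?_⟩
    have e2 : 2 * (c * t : ℤ) + g = g * q := by exact_mod_cast h2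
    have e3 : (g : ℤ) * k = (q : ℤ) ^ 2 + q + 1 := by exact_mod_cast h3
    have e4 : 2 * (c * t : ℤ) = g * q - g := by linarith only [h2]
    have e5 : 4 * (c * t : ℤ) ^ 2 = (g * q - g) ^ 2 := by rw [← e4]; ring
    have e6 : 6 * (g : ℤ) * (c * t) = 3 * g * (g * q - g) := by rw [← e4]; ring
    rw [e5, e6, htz]
    linear_combination (t : ℤ) * g ^ 2 * e3
  · right
    refine ⟨h1, ?_⟩
    have e2 : 2 * (c * t : ℤ) = g * (q + 1) := by exact_mod_cast h2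
    have e3 : (g : ℤ) * k + q = (q : ℤ) ^ 2 + 1 := by exact_mod_cast h3
    have e5 : 4 * (c * t : ℤ) ^ 2 = (g * (q + 1)) ^ 2 := by rw [← e2]; ring
    have e6 : 6 * (g : ℤ) * (c * t) = 3 * g * (g * (q + 1)) := by rw [← e2]; ring
    rw [e5, e6, htz]
    linear_combination (t : ℤ) * g ^ 2 * e3

/-- `T = X² - X + 1`, `c = X` -/
theorem no_e1 {g X c t : ℤ} (hg : g = 1 ∨ g = 3) (hX : 9 ≤ X) (ht : 1 ≤ t) (hc : c = X)
    (h : g ^ 3 * (X ^ 2 - X + 1) = t * (4 * (c * t) ^ 2 - 6 * g * (c * t) + 3 * g ^ 2)) : False := by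
  subst hc
  have key : ∀ s : ℤ, 1 ≤ s → s ≤ t → c * s ≤ c * t := fun s h1 h2 => mul_le_mul_of_nonneg_left h2 (by linarith)
  rcases hg with rfl | rfl
  · have h1 := key 1 le_rfl ht
    generalize c * t = Z at h h1
    have h2 : 4 * Z ^ 2 - 6 * Z + 3 ≤ t * (4 * Z ^ 2 - 6 * 1 * Z + 3 * 1 ^ 2) := by
      have : 0 ≤ (4 * Z ^ 2 - 6 * Z + 3) := by nlinarith only [ht, hX, h]
      nlinarith only [ht, this]
    nlinarith
  · rcases (by omega : t = 1 ∨ t = 2 ∨ 3 ≤ t) with rfl | rfl | h3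
    · nlinarith only [hX, h]
    · nlinarith
    · have h1 := key 3 (by norm_num) h3
      generalize c * t = Z at h h1
      have h2 : 3 * (4 * Z ^ 2 - 18 * Z + 27) ≤ t * (4 * Z ^ 2 - 6 * 3 * Z + 3 * 3 ^ 2) := by
        have : 0 ≤ (4 * Z ^ 2 - 18 * Z + 27) := by nlinarith
        nlinarith only [h3, this]
      nlinarith only [hX, h, h1, h2]

/-- `T = X² - X + 1`, `3 c = X + 2` -/
theorem no_e2 {g X c t : ℤ} (hg : g = 1 ∨ g = 3) (hX : 9 ≤ X) (ht : 1 ≤ t) (hc : 3 * c = X + 2)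
    (h : g ^ 3 * (X ^ 2 - X + 1) = t * (4 * (c * t) ^ 2 - 6 * g * (c * t) + 3 * g ^ 2)) : False := by
  obtain rfl : X = 3 * c - 2 := by linarith
  have key : ∀ s : ℤ, 1 ≤ s → s ≤ t → c * s ≤ c * t := fun s h1 h2 => mul_le_mul_of_nonneg_left h2 (by linarith)
  rcases hg with rfl | rfl
  · rcases (by omega : t = 1 ∨ 2 ≤ t) with rfl | h3
    · nlinarith only [hX, h]
    · have h1 := key 2 (by norm_num) h3
      generalize c * t = Z at h h1
      have h2 : 2 * (4 * Z ^ 2 - 6 * Z + 3) ≤ t * (4 * Z ^ 2 - 6 * 1 * Z + 3 * 1 ^ 2) := by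
        have : 0 ≤ (4 * Z ^ 2 - 6 * Z + 3) := by nlinarith
        nlinarith only [h3, this]
      nlinarith only [hX, h, h1, h2]
  · rcases (by omega : t = 1 ∨ t = 2 ∨ t = 3 ∨ t = 4 ∨ 5 ≤ t) with rfl | rfl | rfl | rfl | h3
    · nlinarith
    · nlinarith
    · nlinarith only [hX, h]
    · linarith only [hX, h, _root_.sq_nonneg (3 * c - 2 : ℤ)]
    · have h1 := key 5 (by norm_num) h3
      generalize c * t = Z at h h1
      have h2 : 5 * (4 * Z ^ 2 - 18 * Z + 27) ≤ t * (4 * Z ^ 2 - 6 * 3 * Z + 3 * 3 ^ 2) := by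
        have : 0 ≤ (4 * Z ^ 2 - 18 * Z + 27) := by nlinarith
        nlinarith only [h3, this]
      nlinarith only [hX, h, h1, h2]

/-- `T = X² + 1`, `c = X - 1` -/
theorem no_e3 {g X c t : ℤ} (hg : g = 1 ∨ g = 3) (hX : 9 ≤ X) (ht : 1 ≤ t) (hc : c = X - 1)
    (h : g ^ 3 * (X ^ 2 + 1) = t * (4 * (c * t) ^ 2 + 6 * g * (c * t) + 3 * g ^ 2)) : False := by
  obtain rfl : X = c + 1 := by linarith
  have key : ∀ s : ℤ, 1 ≤ s → s ≤ t → c * s ≤ c * t := fun s h1 h2 => mul_le_mul_of_nonneg_left h2 (by linarith)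
  rcases hg with rfl | rfl
  · have h1 := key 1 le_rfl ht
    generalize c * t = Z at h h1
    have h2 : 4 * Z ^ 2 + 6 * Z + 3 ≤ t * (4 * Z ^ 2 + 6 * 1 * Z + 3 * 1 ^ 2) := by
      have : 0 ≤ (4 * Z ^ 2 + 6 * Z + 3) := by linarith only [hX, h1, _root_.sq_nonneg (Z : ℤ)]
      nlinarith only [ht, hX, h1]
    nlinarith
  · rcases (by omega : t = 1 ∨ t = 2 ∨ 3 ≤ t) with rfl | rfl | h3
    · linarith only [hX, h, _root_.sq_nonneg (c * 1 : ℤ)]
    · linarith only [hX, h, _root_.sq_nonneg (c * 2 : ℤ)]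
    · have h1 := key 3 (by norm_num) h3
      generalize c * t = Z at h h1
      have h2 : 3 * (4 * Z ^ 2 + 18 * Z + 27) ≤ t * (4 * Z ^ 2 + 6 * 3 * Z + 3 * 3 ^ 2) := by
        have : 0 ≤ (4 * Z ^ 2 + 18 * Z + 27) := by linarith only [hX, h1, _root_.sq_nonneg (Z : ℤ)]
        nlinarith only [h3, h]
      nlinarith

end Cfsg.Agent.R2.Spec.X4.H18
end
end

-- part: R2/Spec/X4/H18/F4
section
prune_inst 0x4000000000400000000000000000000002000000000000000000000000000000000000800000000000040000000000000000000000000000000000000000000000000040010000008800000000000000000000000020000000000000000000000000000000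
set_option linter.all false
open scoped Cfsg.Agent.FastGrp

-- part: R2/Spec/X4/H18/TabF4
section
/-!
# `F₄(u)` : an element of order `(u² + 1)(u - 1)` (helper18)
-/

set_option autoImplicit false

namespace Cfsg.Agent.R2.Spec.X4.H18

open CoxeterSystem Cfsg Cfsg.Lie Cfsg.Lie.ChevalleyDatum
open Cfsg.Agent.ChevalleyStructure.CoxeterGeomTypes
open Cfsg.Agent.BpExc.FamInst Cfsg.Agent.BpExc.RowsUntw Cfsg.Agent.Nodes.RGDChev Cfsg.Agent.BpExc.FamExt
open Cfsg.Agent.H378.AdjTab Cfsg.Agent.H378.CycTab Cfsg.Agent.H378.ExcAdj Cfsg.Agent.H378.ExcNear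
open Cfsg.Agent.H493.PGTorus Cfsg.Agent.H129.WData Cfsg.Agent.H360.Iso Cfsg.Agent.H437.Iso Cfsg.Agent

universe u

/-- the partial products -/
def LF4c : List (Fin 4 × Mat 4) := [
    (2, ![![1, 1, 1, 0],
        ![0, -1, -1, 0],
        ![0, 2, 1, 0],
        ![0, 0, 1, 1]]),
    (1, ![![1, 1, 0, 0],
        ![0, -1, 0, 0],
        ![0, 2, 1, 0],
        ![0, 0, 0, 1]])]

/-- the eigenvector -/
def VF4c : Fin (2 + 1) → Fin 4 → ℤ := ![![-1, -1, 0, 0],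
      ![0, -1, -1, 0],
      ![-1, 0, 0, 0]]

/-- the functional -/
def UF4c : Fin 4 → ℤ := ![0, -1, 1, 0]

/-- the polynomial -/
def kF4c : Fin (2 + 1) → ℤ := ![-1, 1, -1]

theorem chainF4c : ChainOK H378.AdjF4.Am LF4c := by decide +kernel

theorem eigF4c : EigOK (hd LF4c) kF4c VF4c UF4c := by decide +kernel

theorem pvF4c (q : ℤ) : pv kF4c q = (q ^ 2 + 1) * (q - 1) := by
  simp only [pv, kF4c, Fin.sum_univ_succ, _root_.Nat.reduceAdd, _root_.Int.reduceNeg, _root_.Fin.isValue, _root_.Matrix.cons_val_zero, _root_.Fin.coe_ofNat_eq_mod, _root_.Nat.zero_mod, _root_.pow_zero, _root_.mul_one, _root_.Matrix.cons_val_succ, _root_.Fin.val_succ, _root_.zero_add, _root_.pow_one, _root_.one_mul, _root_.Finset.univ_unique, _root_.Fin.default_eq_zero, _root_.Matrix.cons_val_fin_one, _root_.Fin.val_eq_zero, _root_.neg_mul, _root_.Finset.sum_neg_distrib, _root_.Finset.sum_const, _root_.Finset.card_singleton,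 _root_.Int.nsmul_eq_mul, _root_.Nat.cast_one]
  ring

theorem f4_orderC {F : Type u} [Field F] [Finite F] :
    ∃ x : ↥(chevF4.group F), orderOf x = (Nat.card F ^ 2 + 1) * (Nat.card F - 1) := by
  let cs : CoxeterSystem CoxeterMatrix.F₄ CoxeterMatrix.F₄.Group := CoxeterMatrix.F₄.toCoxeterSystem
  have := finite_W f4T cs
  have h2 : 1 < Nat.card F := Finite.one_lt_card
  refine exists_order_one f4T cs inv_F4 H378.AdjF4.hA chainF4c eigF4c (Nat.mul_pos (by omega) (by omega)) ?_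
  rw [pvF4c]
  push_cast [h2.le]
  exact dvd_rfl

/-- primes not adjacent to `2` -/
theorem f4_near {F : Type u} [Field F] [Finite F] {r : ℕ} (hr : r.Prime) (h2 : r ≠ 2)
    (hd : r ∣ Nat.card ↥(chevF4.group F)) (hn : ¬ ∃ x : ↥(chevF4.group F), orderOf x = 2 * r) :
    (r : ℤ) ∣ ((Nat.card F : ℕ) : ℤ) ^ 4 + 1 ∨ (r : ℤ) ∣ ((Nat.card F : ℕ) : ℤ) ^ 4 - ((Nat.card F : ℕ) : ℤ) ^ 2 + 1 := by
  rcases adj_F4 F hr hd with h | ⟨-, -, -, x, y, hx, hy, hxy⟩ | h | h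
  · exact absurd h h2
  · exfalso
    apply hn
    refine ⟨y * x, ?_⟩
    rw [hxy.symm.orderOf_mul_eq_mul_orderOf_of_coprime (by
      rw [hx, hy]
      exact (Nat.coprime_primes Nat.prime_two hr).2 (Ne.symm h2)), hx, hy]
  · left
    have h3 := dvd8 hr h
    rwa [pv8] at h3
  · right
    have h3 := dvd12 hr h
    rwa [pv12] at h3

end Cfsg.Agent.R2.Spec.X4.H18
end

-- part: R2/Spec/X4/H18/F4
section
/-!
# Box X4 of S3435 : row `F₄(u)` (helper18)
-/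

set_option autoImplicit false
set_option linter.unusedVariables false

namespace Cfsg.Agent.R2.Spec.X4.H18

open Cfsg Cfsg.Agent.H426.LieFam

universe u

/-- the facts about `ω(F₄(u))` -/
structure F4Dat (v u : ℕ) (S : Type*) [Group S] : Prop where
  vp : v.Prime
  pw : ∃ f, 1 ≤ f ∧ u = v ^ f
  up : ∀ x : S, ∃ b m : ℕ, H378.OmF4.Om v u (orderOf x) b m
  near : ∀ r : ℕ, r.Prime → r ≠ 2 → r ∣ Nat.card S → (¬ ∃ x : S, orderOf x = 2 * r) →
    (r : ℤ) ∣ (u : ℤ) ^ 4 + 1 ∨ (r : ℤ) ∣ (u : ℤ) ^ 4 - u ^ 2 + 1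
  ex12 : ∃ x : S, orderOf x = u ^ 4 - u ^ 2 + 1
  ex8 : ∃ x : S, orderOf x = u ^ 4 + 1
  exA : ∃ x : S, orderOf x = (u ^ 3 - 1) * (u + 1)
  exB : ∃ x : S, orderOf x = (u ^ 3 + 1) * (u - 1)
  exC : ∃ x : S, orderOf x = (u ^ 2 + 1) * (u - 1)
  card : Nat.card S = u ^ 24 * (u ^ 2 - 1) * (u ^ 6 - 1) * (u ^ 8 - 1) * (u ^ 12 - 1)

theorem f4Dat {v f : ℕ} (hv : v.Prime) {F : Type u} [Field F] [Fintype F] [CharP F v]
    (hF : Fintype.card F = v ^ f) (hf : 1 ≤ f) : F4Dat v (v ^ f) ↥(Lie.chevF4.group F) := by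
  have := Fact.mk hv
  have hN : Nat.card F = v ^ f := by rw [Nat.card_eq_fintype_card, hF]
  refine ⟨hv, ⟨f, hf, rfl⟩, fun x => H378.OmF4.om_F4 hN x, ?_, ?_, ?_, ?_, ?_, ?_, ?_⟩
  · intro r hr h2 hd hn
    have := f4_near hr h2 hd hn
    rwa [hN] at this
  · have := H437.Iso.f4_order12 (F := F)
    rwa [hN] at this
  · have := H437.Iso.f4_order8 (F := F)
    rwa [hN] at this
  · have := H437.Iso.f4_orderA (F := F)
    rwa [hN] at this
  · have := H437.Iso.f4_orderB (F := F)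
    rwa [hN] at this
  · have := f4_orderC (F := F)
    rwa [hN] at this
  · exact Cfsg.Agent.S1062.result hF

theorem F4Dat.congr {v u : ℕ} {S X : Type*} [Group S] [Group X] (e : S ≃* X) (h : F4Dat v u X) : F4Dat v u S := by
  have key : ∀ {n : ℕ}, (∃ x : X, orderOf x = n) → ∃ x : S, orderOf x = n := by
    rintro n ⟨x, rfl⟩
    exact ⟨e.symm x, MulEquiv.orderOf_eq e.symm x⟩
  have key' : ∀ {n : ℕ}, (∃ x : S, orderOf x = n) → ∃ x : X, orderOf x = n := by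
    rintro n ⟨x, rfl⟩
    exact ⟨e x, MulEquiv.orderOf_eq e x⟩
  refine ⟨h.vp, h.pw, ?_, ?_, key h.ex12, key h.ex8, key h.exA, key h.exB, key h.exC, ?_⟩
  · intro x
    have := h.up (e x)
    rwa [MulEquiv.orderOf_eq] at this
  · intro r hr h2 hd hn
    rw [Nat.card_congr e.toEquiv] at hd
    exact h.near r hr h2 hd fun h1 => hn (key h1)
  · rw [Nat.card_congr e.toEquiv]
    exact h.card

/-! ### numbers -/

section num

variable {u : ℕ}

theorem f4c12 : ((u ^ 4 - u ^ 2 + 1 : ℕ) : ℤ) = (u : ℤ) ^ 4 - u ^ 2 + 1 := H437.Iso.f4_cast12 u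

theorem f4cA (hu : 1 ≤ u) : (((u ^ 3 - 1) * (u + 1) : ℕ) : ℤ) = ((u : ℤ) ^ 3 - 1) * (u + 1) := by
  have : 1 ≤ u ^ 3 := Nat.one_le_pow _ _ hu
  push_cast [this]
  ring

theorem f4cB (hu : 1 ≤ u) : (((u ^ 3 + 1) * (u - 1) : ℕ) : ℤ) = ((u : ℤ) ^ 3 + 1) * (u - 1) := by
  push_cast [hu]
  ring

theorem f4cC (hu : 1 ≤ u) : (((u ^ 2 + 1) * (u - 1) : ℕ) : ℤ) = ((u : ℤ) ^ 2 + 1) * (u - 1) := by
  push_cast [hu]
  ring

/-- no common prime -/
theorem no_common {r : ℕ} (hr : 5 ≤ r) {T D α β κ : ℤ} (hT : (r : ℤ) ∣ T) (hD : (r : ℤ) ∣ D)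
    (h : α * T + β * D = κ) (hκ : 0 < κ) (hκ' : κ < 5) : False := by
  have h1 : (r : ℤ) ∣ κ := by
    rw [← h]
    exact dvd_add (hT.mul_left _) (hD.mul_left _)
  have := Int.le_of_dvd hκ h1
  omega

/-- the class of a prime -/
theorem f4_cls (hu : 1 ≤ u) {w m : ℕ} (hw : w.Prime)
    (h : m ∣ u ^ 3 - 1 ∨ m ∣ u ^ 3 + 1 ∨ m ∣ (u ^ 2 + 1) * (u - 1) ∨ m ∣ (u ^ 2 + 1) * (u + 1) ∨ m ∣ u ^ 2 - 1)
    (hm : w ∣ m) : w ∣ (u ^ 3 - 1) * (u + 1) ∨ w ∣ (u ^ 3 + 1) * (u - 1) ∨ w ∣ (u ^ 2 + 1) * (u - 1) := by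
  rcases h with h | h | h | h | h
  · exact Or.inl ((hm.trans h).mul_right _)
  · exact Or.inr (Or.inl ((hm.trans h).mul_right _))
  · exact Or.inr (Or.inr (hm.trans h))
  · rcases hw.dvd_mul.1 (hm.trans h) with h1 | h1
    · exact Or.inr (Or.inr (h1.mul_right _))
    · exact Or.inl (h1.mul_left _)
  · rw [sq_sub_one hu] at h
    rcases hw.dvd_mul.1 (hm.trans h) with h1 | h1
    · exact Or.inr (Or.inl (h1.mul_left _))
    · exact Or.inl (h1.mul_left _)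

theorem f4_cls4 (hu : 1 ≤ u) {w m : ℕ} (hw : w.Prime) (h : m ∣ u ^ 4 - 1)
    (hm : w ∣ m) : w ∣ (u ^ 3 - 1) * (u + 1) ∨ w ∣ (u ^ 3 + 1) * (u - 1) ∨ w ∣ (u ^ 2 + 1) * (u - 1) := by
  have e : u ^ 4 - 1 = (u ^ 2 + 1) * (u ^ 2 - 1) := by
    obtain ⟨t, ht⟩ : ∃ t, u ^ 2 = t + 1 := ⟨u ^ 2 - 1, by have := Nat.one_le_pow 2 u hu; omega⟩
    rw [show u ^ 4 = (u ^ 2) ^ 2 by ring, ht, Nat.add_sub_cancel]
    have : (t + 1) ^ 2 = (t + 1 + 1) * t + 1 := by ring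
    omega
  rw [e] at h
  rcases hw.dvd_mul.1 (hm.trans h) with h1 | h1
  · exact Or.inr (Or.inr (h1.mul_right _))
  · exact f4_cls hu hw (m := u ^ 2 - 1) (Or.inr (Or.inr (Or.inr (Or.inr dvd_rfl)))) h1

end num

section

variable {p q k A k' B m i : ℕ} {W : ℕ → Prop} {S : Type u} [Group S] {v u : ℕ}

theorem F4Dat.u2 (D : F4Dat v u S) : 2 ≤ u := by
  obtain ⟨f, hf, rfl⟩ := D.pw
  exact D.vp.two_le.trans (Nat.le_self_pow (by omega) v)

theorem F4Dat.vu (D : F4Dat v u S) : v ∣ u := by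
  obtain ⟨f, hf, rfl⟩ := D.pw
  exact dvd_pow_self v (by omega)

/-- primes of the tori of type `8`, `12` -/
theorem f4_cop12 (hu : 1 ≤ u) {r : ℕ} (hr : 5 ≤ r) (h : (r : ℤ) ∣ (u : ℤ) ^ 4 - u ^ 2 + 1) :
    ¬ r ∣ (u ^ 3 - 1) * (u + 1) ∧ ¬ r ∣ (u ^ 3 + 1) * (u - 1) ∧ ¬ r ∣ (u ^ 2 + 1) * (u - 1) ∧ ¬ r ∣ u ^ 4 + 1 := by
  refine ⟨fun h1 => ?_, fun h1 => ?_, fun h1 => ?_, fun h1 => ?_⟩
  · have h2 : (r : ℤ) ∣ (((u ^ 3 - 1) * (u + 1) : ℕ) : ℤ) := by exact_mod_cast h1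
    rw [f4cA hu] at h2
    exact no_common hr h h2 (α := (u : ℤ) ^ 2 + 1) (β := -(u : ℤ) ^ 2 + u - 1) (κ := 2) (by ring) (by norm_num)
      (by norm_num)
  · have h2 : (r : ℤ) ∣ (((u ^ 3 + 1) * (u - 1) : ℕ) : ℤ) := by exact_mod_cast h1
    rw [f4cB hu] at h2
    exact no_common hr h h2 (α := (u : ℤ) ^ 2 + 1) (β := -(u : ℤ) ^ 2 - u - 1) (κ := 2) (by ring) (by norm_num)
      (by norm_num)
  · have h2 : (r : ℤ) ∣ (((u ^ 2 + 1) * (u - 1) : ℕ) : ℤ) := by exact_mod_cast h1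
    rw [f4cC hu] at h2
    exact no_common hr h h2 (α := (u : ℤ) ^ 2 + 2) (β := (-(u : ℤ) ^ 2 - 1) * (u + 1)) (κ := 3) (by ring)
      (by norm_num) (by norm_num)
  · have h2 : (r : ℤ) ∣ (u : ℤ) ^ 4 + 1 := by exact_mod_cast h1
    exact no_common hr h h2 (α := (u : ℤ) ^ 2) (β := 1 - (u : ℤ) ^ 2) (κ := 1) (by ring) (by norm_num) (by norm_num)

theorem f4_cop8 (hu : 1 ≤ u) {r : ℕ} (hr : 5 ≤ r) (h : (r : ℤ) ∣ (u : ℤ) ^ 4 + 1) :
    ¬ r ∣ (u ^ 3 - 1) * (u + 1) ∧ ¬ r ∣ (u ^ 3 + 1) * (u - 1) ∧ ¬ r ∣ (u ^ 2 + 1) * (u - 1) ∧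
      ¬ r ∣ u ^ 4 - u ^ 2 + 1 := by
  refine ⟨fun h1 => ?_, fun h1 => ?_, fun h1 => ?_, fun h1 => ?_⟩
  · have h2 : (r : ℤ) ∣ (((u ^ 3 - 1) * (u + 1) : ℕ) : ℤ) := by exact_mod_cast h1
    rw [f4cA hu] at h2
    exact no_common hr h h2 (α := (u : ℤ) ^ 3 + u ^ 2 - u) (β := -(u : ℤ) ^ 3 + u - 2) (κ := 2) (by ring)
      (by norm_num) (by norm_num)
  · have h2 : (r : ℤ) ∣ (((u ^ 3 + 1) * (u - 1) : ℕ) : ℤ) := by exact_mod_cast h1
    rw [f4cB hu] at h2
    exact no_common hr h h2 (α := -(u : ℤ) ^ 3 + u ^ 2 + u) (β := (u : ℤ) ^ 3 - u - 2) (κ := 2) (by ring)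
      (by norm_num) (by norm_num)
  · have h2 : (r : ℤ) ∣ (((u ^ 2 + 1) * (u - 1) : ℕ) : ℤ) := by exact_mod_cast h1
    rw [f4cC hu] at h2
    exact no_common hr h h2 (α := 1) (β := -((u : ℤ) + 1)) (κ := 2) (by ring)
      (by norm_num) (by norm_num)
  · have h2 : (r : ℤ) ∣ ((u ^ 4 - u ^ 2 + 1 : ℕ) : ℤ) := by exact_mod_cast h1
    rw [f4c12] at h2
    exact no_common hr h2 h (α := (u : ℤ) ^ 2) (β := 1 - (u : ℤ) ^ 2) (κ := 1) (by ring) (by norm_num) (by norm_num)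

/-- the torus of `k` -/
theorem f4_kT (h : SX p q k A k' B m i W S) (hg : Good W m i) (D : F4Dat v u S) :
    k ∣ u ^ 4 - u ^ 2 + 1 ∨ (k ∣ u ^ 4 + 1 ∧ u % 2 = 0) := by
  obtain ⟨r, hr, hrk⟩ := Nat.exists_prime_and_dvd h.lw.k_pos.1.ne'
  have hr7 := SX.prime h hr (Or.inl hrk)
  have hu2 := D.u2
  have hu1 : 1 ≤ u := by omega
  obtain ⟨x, hx⟩ := h.kS hg
  have hgk := h.good_k hg hr hrk
  have hdS := h.dvd_card hr (h.W_prime hr (Or.inl hrk)) hgk.1 hgk.2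
  obtain ⟨b, n, O⟩ := D.up x
  rw [hx] at O
  have hrv : (r : ℤ) ∣ (u : ℤ) ^ 4 + 1 ∨ (r : ℤ) ∣ (u : ℤ) ^ 4 - u ^ 2 + 1 → ¬ r ∣ v := by
    intro h1 hrv
    have h2 : (r : ℤ) ∣ u := by exact_mod_cast hrv.trans D.vu
    have h3 : (r : ℤ) ∣ 1 := by
      rcases h1 with h1 | h1
      · have := dvd_sub h1 (h2.mul_right ((u : ℤ) ^ 3))
        have e : (u : ℤ) ^ 4 + 1 - u * u ^ 3 = 1 := by ring
        rwa [e] at this
      · have := dvd_sub h1 (h2.mul_right ((u : ℤ) ^ 3 - u))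
        have e : (u : ℤ) ^ 4 - u ^ 2 + 1 - u * (u ^ 3 - u) = 1 := by ring
        rwa [e] at this
    have := Int.le_of_dvd (by norm_num) h3
    omega
  have hnear := D.near r hr (by omega) hdS (h.twoS hr hrk)
  have hrn : r ∣ n := by
    have h1 : r ∣ v ^ b * n := by rw [← O.eq]; exact hrk
    rcases hr.dvd_mul.1 h1 with h2 | h2
    · exact absurd (hr.dvd_of_dvd_pow h2) (hrv hnear)
    · exact h2
  have hcls : ¬ (r ∣ (u ^ 3 - 1) * (u + 1) ∨ r ∣ (u ^ 3 + 1) * (u - 1) ∨ r ∣ (u ^ 2 + 1) * (u - 1)) := by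
    rcases hnear with h1 | h1
    · have := f4_cop8 hu1 (by omega) h1
      (clear * - this; tauto)
    · have := f4_cop12 hu1 (by omega) h1
      (clear * - this; tauto)
  have hb : b = 0 := by
    by_contra hb
    exact hcls (f4_cls hu1 hr (O.s1 hb) hrn)
  have hkn : k = n := by rw [O.eq, hb, pow_zero, one_mul]
  have h0 := O.s0
  rw [← hkn] at h0
  rcases h0 with h0 | h0 | h0 | h0 | h0
  · exact Or.inl h0
  · right
    refine ⟨h0, ?_⟩
    by_contra hodd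
    have h2 : 2 ∣ u ^ 4 + 1 := by
      have : u % 2 = 1 := by omega
      have h3 : u ^ 4 % 2 = 1 := by rw [Nat.pow_mod, this]
      omega
    exact SX.no_two h hr hrk D.ex8 h2 (hrk.trans h0)
  · exact absurd (f4_cls4 hu1 hr h0 hrk) hcls
  · exact absurd (Or.inl (hrk.trans h0)) hcls
  · exact absurd (Or.inr (Or.inl (hrk.trans h0))) hcls

/-- the bound for `c` -/
theorem f4_c (h : LW p q k A k' B W) {T c : ℕ} (hc : A = c * T) (hk : k ≤ T)
    (hk' : k' ≤ u ^ 4 + u ^ 3 + u ^ 2 + u) (hu : 4 ≤ u) (hT : u ^ 4 + 1 ≤ T + u ^ 2) : 2 * c < 3 * u ^ 2 := by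
  by_contra hcon
  have h1 := h_bound h hc hk hk'
  have h2 : (3 * u ^ 2) ^ 4 ≤ (2 * c) ^ 4 := Nat.pow_le_pow_left (not_lt.1 hcon) 4
  have h3 : 81 * u ^ 8 * T ≤ 16 * c ^ 4 * T := by
    have : 81 * u ^ 8 ≤ 16 * c ^ 4 := by
      have e1 : (3 * u ^ 2) ^ 4 = 81 * u ^ 8 := by ring
      have e2 : (2 * c) ^ 4 = 16 * c ^ 4 := by ring
      omega
    exact Nat.mul_le_mul_right T this
  have h4 : 81 * u ^ 8 * T = 27 * (3 * u ^ 8 * T) := by ring
  have h5 : (u ^ 4 + u ^ 3 + u ^ 2 + u) ^ 3 < 3 * u ^ 8 * T := by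
    have hTz : (u : ℤ) ^ 4 + 1 - u ^ 2 ≤ T := by
      have : (u : ℤ) ^ 4 + 1 ≤ T + u ^ 2 := by exact_mod_cast hT
      linarith only [hT]
    have h6 : 3 * (u : ℤ) ^ 8 * ((u : ℤ) ^ 4 + 1 - u ^ 2) ≤ 3 * u ^ 8 * T :=
      mul_le_mul_of_nonneg_left hTz (by positivity)
    zify
    refine lt_of_lt_of_le ?_ h6
    obtain ⟨t, rfl⟩ : ∃ t, u = t + 4 := ⟨u - 4, by omega⟩
    push_cast
    apply pos_lt
    ring_nf
    (clear * -; positivity)
  omega

theorem not_pow_q (h : LW p q k A k' B W) (hv : v.Prime) (hpw : ∃ f, 1 ≤ f ∧ u = v ^ f) (hvp : v ≠ p) {e : ℕ}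
    (he : e ≠ 0) : q ≠ u ^ e := by
  intro hq
  obtain ⟨f, hf, hu⟩ := hpw
  obtain ⟨a, ha⟩ := h.qp
  have h1 : v ∣ p ^ a := by
    rw [← ha, hq, hu, ← pow_mul]
    exact dvd_pow_self v (Nat.mul_ne_zero (by omega) he)
  exact hvp ((Nat.prime_dvd_prime_iff_eq hv h.pp).1 (hv.dvd_of_dvd_pow h1))

theorem pow_three_inj {a b : ℤ} (h : a ^ 3 = b ^ 3) : a = b :=
  (Odd.strictMono_pow (by decide : Odd 3)).injective h

theorem f4_hT : u ^ 4 + 1 ≤ (u ^ 4 - u ^ 2 + 1) + u ^ 2 := by omega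

/-- type `12`, the torus `(u³ ∓ 1)(u ± 1)` -/
theorem f4_12AB (h : SX p q k A k' B m i W S) (hv : v.Prime) (hpw : ∃ f, 1 ≤ f ∧ u = v ^ f) (hvp : v ≠ p) (hu : 4 ≤ u)
    (hkT : k ∣ u ^ 4 - u ^ 2 + 1) (hTA : u ^ 4 - u ^ 2 + 1 ∣ A) (hk' : k' ≤ u ^ 4 + u ^ 3 + u ^ 2 + u)
    (hB : (u ^ 3 - 1) * (u + 1) ∣ B ∨ (u ^ 3 + 1) * (u - 1) ∣ B) : False := by
  obtain ⟨c, hc⟩ := hTA
  rw [mul_comm] at hc
  have hc2 := f4_c h.lw hc (Nat.le_of_dvd (by omega) hkT) hk' hu f4_hT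
  have huz : (4 : ℤ) ≤ u := by exact_mod_cast hu
  have hcz : 2 * (c : ℤ) < 3 * u ^ 2 := by exact_mod_cast hc2
  have hAz : (A : ℤ) = c * ((u : ℤ) ^ 4 - u ^ 2 + 1) := by
    rw [← f4c12]
    exact_mod_cast hc
  have habs : |(u : ℤ) ^ 2 + 1| = (u : ℤ) ^ 2 + 1 := abs_of_nonneg (by positivity)
  have fin : (A = B + 1 ∧ c * (2 : ℤ) = (u : ℤ) ^ 2 + 1) ∨ (B = A + 1 ∧ c * (2 : ℤ) = -((u : ℤ) ^ 2 + 1)) → False := by
    rintro (⟨h1, h2⟩ | ⟨h1, h2⟩)
    · apply not_pow_q h.lw hv hpw hvp (e := 2) two_ne_zero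
      rcases h.lw.side.two_mul with ⟨-, -, -, h3⟩ | ⟨-, h3, -, -⟩
      · omega
      · have h4 : 2 * (A : ℤ) = (q : ℤ) ^ 3 + 1 := by exact_mod_cast h3
        have : (q : ℤ) ^ 3 = ((u : ℤ) ^ 2) ^ 3 := by
          linear_combination -h4 + 2 * hAz + ((u : ℤ) ^ 4 - u ^ 2 + 1) * h2
        have := pow_three_inj this
        exact_mod_cast this
    · have : (0 : ℤ) ≤ c := by positivity
      linarith only [hc2, h2]
  rcases hB with hB | hB
  · refine fin (kill_eq h.lw hc hB (κ := 2) (α := (u : ℤ) ^ 2 + 1) (by norm_num) ?_ ?_)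
    · rw [f4cA (by omega), f4c12]
      exact ⟨(u : ℤ) ^ 2 - u + 1, by ring⟩
    · rw [f4cA (by omega), habs]
      nlinarith only [hu, hc2]
  · refine fin (kill_eq h.lw hc hB (κ := 2) (α := (u : ℤ) ^ 2 + 1) (by norm_num) ?_ ?_)
    · rw [f4cB (by omega), f4c12]
      exact ⟨(u : ℤ) ^ 2 + u + 1, by ring⟩
    · rw [f4cB (by omega), habs]
      nlinarith only [hu, hk', hc2]

/-- type `12`, the torus `(u² + 1)(u - 1)` -/
theorem f4_12C (h : SX p q k A k' B m i W S) (hu : 7 ≤ u)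
    (hkT : k ∣ u ^ 4 - u ^ 2 + 1) (hTA : u ^ 4 - u ^ 2 + 1 ∣ A) (hk' : k' ≤ u ^ 4 + u ^ 3 + u ^ 2 + u)
    (hB : (u ^ 2 + 1) * (u - 1) ∣ B) : False := by
  obtain ⟨c, hc⟩ := hTA
  rw [mul_comm] at hc
  have hc2 := f4_c h.lw hc (Nat.le_of_dvd (by omega) hkT) hk' (by omega) f4_hT
  have huz : (7 : ℤ) ≤ u := by exact_mod_cast hu
  have hcz : 2 * (c : ℤ) < 3 * u ^ 2 := by exact_mod_cast hc2
  have habs : |(u : ℤ) ^ 2 + 2| = (u : ℤ) ^ 2 + 2 := abs_of_nonneg (by positivity)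
  obtain ⟨t, ht⟩ := hkT
  have ht0 : 1 ≤ t := by
    rcases Nat.eq_zero_or_pos t with h0 | h0
    · rw [h0, mul_zero] at ht
      omega
    · exact h0
  rcases kill_eq h.lw hc hB (κ := 3) (α := (u : ℤ) ^ 2 + 2) (by norm_num) (by
      rw [f4cC (by omega), f4c12]
      exact ⟨((u : ℤ) ^ 2 + 1) * (u + 1), by ring⟩) (by
      rw [f4cC (by omega), habs]
      nlinarith only [hu, hc2]) with ⟨h1, h2⟩ | ⟨h1, h2⟩
  · obtain ⟨g, hg, ⟨h3, -⟩ | ⟨-, h3⟩⟩ := cof_eq h.lw hc ht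
    · omega
    · rw [f4c12] at h3
      refine no_e2 (X := (u : ℤ) ^ 2) (c := c) (t := t) hg (by nlinarith only [hu]) (by exact_mod_cast ht0) (by linarith only [h2]) ?_
      rw [← h3]
      ring
  · have : (0 : ℤ) ≤ c := by positivity
    linarith only [hc2, h2]

/-- type `12`, the torus `u⁴ + 1` -/
theorem f4_12E (h : SX p q k A k' B m i W S) (hu : 4 ≤ u)
    (hkT : k ∣ u ^ 4 - u ^ 2 + 1) (hTA : u ^ 4 - u ^ 2 + 1 ∣ A) (hk' : k' ≤ u ^ 4 + u ^ 3 + u ^ 2 + u)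
    (hB : u ^ 4 + 1 ∣ B) : False := by
  obtain ⟨c, hc⟩ := hTA
  rw [mul_comm] at hc
  have hc2 := f4_c h.lw hc (Nat.le_of_dvd (by omega) hkT) hk' (by omega) f4_hT
  have huz : (4 : ℤ) ≤ u := by exact_mod_cast hu
  have hcz : 2 * (c : ℤ) < 3 * u ^ 2 := by exact_mod_cast hc2
  have habs : |(u : ℤ) ^ 2| = (u : ℤ) ^ 2 := abs_of_nonneg (by positivity)
  obtain ⟨t, ht⟩ := hkT
  have ht0 : 1 ≤ t := by
    rcases Nat.eq_zero_or_pos t with h0 | h0
    · rw [h0, mul_zero] at ht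
      omega
    · exact h0
  rcases kill_eq h.lw hc hB (κ := 1) (α := (u : ℤ) ^ 2) (by norm_num) (by
      rw [f4c12]
      push_cast
      exact ⟨(u : ℤ) ^ 2 - 1, by ring⟩) (by
      rw [habs]
      push_cast
      nlinarith only [hu, hk', hc2]) with ⟨h1, h2⟩ | ⟨h1, h2⟩
  · obtain ⟨g, hg, ⟨h3, -⟩ | ⟨-, h3⟩⟩ := cof_eq h.lw hc ht
    · omega
    · rw [f4c12] at h3
      refine no_e1 (X := (u : ℤ) ^ 2) (c := c) (t := t) hg (by nlinarith only [hu]) (by exact_mod_cast ht0) (by linarith only [h2]) ?_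
      rw [← h3]
      ring
  · have : (0 : ℤ) ≤ c := by positivity
    linarith only [hc2, h2]

/-- type `8` -/
theorem f4_8 (h : SX p q k A k' B m i W S) (hu : 4 ≤ u)
    (hkT : k ∣ u ^ 4 + 1) (hTA : u ^ 4 + 1 ∣ A) (hk' : k' ≤ u ^ 4 + u ^ 3 + u ^ 2 + u)
    (hB : (u ^ 3 - 1) * (u + 1) ∣ B ∨ (u ^ 3 + 1) * (u - 1) ∣ B ∨ (u ^ 2 + 1) * (u - 1) ∣ B ∨
      u ^ 4 - u ^ 2 + 1 ∣ B) : False := by
  obtain ⟨c, hc⟩ := hTA
  rw [mul_comm] at hc
  have hc2 := f4_c h.lw hc (Nat.le_of_dvd (by omega) hkT) hk' (by omega) (by omega)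
  have huz : (4 : ℤ) ≤ u := by exact_mod_cast hu
  have hcz : 2 * (c : ℤ) < 3 * u ^ 2 := by exact_mod_cast hc2
  have hc0 : (0 : ℤ) ≤ c := by positivity
  have hAo := h.lw.side.A_odd
  have hco : c % 2 = 1 := by
    by_contra hcon
    have h2 : c % 2 = 0 := by omega
    rw [hc, Nat.mul_mod, h2, zero_mul] at hAo
    simp at hAo
  rcases hB with hB | hB | hB | hB
  · have habs : |(u : ℤ) ^ 3 + u ^ 2 - u| = (u : ℤ) ^ 3 + u ^ 2 - u := abs_of_nonneg (by nlinarith only [pow_pos (show (0 : ℤ) < u by linarith) 3])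
    rcases kill_eq h.lw hc hB (κ := 2) (α := (u : ℤ) ^ 3 + u ^ 2 - u) (by norm_num) (by
        rw [f4cA (by omega)]
        push_cast
        exact ⟨(u : ℤ) ^ 3 - u + 2, by ring⟩) (by
        rw [f4cA (by omega), habs]
        nlinarith only [hu, hc2, mul_self_nonneg ((u : ℤ) ^ 2 - 4)]) with ⟨h1, h2⟩ | ⟨h1, h2⟩
    · nlinarith only [hu, hc2, h2]
    · nlinarith only [hu, h2]
  · have habs : |-(u : ℤ) ^ 3 + u ^ 2 + u| = (u : ℤ) ^ 3 - u ^ 2 - u := by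
      rw [abs_of_nonpos (by nlinarith only [hu])]
      ring
    rcases kill_eq h.lw hc hB (κ := 2) (α := -(u : ℤ) ^ 3 + u ^ 2 + u) (by norm_num) (by
        rw [f4cB (by omega)]
        push_cast
        exact ⟨-(u : ℤ) ^ 3 + u + 2, by ring⟩) (by
        rw [f4cB (by omega), habs]
        nlinarith only [hu, hc2, mul_self_nonneg ((u : ℤ) ^ 2 - 4)]) with ⟨h1, h2⟩ | ⟨h1, h2⟩
    · nlinarith only [hu, h2]
    · by_cases hu4 : u = 4
      · subst hu4
        norm_num at h2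
        (clear * - hco h1 hc hc2 hB; omega)
      · have : (5 : ℤ) ≤ u := by
          have : 5 ≤ u := by (clear * - hu hu4; omega)
          exact_mod_cast this
        nlinarith only [hc2, h2, this]
  · rcases kill_eq h.lw hc hB (κ := 2) (α := 1) (by norm_num) (by
        rw [f4cC (by omega)]
        push_cast
        exact ⟨(u : ℤ) + 1, by ring⟩) (by
        rw [f4cC (by omega), abs_one]
        nlinarith only [hu, hc2]) with ⟨h1, h2⟩ | ⟨h1, h2⟩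
    · omega
    · omega
  · have habs : |1 - (u : ℤ) ^ 2| = (u : ℤ) ^ 2 - 1 := by
      rw [abs_of_nonpos (by linarith only [hc2])]
      ring
    obtain ⟨t, ht⟩ := hkT
    have ht0 : 1 ≤ t := by
      rcases Nat.eq_zero_or_pos t with h0 | h0
      · rw [h0, mul_zero] at ht
        omega
      · exact h0
    rcases kill_eq h.lw hc hB (κ := 1) (α := 1 - (u : ℤ) ^ 2) (by norm_num) (by
        rw [f4c12]
        push_cast
        exact ⟨-(u : ℤ) ^ 2, by ring⟩) (by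
        rw [f4c12, habs]
        have h16 : (16 : ℤ) ≤ (u : ℤ) ^ 2 := by nlinarith only [hu]
        nlinarith only [hc2, h16]) with ⟨h1, h2⟩ | ⟨h1, h2⟩
    · nlinarith only [hu, h2]
    · obtain ⟨g, hg, ⟨-, h3⟩ | ⟨h3, -⟩⟩ := cof_eq h.lw hc ht
      · refine no_e3 (X := (u : ℤ) ^ 2) (c := c) (t := t) hg (by nlinarith only [hu]) (by exact_mod_cast ht0) (by linarith only [h2]) ?_
        rw [← h3]
        push_cast
        ring
      · omega

/-- the case `k' = v ^ b` -/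
theorem f4_small (h : LW p q k A k' B W) (hu : 7 ≤ u) {T : ℕ} (hTA : T ∣ A) (hT : u ^ 4 + 1 ≤ T + u ^ 2)
    (hk' : k' ≤ 11 * u) : False := by
  have hA0 : 0 < A := by
    have := h.side.A_odd
    omega
  have h1 := Nat.le_of_dvd hA0 hTA
  have h2 := (h.side.k_ge h.q2).2
  have h3 : 2 * A ≤ q ^ 3 + 1 := by rcases h.side.two_mul with h3 | h3 <;> omega
  have hqq : q ≤ q ^ 2 := Nat.le_self_pow two_ne_zero q
  have hq7 : (7 : ℤ) ≤ q := by exact_mod_cast h.q7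
  have huz : (7 : ℤ) ≤ u := by exact_mod_cast hu
  have e1 : (q : ℤ) ^ 2 - q + 1 ≤ 33 * u := by
    have : q ^ 2 + 1 ≤ 33 * u + q := by omega
    have : (q : ℤ) ^ 2 + 1 ≤ 33 * u + q := by exact_mod_cast this
    linarith
  have e2 : 2 * ((u : ℤ) ^ 4 + 1 - u ^ 2) ≤ (q : ℤ) ^ 3 + 1 := by
    have h4 : 2 * (u ^ 4 + 1) ≤ q ^ 3 + 1 + 2 * u ^ 2 := by omega
    have : 2 * ((u : ℤ) ^ 4 + 1) ≤ (q : ℤ) ^ 3 + 1 + 2 * u ^ 2 := by exact_mod_cast h4
    linarith only [hT, h1, h3]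
  have e3 : (q : ℤ) ^ 3 + 1 = (q + 1) * (q ^ 2 - q + 1) := by ring
  have e4 : ((q : ℤ) + 1) * (q ^ 2 - q + 1) ≤ (q + 1) * (33 * u) := mul_le_mul_of_nonneg_left e1 (by linarith only [hq7])
  have e5 : 2 * ((u : ℤ) ^ 4 + 1 - u ^ 2) ≤ (q + 1) * (33 * u) := by linarith only [hT, h1, h3, e4]
  -- `33 (q + 1) ≥ 96 u`
  have e6 : 96 * (u : ℤ) ≤ 33 * (q + 1) := by
    have h49 : (49 : ℤ) ≤ (u : ℤ) ^ 2 := by nlinarith only [hu]
    have h50 : 49 * (u : ℤ) ^ 2 ≤ (u : ℤ) ^ 4 := by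
      have e : (u : ℤ) ^ 4 = u ^ 2 * u ^ 2 := by ring
      rw [e]
      exact mul_le_mul_of_nonneg_right h49 (by positivity)
    have h5 : u * (96 * (u : ℤ)) ≤ u * (33 * (q + 1)) := by linarith only [hT, h1, h3, e4, h50]
    exact le_of_mul_le_mul_left h5 (by linarith only [hu])
  nlinarith only [hu, e1, e6]

theorem f4_I (h : SX p q k A k' B m i W S) (hg : Good W m i) (D : F4Dat v u S) (hvp : v ≠ p) (hu : 4 ≤ u)
    (h1 : ∀ r : ℕ, r.Prime → r ∣ k' → ¬ r ∣ m ∧ ¬ r ∣ i) : False := by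
  obtain ⟨x, hx⟩ := SX.k'S h h1
  have hk25 := (k_ge h.lw).2
  have hp7 : ∀ w : ℕ, w.Prime → w ∣ k' → 7 ≤ w := fun w hw hwk => SX.prime h hw (Or.inr hwk)
  obtain ⟨s, hs, hsk⟩ := Nat.exists_prime_and_dvd h.lw.k_pos.1.ne'
  have hu1 : 1 ≤ u := by omega
  have b0 : u ^ 4 - u ^ 2 + 1 ≤ u ^ 4 + u ^ 3 + u ^ 2 + u := by omega
  have b8 : u ^ 4 + 1 ≤ u ^ 4 + u ^ 3 + u ^ 2 + u := by omega
  have bA : (u ^ 3 - 1) * (u + 1) ≤ u ^ 4 + u ^ 3 + u ^ 2 + u := by
    zify [Nat.one_le_pow 3 u hu1]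
    linarith only [sq_nonneg (u : ℤ)]
  have bB : (u ^ 3 + 1) * (u - 1) ≤ u ^ 4 + u ^ 3 + u ^ 2 + u := by
    zify [hu1]
    linarith only [sq_nonneg (u : ℤ), (by positivity : (0 : ℤ) ≤ (u : ℤ) ^ 3)]
  -- common torus
  have hcommon : ∀ T : ℕ, k ∣ T → k' ∣ T → (∃ x : S, orderOf x = T) → False := by
    rintro T h2 h3 ⟨y, rfl⟩
    obtain ⟨r, hr, hrk⟩ := Nat.exists_prime_and_dvd (show k' ≠ 1 by omega)
    exact h.lw.na hs hsk hr hrk (h.WS y) (hsk.trans h2) (hrk.trans h3)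
  obtain ⟨b, n, O⟩ := D.up x
  rw [hx] at O
  -- `k' ≤ M`, a prime of `k'` divides one of the tori `A`, `B`, `C`, `u ≥ 7` for `C`; or `k' ∣ u⁴ + 1`, ...
  have hcase : (k' ≤ u ^ 4 + u ^ 3 + u ^ 2 + u ∧ ((u ^ 3 - 1) * (u + 1) ∣ B ∨ (u ^ 3 + 1) * (u - 1) ∣ B ∨
      (7 ≤ u ∧ (u ^ 2 + 1) * (u - 1) ∣ B))) ∨ k' ∣ u ^ 4 + 1 ∨ k' ∣ u ^ 4 - u ^ 2 + 1 ∨ (7 ≤ u ∧ k' ≤ 11 * u) := by
    have cls : ∀ w : ℕ, w.Prime → w ∣ k' → (w ∣ (u ^ 3 - 1) * (u + 1) ∨ w ∣ (u ^ 3 + 1) * (u - 1) ∨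
        w ∣ (u ^ 2 + 1) * (u - 1)) → 7 ≤ u → ((u ^ 3 - 1) * (u + 1) ∣ B ∨ (u ^ 3 + 1) * (u - 1) ∣ B ∨
        (7 ≤ u ∧ (u ^ 2 + 1) * (u - 1) ∣ B)) := by
      rintro w hw hwk (h2 | h2 | h2) h7
      · exact Or.inl (SX.dvdB h D.exA hw hwk h2)
      · exact Or.inr (Or.inl (SX.dvdB h D.exB hw hwk h2))
      · exact Or.inr (Or.inr ⟨h7, SX.dvdB h D.exC hw hwk h2⟩)
    obtain ⟨r, hr, hrk⟩ := Nat.exists_prime_and_dvd (show k' ≠ 1 by omega)
    by_cases hb : b = 0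
    · have hkn : k' = n := by rw [O.eq, hb, pow_zero, one_mul]
      have h0 := O.s0
      rw [← hkn] at h0
      rcases h0 with h0 | h0 | h0 | h0 | h0
      · exact Or.inr (Or.inr (Or.inl h0))
      · exact Or.inr (Or.inl h0)
      · left
        have hu4 : 1 < u ^ 4 := Nat.one_lt_pow (by norm_num) (by omega)
        have hle := Nat.le_of_dvd (by omega) h0
        refine ⟨by omega, cls r hr hrk (f4_cls4 hu1 hr h0 hrk) ?_⟩
        by_contra hcon
        have hcop : ∀ y : ℕ, y.Prime → y < 7 → k'.Coprime y := fun y hy hy7 =>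
          ((hy.coprime_iff_not_dvd.2 fun hd => by have := hp7 y hy hd; omega)).symm
        have c2 := hcop 2 Nat.prime_two (by norm_num)
        have c3 := hcop 3 Nat.prime_three (by norm_num)
        have c5 := hcop 5 Nat.prime_five (by norm_num)
        rcases (by omega : u = 4 ∨ u = 5 ∨ u = 6) with h4 | h4 | h4
        · subst h4
          have h5 : k' ∣ 3 * (5 * 17) := by norm_num at h0 ⊢; exact h0
          have h6 := Nat.le_of_dvd (by norm_num) (c5.dvd_of_dvd_mul_left (c3.dvd_of_dvd_mul_left h5))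
          omega
        · subst h4
          have h5 : k' ∣ 2 ^ 4 * (3 * 13) := by norm_num at h0 ⊢; exact h0
          have h6 := Nat.le_of_dvd (by norm_num) (c3.dvd_of_dvd_mul_left ((c2.pow_right 4).dvd_of_dvd_mul_left h5))
          omega
        · subst h4
          have h5 : k' ∣ 5 * (7 * 37) := by norm_num at h0 ⊢; exact h0
          obtain ⟨f, hf, hu'⟩ := D.pw
          have h2 : 2 ∣ v ^ f := by rw [← hu']; norm_num
          have h3 : 3 ∣ v ^ f := by rw [← hu']; norm_num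
          have h4 := (Nat.prime_dvd_prime_iff_eq Nat.prime_two D.vp).1 (Nat.prime_two.dvd_of_dvd_pow h2)
          have h5 := (Nat.prime_dvd_prime_iff_eq Nat.prime_three D.vp).1 (Nat.prime_three.dvd_of_dvd_pow h3)
          omega
      · left
        have hu3 : 1 < u ^ 3 := Nat.one_lt_pow (by norm_num) (by omega)
        have hle := Nat.le_of_dvd (Nat.mul_pos (by omega) (by omega)) h0
        exact ⟨by omega, Or.inl (SX.dvdB h D.exA hr hrk (hrk.trans h0))⟩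
      · left
        have hle := Nat.le_of_dvd (Nat.mul_pos (by omega) (by omega)) h0
        exact ⟨by omega, Or.inr (Or.inl (SX.dvdB h D.exB hr hrk (hrk.trans h0)))⟩
    · have hvk : v ∣ k' := by
        rw [O.eq]
        exact (dvd_pow_self v hb).mul_right _
      have hv7 := hp7 v D.vp hvk
      have hvu : v ≤ u := Nat.le_of_dvd (by omega) D.vu
      have hu7 : 7 ≤ u := by omega
      have hpow : v ^ b = v * v ^ (b - 1) := by
        rw [← pow_succ']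
        congr 1
        omega
      by_cases hn : n = 1
      · right; right; right
        refine ⟨hu7, ?_⟩
        rw [O.eq, hn, mul_one, hpow]
        have := O.le hb
        calc v * v ^ (b - 1) ≤ u * 11 := Nat.mul_le_mul hvu this
          _ = 11 * u := mul_comm _ _
      · left
        obtain ⟨w, hw, hwn⟩ := Nat.exists_prime_and_dvd hn
        have hwk : w ∣ k' := by rw [O.eq]; exact hwn.mul_left _
        have hw7 := hp7 w hw hwk
        have hb1 : b = 1 := by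
          by_contra hb1
          have h6 : 6 ≤ v ^ (b - 1) := by
            have : v ≤ v ^ (b - 1) := Nat.le_self_pow (by omega) v
            omega
          have := Nat.le_of_dvd (by norm_num) (hwn.trans (O.s6 hb h6))
          omega
        refine ⟨?_, cls w hw hwk (f4_cls hu1 hw (O.s1 hb) hwn) hu7⟩
        have hu2 : 1 < u ^ 2 := Nat.one_lt_pow (by norm_num) (by omega)
        have hu3 : 1 < u ^ 3 := Nat.one_lt_pow (by norm_num) (by omega)
        have hn3 : n ≤ u ^ 3 + u ^ 2 + u + 1 := by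
          rcases O.s1 hb with h2 | h2 | h2 | h2 | h2
          · have := Nat.le_of_dvd (by omega) h2; omega
          · have := Nat.le_of_dvd (by omega) h2; omega
          · have h3 := Nat.le_of_dvd (Nat.mul_pos (by omega) (by omega)) h2
            have h4 : (u ^ 2 + 1) * (u - 1) ≤ (u ^ 2 + 1) * (u + 1) := Nat.mul_le_mul_left _ (by omega)
            have h5 : (u ^ 2 + 1) * (u + 1) = u ^ 3 + u ^ 2 + u + 1 := by ring
            omega
          · have h3 := Nat.le_of_dvd (Nat.mul_pos (by omega) (by omega)) h2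
            have h5 : (u ^ 2 + 1) * (u + 1) = u ^ 3 + u ^ 2 + u + 1 := by ring
            omega
          · have := Nat.le_of_dvd (by omega) h2; omega
        rw [O.eq, hb1, pow_one]
        calc v * n ≤ u * (u ^ 3 + u ^ 2 + u + 1) := Nat.mul_le_mul hvu hn3
          _ = _ := by ring
  rcases f4_kT h hg D with hkT | ⟨hkT, hev⟩
  · have hTA := SX.dvdA h D.ex12 hkT
    rcases hcase with ⟨hle, h2 | h2 | ⟨h7, h2⟩⟩ | h2 | h2 | ⟨h7, h2⟩
    · exact f4_12AB h D.vp D.pw hvp hu hkT hTA hle (Or.inl h2)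
    · exact f4_12AB h D.vp D.pw hvp hu hkT hTA hle (Or.inr h2)
    · exact f4_12C h h7 hkT hTA hle h2
    · obtain ⟨r, hr, hrk⟩ := Nat.exists_prime_and_dvd (show k' ≠ 1 by omega)
      exact f4_12E h hu hkT hTA ((Nat.le_of_dvd (by positivity) h2).trans b8) (SX.dvdB h D.ex8 hr hrk (hrk.trans h2))
    · exact hcommon _ hkT h2 D.ex12
    · exact f4_small h.lw h7 hTA (by omega) h2
  · have hTA := SX.dvdA h D.ex8 hkT
    rcases hcase with ⟨hle, h2 | h2 | ⟨h7, h2⟩⟩ | h2 | h2 | ⟨h7, h2⟩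
    · exact f4_8 h hu hkT hTA hle (Or.inl h2)
    · exact f4_8 h hu hkT hTA hle (Or.inr (Or.inl h2))
    · exact f4_8 h hu hkT hTA hle (Or.inr (Or.inr (Or.inl h2)))
    · exact hcommon _ hkT h2 D.ex8
    · obtain ⟨r, hr, hrk⟩ := Nat.exists_prime_and_dvd (show k' ≠ 1 by omega)
      exact f4_8 h hu hkT hTA ((Nat.le_of_dvd (by omega) h2).trans b0)
        (Or.inr (Or.inr (Or.inr (SX.dvdB h D.ex12 hr hrk (hrk.trans h2)))))
    · exact f4_small h.lw h7 hTA (by omega) h2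

/-- `y ^ (2 a) ∣ n` -/
theorem fact_lt {y n : ℕ} (hy : y.Prime) (hn : n ≠ 0) (hyn : y ∣ n) {a b : ℕ} (hab : a * b ∣ n)
    (ha : y ^ n.factorization y ∣ a) (hb : y ^ n.factorization y ∣ b) : False := by
  have h1 : y ^ (n.factorization y + n.factorization y) ∣ n := by
    rw [pow_add]
    exact (mul_dvd_mul ha hb).trans hab
  have h2 := (hy.pow_dvd_iff_le_factorization hn).1 h1
  have h3 := (hy.pow_dvd_iff_le_factorization hn).1 (show y ^ 1 ∣ n by rwa [pow_one])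
  omega

theorem F4Dat.not_syl (D : F4Dat v u S) [Finite S] (x : S) : ¬ v ^ (Nat.card S).factorization v ∣ orderOf x := by
  intro hd
  obtain ⟨f, hf, hu'⟩ := D.pw
  have h1 : v ^ (f * 24) ∣ Nat.card S := by
    rw [pow_mul, ← hu', D.card]
    exact (((dvd_mul_right _ _).mul_right _).mul_right _).mul_right _
  have h2 := (D.vp.pow_dvd_iff_le_factorization Nat.card_pos.ne').1 h1
  obtain ⟨b, n, O⟩ := D.up x
  rw [O.eq] at hd
  have h3 : v ^ (Nat.card S).factorization v ∣ v ^ b :=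
    (Nat.Coprime.pow_left _ ((Nat.Prime.coprime_iff_not_dvd D.vp).2 O.nd)).dvd_of_dvd_mul_right hd
  have h4 := (Nat.pow_dvd_pow_iff_le_right D.vp.one_lt).1 h3
  have h5 := O.le (by omega)
  have h6 : v ^ 4 ≤ v ^ (b - 1) := Nat.pow_le_pow_right D.vp.pos (by omega)
  have h7 : 2 ^ 4 ≤ v ^ 4 := Nat.pow_le_pow_left D.vp.two_le 4
  omega

/-- a cyclic Sylow subgroup -/
theorem F4Dat.cyc (D : F4Dat v u S) [Finite S] {y : ℕ} (hy : y.Prime) (hyS : y ∣ Nat.card S) (hyv : y ≠ v)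
    (hx : ∃ x : S, y ^ (Nat.card S).factorization y ∣ orderOf x) :
    y ∣ u ^ 4 - u ^ 2 + 1 ∨ y ∣ u ^ 4 + 1 := by
  obtain ⟨x, hx⟩ := hx
  have hu2 := D.u2
  have hn0 : Nat.card S ≠ 0 := Nat.card_pos.ne'
  obtain ⟨b, n, O⟩ := D.up x
  have h1 : y ^ (Nat.card S).factorization y ∣ n := by
    rw [O.eq] at hx
    exact (Nat.Coprime.pow_left _ (Nat.Coprime.pow_right _ ((Nat.coprime_primes hy D.vp).2 hyv))).dvd_of_dvd_mul_left hx
  have hya : y ∣ y ^ (Nat.card S).factorization y := by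
    have h3 := (hy.pow_dvd_iff_le_factorization hn0).1 (show y ^ 1 ∣ Nat.card S by rwa [pow_one])
    exact dvd_pow_self y (by omega)
  have e4 : u ^ 4 - 1 ∣ u ^ 8 - 1 := Nat.pow_sub_one_dvd_pow_sub_one u (by norm_num : 4 ∣ 8)
  have e4' : u ^ 4 - 1 ∣ u ^ 12 - 1 := Nat.pow_sub_one_dvd_pow_sub_one u (by norm_num : 4 ∣ 12)
  have e6 : u ^ 6 - 1 ∣ u ^ 12 - 1 := Nat.pow_sub_one_dvd_pow_sub_one u (by norm_num : 6 ∣ 12)
  have d1 : (u ^ 8 - 1) * (u ^ 12 - 1) ∣ Nat.card S := by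
    rw [D.card]
    exact ⟨u ^ 24 * (u ^ 2 - 1) * (u ^ 6 - 1), by ring⟩
  have d2 : (u ^ 6 - 1) * (u ^ 12 - 1) ∣ Nat.card S := by
    rw [D.card]
    exact ⟨u ^ 24 * (u ^ 2 - 1) * (u ^ 8 - 1), by ring⟩
  have k4 : ¬ y ^ (Nat.card S).factorization y ∣ u ^ 4 - 1 := fun hd =>
    fact_lt hy hn0 hyS d1 (hd.trans e4) (hd.trans e4')
  have k6 : ¬ y ^ (Nat.card S).factorization y ∣ u ^ 6 - 1 := fun hd =>
    fact_lt hy hn0 hyS d2 hd (hd.trans e6)
  have f3 : u ^ 6 - 1 = (u ^ 3 - 1) * (u ^ 3 + 1) := by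
    have := Nat.one_le_pow 3 u (by omega)
    obtain ⟨t, ht⟩ : ∃ t, u ^ 3 = t + 1 := ⟨u ^ 3 - 1, by omega⟩
    rw [show u ^ 6 = (u ^ 3) ^ 2 by ring, ht, Nat.add_sub_cancel]
    have : (t + 1) ^ 2 = t * (t + 1 + 1) + 1 := by ring
    omega
  have hA : (u ^ 3 - 1) * (u + 1) ∣ u ^ 6 - 1 := by
    rw [f3]
    have := Odd.nat_add_dvd_pow_add_pow u 1 (n := 3) (by decide)
    rw [one_pow] at this
    exact mul_dvd_mul_left _ this
  have hB : (u ^ 3 + 1) * (u - 1) ∣ u ^ 6 - 1 := by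
    rw [f3, mul_comm]
    exact mul_dvd_mul_right (by simpa only [] using Nat.sub_one_dvd_pow_sub_one u 3) _
  have g4 : u ^ 4 - 1 = (u ^ 2 + 1) * ((u - 1) * (u + 1)) := by
    rw [← sq_sub_one (by omega)]
    obtain ⟨t, ht⟩ : ∃ t, u ^ 2 = t + 1 := ⟨u ^ 2 - 1, by have := Nat.one_le_pow 2 u (by omega); omega⟩
    rw [show u ^ 4 = (u ^ 2) ^ 2 by ring, ht, Nat.add_sub_cancel]
    have : (t + 1) ^ 2 = (t + 1 + 1) * t + 1 := by ring
    omega
  by_cases hb : b = 0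
  · rcases O.s0 with h0 | h0 | h0 | h0 | h0
    · exact Or.inl (hya.trans (h1.trans h0))
    · exact Or.inr (hya.trans (h1.trans h0))
    · exact absurd (h1.trans h0) k4
    · exact absurd (h1.trans (h0.trans hA)) k6
    · exact absurd (h1.trans (h0.trans hB)) k6
  · exfalso
    rcases O.s1 hb with h0 | h0 | h0 | h0 | h0
    · exact k6 (h1.trans (h0.trans (by rw [f3]; exact dvd_mul_right _ _)))
    · exact k6 (h1.trans (h0.trans (by rw [f3]; exact dvd_mul_left _ _)))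
    · exact k4 (h1.trans (h0.trans (by rw [g4]; exact mul_dvd_mul_left _ (dvd_mul_right _ _))))
    · exact k4 (h1.trans (h0.trans (by rw [g4]; exact mul_dvd_mul_left _ (dvd_mul_left _ _))))
    · exact k4 (h1.trans (h0.trans (by rw [g4, ← sq_sub_one (by omega)]; exact dvd_mul_left _ _)))

theorem f4_II (h : SX p q k A k' B m i W S) (hg : Good W m i) (D : F4Dat v u S) (hvp : v ≠ p) (hu : 4 ≤ u)
    (hF : ∀ w : ℕ, w.Prime → 5 ≤ w → F1.FldDat v w S) (hw : ∃ w : ℕ, w.Prime ∧ w ∣ k' ∧ w ∣ m * i)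
    (h2 : ∀ r : ℕ, r.Prime → (r ∣ (q ^ 2 + 1) / 2 ∨ r = p) → ¬ r ∣ m ∧ ¬ r ∣ i) : False := by
  have := h.fin
  obtain ⟨w, hwp, hwk, hwmi⟩ := hw
  have hw7 := SX.prime h hwp (Or.inr hwk)
  have hwm : w ∣ m := by
    rcases hwp.dvd_mul.1 hwmi with h3 | h3
    · exact h3
    · exact (SX.noFld h hwp hwk h3 h2 (hF w hwp (by omega))).elim
  have hz25 := z_ge h.lw
  have hp3 := h.lw.p3
  have hu1 : 1 ≤ u := by omega
  have hvz : ¬ v ∣ (q ^ 2 + 1) / 2 := by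
    intro hd
    obtain ⟨x, hx⟩ := SX.cyc h hwp hwk hwm D.vp (Or.inl hd)
    exact D.not_syl x hx
  have hvpz : ¬ v ∣ p * ((q ^ 2 + 1) / 2) := by
    intro hd
    rcases D.vp.dvd_mul.1 hd with h3 | h3
    · exact hvp ((Nat.prime_dvd_prime_iff_eq D.vp h.lw.pp).1 h3)
    · exact hvz h3
  obtain ⟨x, hx⟩ := SX.pzS h h2
  -- a prime of `z`
  obtain ⟨y, hy, hyz⟩ := Nat.exists_prime_and_dvd (show (q ^ 2 + 1) / 2 ≠ 1 by omega)
  have hy5 := (h.lw.side.z_prime h.lw.q2 hy hyz).1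
  have hyS : y ∣ Nat.card S := h.dvd_card hy (h.W_prime hy (Or.inr (Or.inr (Or.inl hyz)))) (h2 y hy (Or.inl hyz)).1
    (h2 y hy (Or.inl hyz)).2
  have hyv : y ≠ v := by
    rintro rfl
    exact hvz hyz
  have hyT := D.cyc hy hyS hyv (SX.cyc h hwp hwk hwm hy (Or.inl hyz))
  have hypz : y ∣ p * ((q ^ 2 + 1) / 2) := hyz.mul_left _
  obtain ⟨b, n, O⟩ := D.up x
  rw [hx] at O
  have hb : b = 0 := by
    by_contra hb
    exact hvpz (by rw [O.eq]; exact (dvd_pow_self v hb).mul_right _)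
  have hn : p * ((q ^ 2 + 1) / 2) = n := by rw [O.eq, hb, pow_zero, one_mul]
  have h0 := O.s0
  rw [← hn] at h0
  have hcls : ¬ (y ∣ (u ^ 3 - 1) * (u + 1) ∨ y ∣ (u ^ 3 + 1) * (u - 1) ∨ y ∣ (u ^ 2 + 1) * (u - 1)) := by
    rcases hyT with h1 | h1
    · have h1' : (y : ℤ) ∣ (u : ℤ) ^ 4 - u ^ 2 + 1 := by
        rw [← f4c12]
        exact_mod_cast h1
      have := f4_cop12 hu1 hy5 h1'
      (clear * - this; tauto)
    · have h1' : (y : ℤ) ∣ (u : ℤ) ^ 4 + 1 := by exact_mod_cast h1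
      have := f4_cop8 hu1 hy5 h1'
      (clear * - this; tauto)
  have h0' : p * ((q ^ 2 + 1) / 2) ∣ u ^ 4 - u ^ 2 + 1 ∨ p * ((q ^ 2 + 1) / 2) ∣ u ^ 4 + 1 := by
    rcases h0 with h0 | h0 | h0 | h0 | h0
    · exact Or.inl h0
    · exact Or.inr h0
    · exact absurd (f4_cls4 hu1 hy h0 hypz) hcls
    · exact absurd (Or.inl (hypz.trans h0)) hcls
    · exact absurd (Or.inr (Or.inl (hypz.trans h0))) hcls
  -- no torus for `k` and `p z`
  have hcommon : ∀ T : ℕ, k ∣ T → p * ((q ^ 2 + 1) / 2) ∣ T → (∃ x : S, orderOf x = T) → False := by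
    rintro T h3 h4 ⟨g, rfl⟩
    obtain ⟨s, hs, hsk⟩ := Nat.exists_prime_and_dvd h.lw.k_pos.1.ne'
    exact h.lw.naz hs (Or.inl hsk) h.lw.pp (Or.inr rfl) (h.WS g) (hsk.trans h3) ((dvd_mul_right _ _).trans h4)
  have hqz : (7 : ℤ) ≤ q := by exact_mod_cast h.lw.q7
  have hpz : (3 : ℤ) ≤ p := by exact_mod_cast hp3
  have huz : (4 : ℤ) ≤ u := by exact_mod_cast hu
  have h16 : (16 : ℤ) ≤ (u : ℤ) ^ 2 := by nlinarith only [hu]
  have e42 : (u : ℤ) ^ 4 = (u : ℤ) ^ 2 * (u : ℤ) ^ 2 := by ring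
  rcases f4_kT h hg D with hkT | ⟨hkT, hev⟩
  · have hTA := SX.dvdA h D.ex12 hkT
    rcases h0' with h0 | h0
    · exact hcommon _ hkT h0 D.ex12
    · obtain ⟨κ, hκ, -, hX⟩ := SX.pzD h D.ex8 h0
      have hκ' : κ = 1 ∨ κ = 2 ∨ κ = 4 := by (clear * - hκ; tauto)
      have hXz : 2 * ((u : ℤ) ^ 4 + 1) = κ * (p * ((q : ℤ) ^ 2 + 1)) := by exact_mod_cast hX
      have hqu : (q : ℤ) < (u : ℤ) ^ 2 := g2_q_lt hκ hXz hpz (by nlinarith only [h16]) (by positivity)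
      refine pz_kill' h.lw hTA hκ' hX (Y := (u : ℤ) ^ 2) ?_ ?_ ?_
      · rw [f4c12]
        push_cast
        rw [show (u : ℤ) ^ 4 - u ^ 2 + 1 - (u ^ 4 + 1) = -(u : ℤ) ^ 2 by ring, abs_neg, abs_of_nonneg (by positivity)]
      · rw [f4c12]
        push_cast
        nlinarith only [h16, hqu]
      · linarith only [h16, hqu]
  · have hTA := SX.dvdA h D.ex8 hkT
    rcases h0' with h0 | h0
    · obtain ⟨κ, hκ, -, hX⟩ := SX.pzD h D.ex12 h0
      have hκ' : κ = 1 ∨ κ = 2 ∨ κ = 4 := by (clear * - hκ; tauto)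
      have hXz : 2 * ((u : ℤ) ^ 4 - u ^ 2 + 1) = κ * (p * ((q : ℤ) ^ 2 + 1)) := by
        rw [← f4c12]
        exact_mod_cast hX
      have hqu : (q : ℤ) < (u : ℤ) ^ 2 := g2_q_lt hκ hXz hpz (by linarith only [h16, _root_.mul_self_nonneg (↑u ^ 2 : ℤ)]) (by positivity)
      refine pz_kill' h.lw hTA hκ' hX (Y := (u : ℤ) ^ 2) ?_ ?_ ?_
      · rw [f4c12]
        push_cast
        rw [show (u : ℤ) ^ 4 + 1 - (u ^ 4 - u ^ 2 + 1) = (u : ℤ) ^ 2 by ring, abs_of_nonneg (by positivity)]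
      · rw [f4c12]
        push_cast
        nlinarith only [hqu]
      · linarith only [h16, hqu]
    · exact hcommon _ hkT h0 D.ex8

/-- `k = 73` -/
theorem k73 (h : LW p q k A k' B W) (h6 : k ∣ 73) (hv : v.Prime) (hv3 : v ∣ 3) (hvp : v ≠ p) : False := by
  have hk19 := (k_ge h).1
  have hq7 := h.q7
  have h7 : Nat.Prime 73 := by norm_num
  have hk : k = 73 := by
    rcases (Nat.dvd_prime h7).1 h6 with h8 | h8
    · omega
    · exact h8
  have hv3 : v = 3 := (Nat.prime_dvd_prime_iff_eq hv Nat.prime_three).1 hv3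
  have hqo := h.q_odd
  have hq9 : q = 9 := by
    rcases h.side.cof h.q2 with ⟨-, h2, -⟩ | ⟨-, -, h2⟩
    · rcases h2 with h2 | ⟨h2, -⟩
      · rw [hk] at h2
        exfalso
        have : q < 9 := by nlinarith only [h2]
        interval_cases q <;> omega
      · rw [hk] at h2
        exfalso
        have : q < 15 := by nlinarith only [h2]
        interval_cases q <;> omega
    · have hqq : q ≤ q ^ 2 := Nat.le_self_pow two_ne_zero q
      rcases h2 with h2 | ⟨h2, -⟩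
      · rw [hk] at h2
        have h3 : q ^ 2 + 1 = 73 + q := by omega
        have : q < 10 := by nlinarith only [h3]
        have h7 : 7 ≤ q := hq7
        clear h2 hqq
        interval_cases q
        · norm_num at h3
        · norm_num at h3
        · rfl
      · rw [hk] at h2
        exfalso
        have h3 : q ^ 2 + 1 = 219 + q := by omega
        have : q < 16 := by nlinarith only [h3]
        interval_cases q <;> omega
  apply hvp
  have h8 := h.p_dvd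
  rw [hq9] at h8
  rw [hv3]
  exact ((Nat.prime_dvd_prime_iff_eq h.pp Nat.prime_three).1
    (h.pp.dvd_of_dvd_pow (show p ∣ 3 ^ 2 by norm_num; exact h8))).symm

/-- **Row `F₄(u)`.** -/
theorem row_f4 {v f : ℕ} (h : SX p q k A k' B m i W S) (hg : Good W m i) (hI : Fam.Is v f S Fam.f4) (hv : v.Prime)
    (hvp : v ≠ p) : False := by
  have hF : ∀ w : ℕ, w.Prime → 5 ≤ w → F1.FldDat v w S := fun w hw hw5 =>
    fldDat_exc (t := Fam.f4) trivial hv hI hw hw5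
  obtain ⟨F, _, _, _, hcard, ⟨e⟩⟩ := hI
  have hf := f_pos_of_card (n := 1) (by rw [hcard, pow_one])
  have D : F4Dat v (v ^ f) S := (f4Dat hv hcard hf).congr e
  have hk19 := (k_ge h.lw).1
  have hu2 := D.u2
  have hq7 := h.lw.q7
  have hu : 4 ≤ v ^ f := by
    by_contra hcon
    have h34 : v ^ f = 2 ∨ v ^ f = 3 := by omega
    have h6 := f4_kT h hg D
    rcases h34 with h5 | h5
    · rw [h5] at h6
      norm_num at h6
      rcases h6 with h6 | h6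
      · have h7 := Nat.le_of_dvd (by norm_num) h6
        omega
      · have h7 := Nat.le_of_dvd (by norm_num) h6
        omega
    · rw [h5] at h6
      norm_num at h6
      exact k73 h.lw h6 hv (by rw [← h5]; exact dvd_pow_self v (by omega)) hvp
  rcases h.dich with h1 | ⟨hw, h2⟩
  · exact f4_I h hg D hvp hu h1
  · exact f4_II h hg D hvp hu hF hw h2

end

end Cfsg.Agent.R2.Spec.X4.H18
end

private theorem dce_dece02057129 : _root_.True := by
  try have : _root_.True := by simp only [_root_.Cfsg.Agent.R2.Spec.X4.H18.kF4c.eq_1]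
  exact _root_.True.intro
end

-- part: R2/Spec/X4/H18/E6Dat
section
prune_inst 0x400001000040000000000000040001c02b2000000000b80001140020006861802000006204020080280c4a004003000481100000002000000000000000118008000004600d289a000800000002002000000000000020000000000000000041000000000000
set_option linter.all false
open scoped Cfsg.Agent.FastGrp

-- part: R2/Spec/X4/H18/TabE6
section
/-!
# `E₆(u)`, `²E₆(u)` : the tori `(x⁴ + 1)(x² - 1)`, `(x⁴ - 1)(x² - x + 1)`, the primes not adjacent to `2` (helper18)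
-/

set_option autoImplicit false
set_option linter.unusedSectionVars false

namespace Cfsg.Agent.R2.Spec.X4.H18

open CoxeterSystem Subgroup Cfsg Cfsg.Lie Cfsg.Lie.ChevalleyDatum
open Cfsg.Agent.ChevalleyStructure.CoxeterGeomTypes
open Cfsg.Agent.BpExc.FamInst Cfsg.Agent.BpExc.RowsUntw Cfsg.Agent.Nodes Cfsg.Agent.Nodes.RGDChev
open Cfsg.Agent.BpExc.FamExt Cfsg.Agent.BpExc.TowChev
open Cfsg.Agent.H378.AdjTab Cfsg.Agent.H378.CycTab Cfsg.Agent.H378.ExcAdj Cfsg.Agent.H378.ExcNear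
open Cfsg.Agent.H493.PGTorus Cfsg.Agent.H493.PGCyc Cfsg.Agent.H129.WData Cfsg.Agent.H360.Iso Cfsg.Agent.H437.Iso
open Cfsg.Agent.H366.Iso Cfsg.Agent

universe u

/-- the partial products -/
def LE6d : List (Fin 6 × Mat 6) := [
    (4, ![![-1, 0, -1, -1, -1, 0],
        ![0, -1, 0, -1, -1, 0],
        ![1, 0, 0, 0, 0, 0],
        ![0, 1, 1, 1, 1, 0],
        ![0, 0, 0, 1, 0, 0],
        ![0, 0, 0, 0, 1, 1]]),
    (3, ![![-1, 0, -1, -1, 0, 0],
        ![0, -1, 0, -1, 0, 0],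
        ![1, 0, 0, 0, 0, 0],
        ![0, 1, 1, 1, 0, 0],
        ![0, 0, 0, 1, 1, 0],
        ![0, 0, 0, 0, 0, 1]]),
    (2, ![![-1, 0, -1, 0, 0, 0],
        ![0, -1, 0, 0, 0, 0],
        ![1, 0, 0, 0, 0, 0],
        ![0, 1, 1, 1, 0, 0],
        ![0, 0, 0, 0, 1, 0],
        ![0, 0, 0, 0, 0, 1]]),
    (1, ![![-1, 0, 0, 0, 0, 0],
        ![0, -1, 0, 0, 0, 0],
        ![1, 0, 1, 0, 0, 0],
        ![0, 1, 0, 1, 0, 0],
        ![0, 0, 0, 0, 1, 0],
        ![0, 0, 0, 0, 0, 1]]),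
    (0, ![![-1, 0, 0, 0, 0, 0],
        ![0, 1, 0, 0, 0, 0],
        ![1, 0, 1, 0, 0, 0],
        ![0, 0, 0, 1, 0, 0],
        ![0, 0, 0, 0, 1, 0],
        ![0, 0, 0, 0, 0, 1]])]

/-- the eigenvector -/
def VE6d : Fin (5 + 1) → Fin 6 → ℤ := ![![1, 1, 2, 2, 2, 1],
      ![0, 1, 1, 2, 1, 1],
      ![0, 0, -1, 0, 0, 0],
      ![0, -1, 0, -1, 0, 0],
      ![0, 1, 1, 1, 1, 1],
      ![1, 1, 1, 2, 1, 1]]

/-- the functional -/
def UE6d : Fin 6 → ℤ := ![0, 0, 0, 0, 1, -1]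

/-- the polynomial -/
def kE6d : Fin (5 + 1) → ℤ := ![-1, 0, 1, 0, -1, 0]

theorem chainE6d : ChainOK H378.AdjE6.Am LE6d :=
  H129.ChainF.ok H129.ChainF.i6 H129.ChainF.m6 (H129.ChainF.c6 <| H129.ChainF.c6 <| H129.ChainF.c6 <| H129.ChainF.c6 <| H129.ChainF.c6 <| H129.ChainF.nil) (by decide +kernel)

theorem eigE6d : EigOK (hd LE6d) kE6d VE6d UE6d :=
  H493.EigF.ok (H493.EigF.hT H493.EigF.t6) H493.EigF.r6 (H493.EigF.mc H493.EigF.r6 <| H493.EigF.mc H493.EigF.r6 <| H493.EigF.mc H493.EigF.r6 <| H493.EigF.mc H493.EigF.r6 <| H493.EigF.mc H493.EigF.r6 <| H493.EigF.mc H493.EigF.r6 <| H493.EigF.m0) H493.EigF.r6 (by decide +kernel)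

theorem pvE6d (q : ℤ) : pv kE6d q = (q ^ 4 + 1) * (q ^ 2 - 1) := by
  simp only [pv, kE6d, Fin.sum_univ_succ, _root_.Nat.reduceAdd, _root_.Int.reduceNeg, _root_.Fin.isValue, _root_.Matrix.cons_val_zero, _root_.Fin.coe_ofNat_eq_mod, _root_.Nat.zero_mod, _root_.pow_zero, _root_.mul_one, _root_.Matrix.cons_val_succ, _root_.Fin.val_succ, _root_.zero_add, _root_.pow_one, _root_.MulZeroClass.zero_mul, _root_.one_mul, _root_.neg_mul, _root_.Finset.univ_unique, _root_.Fin.default_eq_zero, _root_.Matrix.cons_val_fin_one, _root_.Fin.val_eq_zero, _root_.Finset.sum_const_zero, _root_.add_zero]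
  ring

/-- the partial products -/
def LE6b : List (Fin 6 × Mat 6) := [
    (3, ![![-1, -1, -1, -2, -1, 0],
        ![0, 0, 0, 0, -1, 0],
        ![1, 0, 0, 0, 0, 0],
        ![0, 0, 1, 1, 1, 0],
        ![0, 1, 0, 0, 0, 0],
        ![0, 0, 0, 1, 1, 1]]),
    (4, ![![-1, -1, -1, -1, -1, 0],
        ![0, 0, 0, -1, -1, 0],
        ![1, 0, 0, 0, 0, 0],
        ![0, 0, 1, 1, 1, 0],
        ![0, 1, 0, 1, 0, 0],
        ![0, 0, 0, 0, 1, 1]]),
    (1, ![![-1, -1, -1, -1, 0, 0],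
        ![0, 0, 0, -1, 0, 0],
        ![1, 0, 0, 0, 0, 0],
        ![0, 0, 1, 1, 0, 0],
        ![0, 1, 0, 1, 1, 0],
        ![0, 0, 0, 0, 0, 1]]),
    (3, ![![-1, 0, -1, -1, 0, 0],
        ![0, -1, 0, -1, 0, 0],
        ![1, 0, 0, 0, 0, 0],
        ![0, 1, 1, 1, 0, 0],
        ![0, 0, 0, 1, 1, 0],
        ![0, 0, 0, 0, 0, 1]]),
    (2, ![![-1, 0, -1, 0, 0, 0],
        ![0, -1, 0, 0, 0, 0],
        ![1, 0, 0, 0, 0, 0],
        ![0, 1, 1, 1, 0, 0],
        ![0, 0, 0, 0, 1, 0],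
        ![0, 0, 0, 0, 0, 1]]),
    (1, ![![-1, 0, 0, 0, 0, 0],
        ![0, -1, 0, 0, 0, 0],
        ![1, 0, 1, 0, 0, 0],
        ![0, 1, 0, 1, 0, 0],
        ![0, 0, 0, 0, 1, 0],
        ![0, 0, 0, 0, 0, 1]]),
    (0, ![![-1, 0, 0, 0, 0, 0],
        ![0, 1, 0, 0, 0, 0],
        ![1, 0, 1, 0, 0, 0],
        ![0, 0, 0, 1, 0, 0],
        ![0, 0, 0, 0, 1, 0],
        ![0, 0, 0, 0, 0, 1]])]

/-- the eigenvector -/
def VE6b : Fin (5 + 1) → Fin 6 → ℤ := ![![1, 2, 2, 3, 2, 1],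
      ![-1, -1, -1, -1, 0, 0],
      ![1, 1, 1, 2, 1, 1],
      ![0, 1, 1, 1, 1, 1],
      ![0, -1, -1, -1, 0, 0],
      ![1, 1, 2, 2, 1, 1]]

/-- the functional -/
def UE6b : Fin 6 → ℤ := ![0, 0, 0, 0, 1, -1]

/-- the polynomial -/
def kE6b : Fin (5 + 1) → ℤ := ![-1, 1, -1, 0, 1, -1]

theorem chainE6b : ChainOK H378.AdjE6.Am LE6b :=
  H129.ChainF.ok H129.ChainF.i6 H129.ChainF.m6 (H129.ChainF.c6 <| H129.ChainF.c6 <| H129.ChainF.c6 <| H129.ChainF.c6 <| H129.ChainF.c6 <| H129.ChainF.c6 <| H129.ChainF.c6 <| H129.ChainF.nil) (by decide +kernel)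

theorem eigE6b : EigOK (hd LE6b) kE6b VE6b UE6b :=
  H493.EigF.ok (H493.EigF.hT H493.EigF.t6) H493.EigF.r6 (H493.EigF.mc H493.EigF.r6 <| H493.EigF.mc H493.EigF.r6 <| H493.EigF.mc H493.EigF.r6 <| H493.EigF.mc H493.EigF.r6 <| H493.EigF.mc H493.EigF.r6 <| H493.EigF.mc H493.EigF.r6 <| H493.EigF.m0) H493.EigF.r6 (by decide +kernel)

theorem pvE6b (q : ℤ) : pv kE6b q = (q ^ 4 - 1) * (q ^ 2 - q + 1) := by
  simp only [pv, kE6b, Fin.sum_univ_succ, _root_.Nat.reduceAdd, _root_.Int.reduceNeg, _root_.Fin.isValue, _root_.Matrix.cons_val_zero, _root_.Fin.coe_ofNat_eq_mod, _root_.Nat.zero_mod, _root_.pow_zero, _root_.mul_one, _root_.Matrix.cons_val_succ, _root_.Fin.val_succ, _root_.zero_add, _root_.pow_one, _root_.one_mul, _root_.neg_mul, _root_.MulZeroClass.zero_mul, _root_.Finset.univ_unique, _root_.Fin.default_eq_zero, _root_.Matrix.cons_val_fin_one, _root_.Fin.val_eq_zero, _root_.Finset.sum_neg_distrib,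 _root_.Finset.sum_const, _root_.Finset.card_singleton, _root_.Int.nsmul_eq_mul, _root_.Nat.cast_one]
  ring

/-- the partial products -/
def LE6td : List (Fin 6 × Mat 6) := [
    (3, ![![1, 0, 1, 1, 0, 0],
        ![0, -1, 0, -1, 0, 0],
        ![0, 0, -1, -1, 0, 0],
        ![0, 1, 1, 1, 0, 0],
        ![0, 0, 0, 1, 1, 0],
        ![0, 0, 0, 0, 0, 1]]),
    (2, ![![1, 0, 1, 0, 0, 0],
        ![0, -1, 0, 0, 0, 0],
        ![0, 0, -1, 0, 0, 0],
        ![0, 1, 1, 1, 0, 0],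
        ![0, 0, 0, 0, 1, 0],
        ![0, 0, 0, 0, 0, 1]]),
    (1, ![![1, 0, 0, 0, 0, 0],
        ![0, -1, 0, 0, 0, 0],
        ![0, 0, 1, 0, 0, 0],
        ![0, 1, 0, 1, 0, 0],
        ![0, 0, 0, 0, 1, 0],
        ![0, 0, 0, 0, 0, 1]])]

/-- the matrix of the action -/
def ThE6td : Mat 6 := ![![0, 0, 0, 0, 0, 1],
      ![0, -1, 0, -1, 0, 0],
      ![0, 0, 0, 1, 1, 0],
      ![0, 1, 1, 1, 0, 0],
      ![0, 0, -1, -1, 0, 0],
      ![1, 0, 1, 1, 0, 0]]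

/-- the eigenvector -/
def VE6td : Fin (5 + 1) → Fin 6 → ℤ := ![![0, 0, 1, -1, 0, 1],
      ![1, -1, -1, 1, 0, 0],
      ![0, 1, -1, 1, -1, 0],
      ![-1, 0, 2, -1, 0, 0],
      ![0, -1, 0, 0, 1, 0],
      ![1, 1, -1, 0, 0, 0]]

/-- the functional -/
def UE6td : Fin 6 → ℤ := ![0, 0, 0, 0, 0, 1]

/-- the polynomial -/
def kE6td : Fin (5 + 1) → ℤ := ![-1, 0, 1, 0, -1, 0]

theorem chainE6td : ChainOK H493.PGE6T.Am LE6td :=
  H129.ChainF.ok H129.ChainF.i6 H129.ChainF.m6 (H129.ChainF.c6 <| H129.ChainF.c6 <| H129.ChainF.c6 <| H129.ChainF.nil) (by decide +kernel)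

theorem hThE6td : ∀ j, hd LE6td (H493.TwE6Alg.pi j) = ThE6td j := by decide +kernel

theorem eigE6td : EigOK (fun i j => ThE6td j i) kE6td VE6td UE6td :=
  H493.EigF.ok (H493.EigF.tt ThE6td H129.ChainF.m6) H493.EigF.r6 (H493.EigF.mc H493.EigF.r6 <| H493.EigF.mc H493.EigF.r6 <| H493.EigF.mc H493.EigF.r6 <| H493.EigF.mc H493.EigF.r6 <| H493.EigF.mc H493.EigF.r6 <| H493.EigF.mc H493.EigF.r6 <| H493.EigF.m0) H493.EigF.r6 (by decide +kernel)

theorem pvE6td (q : ℤ) : pv kE6td q = (q ^ 4 + 1) * (q ^ 2 - 1) := by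
  simp only [pv, kE6td, Fin.sum_univ_succ, _root_.Nat.reduceAdd, _root_.Int.reduceNeg, _root_.Fin.isValue, _root_.Matrix.cons_val_zero, _root_.Fin.coe_ofNat_eq_mod, _root_.Nat.zero_mod, _root_.pow_zero, _root_.mul_one, _root_.Matrix.cons_val_succ, _root_.Fin.val_succ, _root_.zero_add, _root_.pow_one, _root_.MulZeroClass.zero_mul, _root_.one_mul, _root_.neg_mul, _root_.Finset.univ_unique, _root_.Fin.default_eq_zero, _root_.Matrix.cons_val_fin_one, _root_.Fin.val_eq_zero, _root_.Finset.sum_const_zero, _root_.add_zero]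
  ring

/-- the partial products -/
def LE6tb : List (Fin 6 × Mat 6) := [
    (3, ![![-1, 0, 0, 0, 0, 0],
        ![0, -1, 0, -1, 0, 0],
        ![1, 0, 1, 1, 0, 0],
        ![0, 1, 0, 0, 0, 0],
        ![0, 0, 0, 1, 1, 0],
        ![0, 0, 0, 0, 0, 1]]),
    (1, ![![-1, 0, 0, 0, 0, 0],
        ![0, -1, 0, 0, 0, 0],
        ![1, 0, 1, 0, 0, 0],
        ![0, 1, 0, 1, 0, 0],
        ![0, 0, 0, 0, 1, 0],
        ![0, 0, 0, 0, 0, 1]]),
    (0, ![![-1, 0, 0, 0, 0, 0],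
        ![0, 1, 0, 0, 0, 0],
        ![1, 0, 1, 0, 0, 0],
        ![0, 0, 0, 1, 0, 0],
        ![0, 0, 0, 0, 1, 0],
        ![0, 0, 0, 0, 0, 1]])]

/-- the matrix of the action -/
def ThE6tb : Mat 6 := ![![0, 0, 0, 0, 0, 1],
      ![0, -1, 0, -1, 0, 0],
      ![0, 0, 0, 1, 1, 0],
      ![0, 1, 0, 0, 0, 0],
      ![1, 0, 1, 1, 0, 0],
      ![-1, 0, 0, 0, 0, 0]]

/-- the eigenvector -/
def VE6tb : Fin (5 + 1) → Fin 6 → ℤ := ![![1, 0, 0, -1, 1, 0],
      ![1, -1, 0, 0, 0, 1],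
      ![0, 0, 0, 0, 0, 1],
      ![-1, 0, 1, 0, 0, 0],
      ![-1, 0, 0, 1, 0, -1],
      ![0, 1, 0, 0, 0, -1]]

/-- the functional -/
def UE6tb : Fin 6 → ℤ := ![0, 0, 0, 0, 1, 0]

/-- the polynomial -/
def kE6tb : Fin (5 + 1) → ℤ := ![-1, -1, -1, 0, 1, 1]

theorem chainE6tb : ChainOK H493.PGE6T.Am LE6tb :=
  H129.ChainF.ok H129.ChainF.i6 H129.ChainF.m6 (H129.ChainF.c6 <| H129.ChainF.c6 <| H129.ChainF.c6 <| H129.ChainF.nil) (by decide +kernel)

theorem hThE6tb : ∀ j, hd LE6tb (H493.TwE6Alg.pi j) = ThE6tb j := by decide +kernel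

theorem eigE6tb : EigOK (fun i j => ThE6tb j i) kE6tb VE6tb UE6tb :=
  H493.EigF.ok (H493.EigF.tt ThE6tb H129.ChainF.m6) H493.EigF.r6 (H493.EigF.mc H493.EigF.r6 <| H493.EigF.mc H493.EigF.r6 <| H493.EigF.mc H493.EigF.r6 <| H493.EigF.mc H493.EigF.r6 <| H493.EigF.mc H493.EigF.r6 <| H493.EigF.mc H493.EigF.r6 <| H493.EigF.m0) H493.EigF.r6 (by decide +kernel)

theorem pvE6tb (q : ℤ) : pv kE6tb q = (q ^ 4 - 1) * (q ^ 2 + q + 1) := by
  simp only [pv, kE6tb, Fin.sum_univ_succ, _root_.Nat.reduceAdd, _root_.Int.reduceNeg, _root_.Fin.isValue, _root_.Matrix.cons_val_zero, _root_.Fin.coe_ofNat_eq_mod, _root_.Nat.zero_mod, _root_.pow_zero, _root_.mul_one, _root_.Matrix.cons_val_succ, _root_.Fin.val_succ, _root_.zero_add, _root_.pow_one, _root_.neg_mul, _root_.one_mul, _root_.MulZeroClass.zero_mul, _root_.Finset.univ_unique, _root_.Fin.default_eq_zero, _root_.Matrix.cons_val_fin_one, _root_.Fin.val_eq_zero,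 _root_.Finset.sum_const, _root_.Finset.card_singleton, _root_.Int.nsmul_eq_mul, _root_.Nat.cast_one]
  ring


section E

variable {F : Type u} [Field F] [Finite F]

/-- an order `m / g` -/
theorem e6_ord {L : List (Fin 6 × Mat 6)} (hL : ChainOK H378.AdjE6.Am L)
    {f : ℕ} {c : Fin (f + 1) → ℤ} {V : Fin (f + 1) → Fin 6 → ℤ} {U : Fin 6 → ℤ} (h : EigOK (hd L) c V U)
    {m : ℕ} (hm : 0 < m) (hg : Nat.gcd 3 (Nat.card F - 1) ∣ m) (hdv : (m : ℤ) ∣ pv c (Nat.card F : ℕ)) :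
    ∃ x : ↥(chevE6.group F), Nat.gcd 3 (Nat.card F - 1) * orderOf x = m := by
  let cs : CoxeterSystem CoxeterMatrix.E₆ CoxeterMatrix.E₆.Group := CoxeterMatrix.E₆.toCoxeterSystem
  have := finite_W e6T cs
  have hg0 : 0 < Nat.gcd 3 (Nat.card F - 1) := Nat.gcd_pos_of_pos_left _ (by norm_num)
  obtain ⟨x, hx⟩ := exists_order_d e6T cs inv_E6 three_ne_zero H378.AdjE6.hA hL h
    (Nat.div_pos (Nat.le_of_dvd hm hg) hg0) (Nat.div_mul_cancel hg).symm hdv
  exact ⟨x, by rw [hx, Nat.mul_div_cancel' hg]⟩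

/-- primes not adjacent to `2` -/
theorem e6_near {r : ℕ} (hr : r.Prime) (h2 : r ≠ 2)
    (hd : r ∣ Nat.card ↥(chevE6.group F)) (hn : ¬ ∃ x : ↥(chevE6.group F), orderOf x = 2 * r) :
    (r : ℤ) ∣ ((Nat.card F : ℕ) : ℤ) ^ 4 + 1 ∨ (r : ℤ) ∣ ((Nat.card F : ℕ) : ℤ) ^ 4 - ((Nat.card F : ℕ) : ℤ) ^ 2 + 1 ∨
      (r : ℤ) ∣ ((Nat.card F : ℕ) : ℤ) ^ 6 + ((Nat.card F : ℕ) : ℤ) ^ 3 + 1 := by
  rcases adj_E6 F hr hd with h | ⟨-, -, -, x, y, hx, hy, hxy⟩ | h | h | h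
  · exact absurd h h2
  · exfalso
    apply hn
    refine ⟨y * x, ?_⟩
    rw [hxy.symm.orderOf_mul_eq_mul_orderOf_of_coprime (by
      rw [hx, hy]
      exact (Nat.coprime_primes Nat.prime_two hr).2 (Ne.symm h2)), hx, hy]
  · left
    have h3 := dvd8 hr h
    rwa [pv8] at h3
  · right; right
    have h3 := dvd9 hr h
    rwa [pv9] at h3
  · right; left
    have h3 := dvd12 hr h
    rwa [pv12] at h3

end E

section T

variable {K : Type u} [Field K] [Fintype K] {q : ℕ} (hq : IsPrimePow q) (hK : Fintype.card K = q ^ 2)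

include hq hK

theorem te6_ord {L : List (Fin 6 × Mat 6)} (hL : ChainOK H493.PGE6T.Am L) {Th : Mat 6}
    (hTh : ∀ j, hd L (H493.TwE6Alg.pi j) = Th j)
    {f : ℕ} {c : Fin (f + 1) → ℤ} {V : Fin (f + 1) → Fin 6 → ℤ} {U : Fin 6 → ℤ}
    (h : EigOK (fun i j => Th j i) c V U) (hc : c 0 = 1 ∨ c 0 = -1) {m : ℕ} (hm : 0 < m)
    (hg : Nat.gcd 3 (q + 1) ∣ m)
    (h1 : (m : ℤ) ∣ pv c q) : ∃ x : ↥(twistedE6 K q), Nat.gcd 3 (q + 1) * orderOf x = m := by
  obtain ⟨x, hx⟩ := e6t_order hq hK hL hTh h hc hm hg h1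
  exact ⟨x, by rw [hx, Nat.mul_div_cancel' hg]⟩

open Cfsg.Agent.H493.PGE6T Cfsg.Agent.H378.TwRows Cfsg.Agent.H378.TwAdj in
/-- primes not adjacent to `2` -/
theorem te6_near {r : ℕ} (hr : r.Prime) (h2 : r ≠ 2)
    (hd : r ∣ Nat.card ↥(twistedE6 K q)) (hn : ¬ ∃ x : ↥(twistedE6 K q), orderOf x = 2 * r) :
    (r : ℤ) ∣ (q : ℤ) ^ 4 + 1 ∨ (r : ℤ) ∣ (q : ℤ) ^ 4 - (q : ℤ) ^ 2 + 1 ∨
      (r : ℤ) ∣ (q : ℤ) ^ 6 - (q : ℤ) ^ 3 + 1 := by
  obtain ⟨p, n, hp, hnn, hpn⟩ := id hq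
  have hp := hp.nat_prime
  have hpq : p ∣ q := hpn ▸ dvd_pow_self p hnn.ne'
  have hq2 := hq.two_le
  have hadj : ¬ Cfsg.Agent.H94.PG.Adj ↥(twistedE6 K q) r 2 := by
    rintro ⟨-, -, -, x, y, hx, hy, hxy⟩
    apply hn
    refine ⟨y * x, ?_⟩
    rw [hxy.symm.orderOf_mul_eq_mul_orderOf_of_coprime (by
      rw [hx, hy]
      exact (Nat.coprime_primes Nat.prime_two hr).2 (Ne.symm h2)), hx, hy]
  obtain ⟨hpa, hcase⟩ := cases_2E6 hq hK hp hpq hr hd
  rcases hcase with h | h | ⟨hp2, -⟩ | ⟨h3, h⟩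
  · exact absurd h h2
  · exact absurd h hadj
  · by_cases hr3 : r = 3
    · rw [hr3] at hadj
      exact absurd (adj_three hq hK) hadj
    have hqo : ¬ 2 ∣ q := by
      rw [← hpn]
      intro h
      exact hp2 ((Nat.prime_dvd_prime_iff_eq Nat.prime_two hp).1 (Nat.prime_two.dvd_of_dvd_pow h)).symm
    have hq1 : 1 ≤ q := by omega
    have h1 : r ∣ q ^ 36 * (q ^ 2 - 1) * (q ^ 5 + 1) * (q ^ 6 - 1) * (q ^ 8 - 1) * (q ^ 9 + 1) * (q ^ 12 - 1) := by
      rw [← Cfsg.Agent.S1066.result hq hK]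
      exact hd.mul_left _
    have hg3 : ∀ {s : ℕ}, s.Prime → s ≠ 3 → s.Coprime (Nat.gcd 3 (q + 1)) := fun {s} hs h3 =>
      Nat.Coprime.coprime_dvd_right (Nat.gcd_dvd_left _ _) ((Nat.coprime_primes hs Nat.prime_three).2 h3)
    have hg0 : 0 < Nat.gcd 3 (q + 1) := Nat.gcd_pos_of_pos_left _ (by norm_num)
    -- a torus with an even order
    have key : ∀ {a : ℕ} {P : ℕ}, r ∣ P → 2 ∣ a → 0 < P → 0 < a →
        (∃ x : ↥(twistedE6 K q), Nat.gcd 3 (q + 1) * orderOf x = P * a) → False := by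
      rintro a P hrP ha hP0 ha0 ⟨x, hx⟩
      apply hn
      refine ord_dvd ⟨x, rfl⟩ (fun h0 => ?_) ?_
      · rw [h0, mul_zero] at hx
        exact absurd hx (Nat.mul_pos hP0 ha0).ne
      · refine Nat.Coprime.mul_dvd_of_dvd_of_dvd ((Nat.coprime_primes Nat.prime_two hr).2 (Ne.symm h2)) ?_ ?_
        · refine (hg3 Nat.prime_two (by norm_num)).dvd_of_dvd_mul_left ?_
          rw [hx]
          exact ha.mul_left _
        · refine (hg3 hr hr3).dvd_of_dvd_mul_left ?_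
          rw [hx]
          exact hrP.mul_right _
    have h21 : 2 ∣ q - 1 := by omega
    have h22 : 2 ∣ q + 1 := by omega
    have hq4 : 1 ≤ q ^ 4 := Nat.one_le_pow _ _ (by omega)
    have hg1 : Nat.gcd 3 (q + 1) ∣ q + 1 := Nat.gcd_dvd_right _ _
    have e4 : q ^ 4 - 1 = (q ^ 2 + 1) * (q - 1) * (q + 1) := by
      zify [hq1, hq4]
      ring
    have ex4 : ∃ x : ↥(twistedE6 K q), Nat.gcd 3 (q + 1) * orderOf x = (q ^ 4 - 1) * (q ^ 2 + q + 1) := by
      refine te6_ord hq hK chainE6tb hThE6tb eigE6tb (by decide) (Nat.mul_pos ?_ (by positivity)) ?_ ?_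
      · rw [e4]
        exact Nat.mul_pos (Nat.mul_pos (by positivity) (by (clear * - hq2; omega))) (by omega)
      · rw [e4]
        exact (hg1.mul_left _).mul_right _
      · rw [pvE6tb]
        push_cast [hq4]
        exact dvd_rfl
    rcases cover hq.two_le hr h1 with (h | h | h | h | h | h | h) | h | h | h
    · exfalso
      rw [← hpn] at h
      have h4 := (Nat.prime_dvd_prime_iff_eq hr hp).1 (hr.dvd_of_dvd_pow h)
      rw [h4] at hadj h2
      rcases hpa with h5 | h5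
      · exact h2 h5
      · exact hadj h5
    · exfalso
      rw [pv_c1] at h
      have h' : r ∣ q - 1 := by
        have h4 : (r : ℤ) ∣ ((q - 1 : ℕ) : ℤ) := by push_cast [hq1]; exact h
        exact_mod_cast h4
      refine key (P := (q - 1) * ((q ^ 2 + 1) * (q ^ 2 + q + 1))) (a := q + 1) (h'.mul_right _) h22
        (Nat.mul_pos (by (clear * - hq2; omega)) (by (clear * - hq2; positivity))) (by omega) ?_
      obtain ⟨x, hx⟩ := ex4
      exact ⟨x, by rw [hx, e4]; ring⟩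
    · exfalso
      rw [pv_c2] at h
      have h' : r ∣ q + 1 := by exact_mod_cast h
      refine key (P := (q + 1) * ((q ^ 2 + 1) * (q ^ 2 + q + 1))) (a := q - 1) (h'.mul_right _) h21
        (by (clear * - hq2; positivity)) (by (clear * - hq2; omega)) ?_
      obtain ⟨x, hx⟩ := ex4
      exact ⟨x, by rw [hx, e4]; ring⟩
    · exfalso
      rw [pv_c3] at h
      have h' : r ∣ q ^ 2 + q + 1 := by exact_mod_cast h
      refine key (P := (q ^ 2 + q + 1) * ((q ^ 2 + 1) * (q + 1))) (a := q - 1) (h'.mul_right _) h21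
        (by (clear * - hq2; positivity)) (by (clear * - hq2; omega)) ?_
      obtain ⟨x, hx⟩ := ex4
      exact ⟨x, by rw [hx, e4]; ring⟩
    · exfalso
      rw [pv_c4] at h
      have h' : r ∣ q ^ 2 + 1 := by exact_mod_cast h
      refine key (P := (q ^ 2 + 1) * ((q ^ 2 + q + 1) * (q + 1))) (a := q - 1) (h'.mul_right _) h21
        (by (clear * - hq2; positivity)) (by (clear * - hq2; omega)) ?_
      obtain ⟨x, hx⟩ := ex4
      exact ⟨x, by rw [hx, e4]; ring⟩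
    · exfalso
      have h3c : ∀ {s : ℕ}, s.Prime → s ≠ 3 → ¬ s ∣ Nat.gcd 3 (q + 1) := fun {s} hs h3 =>
        (hs.coprime_iff_not_dvd).1 (hg3 hs h3)
      exact hadj ((pairE_gen hq hK chainB_ok hThB eigB_6 (by decide) eigB_1 (by decide) hr Nat.prime_two
        (h3c hr hr3) (h3c Nat.prime_two (by norm_num)) h (two_dvd_c1 hqo)).adj hr Nat.prime_two h2)
    · exfalso
      rw [pv_c10] at h
      have e10 : ((q : ℤ) ^ 4 - q ^ 3 + q ^ 2 - q + 1) * (q + 1) = (q : ℤ) ^ 5 + 1 := by ring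
      have h' : r ∣ q ^ 5 + 1 := by
        have h4 : (r : ℤ) ∣ ((q ^ 5 + 1 : ℕ) : ℤ) := by
          push_cast
          rw [← e10]
          exact h.mul_right _
        exact_mod_cast h4
      refine key (P := q ^ 5 + 1) (a := q - 1) h' h21 (by positivity) (by (clear * - hq2; omega)) ?_
      refine te6_ord hq hK chainE6tA hThE6tA eigE6tA (by decide) (Nat.mul_pos (by omega) (by (clear * - hq2; omega)))
        ((gt3_dvd5 q).mul_right _) ?_
      rw [pvE6tA]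
      push_cast [hq1]
      exact dvd_rfl
    · rw [pv_c8] at h
      exact Or.inl h
    · rw [pv_c12] at h
      exact Or.inr (Or.inl h)
    · rw [pv_c18] at h
      exact Or.inr (Or.inr h)
  · rcases h with h | h | h
    · rw [pv_c8] at h
      exact Or.inl h
    · rw [pv_c12] at h
      exact Or.inr (Or.inl h)
    · rw [pv_c18] at h
      exact Or.inr (Or.inr h)

end T

end Cfsg.Agent.R2.Spec.X4.H18
end

-- part: R2/Spec/X4/H18/E6Dat
section
/-!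
# `E₆(u)`, `²E₆(u)` together, `X = u` or `X = -u` : the facts (helper18)
-/

set_option autoImplicit false
set_option linter.unusedVariables false

namespace Cfsg.Agent.R2.Spec.X4.H18

open Cfsg Cfsg.Agent.H426.LieFam

universe u

/-- the element orders of `E₆(u)` (`X = u`), `²E₆(u)` (`X = -u`) -/
structure OmX (v : ℕ) (X : ℤ) (n b m : ℕ) : Prop where
  eq : n = v ^ b * m
  nd : ¬ v ∣ m
  s0 : (m : ℤ) ∣ (X ^ 4 + 1) * (X ^ 2 - 1) ∨ (m : ℤ) ∣ (X ^ 5 - 1) * (X + 1) ∨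
    (m : ℤ) ∣ (X ^ 4 - 1) * (X ^ 2 - X + 1) ∨ (m : ℤ) ∣ X ^ 6 - 1 ∨
    (m : ℤ) ∣ (X ^ 4 - X ^ 2 + 1) * (X ^ 2 + X + 1) ∨ (m : ℤ) ∣ X ^ 6 + X ^ 3 + 1
  s1 : b ≠ 0 → (m : ℤ) ∣ (X ^ 3 - 1) * (X + 1) ∨ (m : ℤ) ∣ X ^ 4 - 1 ∨ (m : ℤ) ∣ X ^ 5 - 1 ∨
    (m : ℤ) ∣ (X ^ 3 + 1) * (X ^ 2 + X + 1) ∨ (m : ℤ) ∣ (X ^ 3 + 1) * (X - 1)
  s6 : b ≠ 0 → 6 ≤ v ^ (b - 1) → (m : ℤ) ∣ X - 1
  le : b ≠ 0 → v ^ (b - 1) ≤ 11

theorem omX_E6 {v u n b m : ℕ} (hu : 1 ≤ u) (h : H378.OmE6.Om v u n b m) : OmX v (u : ℤ) n b m := by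
  have h2 : 1 ≤ u ^ 2 := Nat.one_le_pow _ _ hu
  have h3 : 1 ≤ u ^ 3 := Nat.one_le_pow _ _ hu
  have h4 : 1 ≤ u ^ 4 := Nat.one_le_pow _ _ hu
  have h5 : 1 ≤ u ^ 5 := Nat.one_le_pow _ _ hu
  have h6 : 1 ≤ u ^ 6 := Nat.one_le_pow _ _ hu
  have h7 : u ≤ u ^ 2 := Nat.le_self_pow two_ne_zero u
  have h8 : u ^ 2 ≤ u ^ 4 := Nat.pow_le_pow_right hu (by norm_num)
  have key : ∀ {P : ℕ}, m ∣ P → (m : ℤ) ∣ ((P : ℕ) : ℤ) := fun {P} h => Int.natCast_dvd_natCast.2 h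
  refine ⟨h.eq, h.nd, ?_, ?_, ?_, h.le⟩
  · rcases h.s0 with h0 | h0 | h0 | h0 | h0 | h0 <;> have h1 := key h0 <;>
      push_cast [hu, h2, h3, h4, h5, h6, h7, h8] at h1 <;> (clear * - u m h1; tauto)
  · intro hb
    rcases h.s1 hb with h0 | h0 | h0 | h0 | h0 <;> have h1 := key h0 <;>
      push_cast [hu, h2, h3, h4, h5, h6, h7, h8] at h1 <;> (clear * - u m h1; tauto)
  · intro hb h6'
    have h1 := key (h.s6 hb h6')
    push_cast [hu] at h1
    exact h1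

theorem omX_TE6 {v u n b m : ℕ} (hu : 1 ≤ u) (h : H378.OmTE6.Om v u n b m) : OmX v (-(u : ℤ)) n b m := by
  have h2 : 1 ≤ u ^ 2 := Nat.one_le_pow _ _ hu
  have h3 : 1 ≤ u ^ 3 := Nat.one_le_pow _ _ hu
  have h4 : 1 ≤ u ^ 4 := Nat.one_le_pow _ _ hu
  have h5 : 1 ≤ u ^ 5 := Nat.one_le_pow _ _ hu
  have h6 : 1 ≤ u ^ 6 := Nat.one_le_pow _ _ hu
  have h7 : u ≤ u ^ 2 := Nat.le_self_pow two_ne_zero u
  have h8 : u ^ 2 ≤ u ^ 4 := Nat.pow_le_pow_right hu (by norm_num)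
  have h9 : u ^ 3 ≤ u ^ 6 := Nat.pow_le_pow_right hu (by norm_num)
  have key : ∀ {P : ℕ} {A B : ℤ}, m ∣ P → ((P : ℕ) : ℤ) = A → (A = B ∨ A = -B) → (m : ℤ) ∣ B := by
    rintro P A B h e1 (rfl | rfl)
    · rw [← e1]
      exact Int.natCast_dvd_natCast.2 h
    · rw [← dvd_neg, ← e1]
      exact Int.natCast_dvd_natCast.2 h
  refine ⟨h.eq, h.nd, ?_, ?_, ?_, h.le⟩
  · rcases h.s0 with h0 | h0 | h0 | h0 | h0 | h0
    · left
      exact key h0 (by push_cast [h2]; rfl) (Or.inl (by ring))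
    · right; left
      exact key h0 (by push_cast [hu]; rfl) (Or.inl (by ring))
    · right; right; left
      exact key h0 (by push_cast [h4]; rfl) (Or.inl (by ring))
    · right; right; right; left
      exact key h0 (by push_cast [h6]; rfl) (Or.inl (by ring))
    · right; right; right; right; left
      exact key h0 (by push_cast [h7, h8]; rfl) (Or.inl (by ring))
    · right; right; right; right; right
      exact key h0 (by push_cast [h9]; rfl) (Or.inl (by ring))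
  · intro hb
    rcases h.s1 hb with h0 | h0 | h0 | h0 | h0
    · left
      exact key h0 (by push_cast [hu]; rfl) (Or.inl (by ring))
    · right; left
      exact key h0 (by push_cast [h4]; rfl) (Or.inl (by ring))
    · right; right; left
      exact key h0 (by push_cast; rfl) (Or.inr (by ring))
    · right; right; right; left
      exact key h0 (by push_cast [h3, h7]; rfl) (Or.inr (by ring))
    · right; right; right; right
      exact key h0 (by push_cast [h3]; rfl) (Or.inl (by ring))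
  · intro hb h6'
    exact key (h.s6 hb h6') (by push_cast; rfl) (Or.inr (by ring))

/-- the facts about `E₆(u)` (`X = u`), `²E₆(u)` (`X = -u`); `g = |Z|` -/
structure E6Dat (v u g : ℕ) (X : ℤ) (S : Type*) [Group S] : Prop where
  vp : v.Prime
  pw : ∃ f, 1 ≤ f ∧ u = v ^ f
  hX : X = u ∨ X = -u
  hg : (g = 1 ∧ ¬ (3 : ℤ) ∣ X - 1) ∨ g = 3 ∧ (3 : ℤ) ∣ X - 1
  up : ∀ x : S, ∃ b m : ℕ, OmX v X (orderOf x) b m
  near : ∀ r : ℕ, r.Prime → r ≠ 2 → r ∣ Nat.card S → (¬ ∃ x : S, orderOf x = 2 * r) →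
    (r : ℤ) ∣ X ^ 4 + 1 ∨ (r : ℤ) ∣ X ^ 4 - X ^ 2 + 1 ∨ (r : ℤ) ∣ X ^ 6 + X ^ 3 + 1
  ex9 : ∃ x : S, (g : ℤ) * (orderOf x : ℕ) = X ^ 6 + X ^ 3 + 1
  ex12 : ∃ x : S, (g : ℤ) * (orderOf x : ℕ) = (X ^ 4 - X ^ 2 + 1) * (X ^ 2 + X + 1)
  ex8 : ∃ x : S, (g : ℤ) * (orderOf x : ℕ) = (X ^ 4 + 1) * (X ^ 2 - 1)
  ex5 : ∃ x : S, (g : ℤ) * (orderOf x : ℕ) = (X ^ 5 - 1) * (X + 1)
  ex4 : ∃ x : S, (g : ℤ) * (orderOf x : ℕ) = (X ^ 4 - 1) * (X ^ 2 - X + 1)
  card : (g : ℤ) * (Nat.card S : ℕ) = u ^ 36 * ((X ^ 2 - 1) * (X ^ 5 - 1) * (X ^ 6 - 1) * (X ^ 8 - 1) *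
    (X ^ 9 - 1) * (X ^ 12 - 1))

theorem E6Dat.congr {v u g : ℕ} {X : ℤ} {S Y : Type*} [Group S] [Group Y] (e : S ≃* Y) (h : E6Dat v u g X Y) :
    E6Dat v u g X S := by
  have key : ∀ {n : ℤ}, (∃ x : Y, (g : ℤ) * (orderOf x : ℕ) = n) → ∃ x : S, (g : ℤ) * (orderOf x : ℕ) = n := by
    rintro n ⟨x, hx⟩
    exact ⟨e.symm x, by rw [MulEquiv.orderOf_eq]; exact hx⟩
  refine ⟨h.vp, h.pw, h.hX, h.hg, ?_, ?_, key h.ex9, key h.ex12, key h.ex8, key h.ex5, key h.ex4, ?_⟩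
  · intro x
    have := h.up (e x)
    rwa [MulEquiv.orderOf_eq] at this
  · intro r hr h2 hd hn
    rw [Nat.card_congr e.toEquiv] at hd
    refine h.near r hr h2 hd fun ⟨x, hx⟩ => hn ⟨e.symm x, by rw [MulEquiv.orderOf_eq]; exact hx⟩
  · rw [Nat.card_congr e.toEquiv]
    exact h.card

section

open Cfsg.Agent.H378.AdjTab Cfsg.Agent.H378.CycTab Cfsg.Agent.H366.Iso

theorem e6Dat {v f : ℕ} (hv : v.Prime) {F : Type u} [Field F] [Fintype F] [CharP F v]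
    (hF : Fintype.card F = v ^ f) (hf : 1 ≤ f) :
    E6Dat v (v ^ f) (Nat.gcd 3 (v ^ f - 1)) ((v ^ f : ℕ) : ℤ) ↥(Lie.chevE6.group F) := by
  have := Fact.mk hv
  have hN : Nat.card F = v ^ f := by rw [Nat.card_eq_fintype_card, hF]
  have hu2 : 2 ≤ v ^ f := hv.two_le.trans (Nat.le_self_pow (by omega) v)
  have hu1 : 1 ≤ v ^ f := by omega
  have hgc : Nat.gcd 3 (v ^ f - 1) = 1 ∨ Nat.gcd 3 (v ^ f - 1) = 3 :=
    (Nat.dvd_prime Nat.prime_three).1 (Nat.gcd_dvd_left _ _)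
  have hgd : Nat.gcd 3 (v ^ f - 1) ∣ v ^ f - 1 := Nat.gcd_dvd_right _ _
  have hg9 := g3_dvd9 (v ^ f) hu1
  have hg3 := g3_dvd (v ^ f) hu1
  have e9 := fun h h' => e6_ord (F := F) (c := c9) H378.AdjE6.chain9 H378.AdjE6.tor9_9
    (m := (v ^ f) ^ 6 + (v ^ f) ^ 3 + 1) h h'
  have e12 := fun h h' => e6_ord (F := F) H378.AdjE6.chain12 eigE6c
    (m := ((v ^ f) ^ 4 - (v ^ f) ^ 2 + 1) * ((v ^ f) ^ 2 + v ^ f + 1)) h h'
  have e8 := fun h h' => e6_ord (F := F) chainE6d eigE6d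
    (m := ((v ^ f) ^ 4 + 1) * ((v ^ f) ^ 2 - 1)) h h'
  have e5 := fun h h' => e6_ord (F := F) chainE6a eigE6a
    (m := ((v ^ f) ^ 5 - 1) * (v ^ f + 1)) h h'
  have e4 := fun h h' => e6_ord (F := F) chainE6b eigE6b
    (m := ((v ^ f) ^ 4 - 1) * ((v ^ f) ^ 2 - v ^ f + 1)) h h'
  rw [hN] at e9 e12 e8 e5 e4
  have hup : ∀ x : ↥(Lie.chevE6.group F), ∃ b m : ℕ, OmX v ((v ^ f : ℕ) : ℤ) (orderOf x) b m := by
    intro x
    obtain ⟨b, m, O⟩ := H378.OmE6.om_E6 (p := v) hN x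
    exact ⟨b, m, omX_E6 hu1 O⟩
  have hnear := fun r hr h2 hd hn => e6_near (F := F) (r := r) hr h2 hd hn
  rw [hN] at hnear
  have hcard := Cfsg.Agent.S1063.result (F := F) hF
  have hpw : ∃ a, 1 ≤ a ∧ v ^ f = v ^ a := ⟨f, hf, rfl⟩
  clear hN hF
  generalize v ^ f = u at *
  have h2 : 1 < u ^ 2 := Nat.one_lt_pow (by norm_num) (by omega)
  have h4 : 1 < u ^ 4 := Nat.one_lt_pow (by norm_num) (by omega)
  have h5 : 1 < u ^ 5 := Nat.one_lt_pow (by norm_num) (by omega)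
  have h6 : 1 < u ^ 6 := Nat.one_lt_pow (by norm_num) (by omega)
  have h8 : 1 < u ^ 8 := Nat.one_lt_pow (by norm_num) (by omega)
  have h9 : 1 < u ^ 9 := Nat.one_lt_pow (by norm_num) (by omega)
  have h12 : 1 < u ^ 12 := Nat.one_lt_pow (by norm_num) (by omega)
  have h7 : u ≤ u ^ 2 := Nat.le_self_pow two_ne_zero u
  have h24 : u ^ 2 ≤ u ^ 4 := Nat.pow_le_pow_right hu1 (by norm_num)
  have d2 : u - 1 ∣ u ^ 2 - 1 := by simpa only [] using Nat.sub_one_dvd_pow_sub_one u 2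
  have d4 : u - 1 ∣ u ^ 4 - 1 := by simpa only [] using Nat.sub_one_dvd_pow_sub_one u 4
  have d5 : u - 1 ∣ u ^ 5 - 1 := by simpa only [] using Nat.sub_one_dvd_pow_sub_one u 5
  have key : ∀ {m : ℕ} {n : ℤ}, (∃ x : ↥(Lie.chevE6.group F), Nat.gcd 3 (u - 1) * orderOf x = m) → (m : ℤ) = n →
      ∃ x : ↥(Lie.chevE6.group F), ((Nat.gcd 3 (u - 1) : ℕ) : ℤ) * (orderOf x : ℕ) = n := by
    rintro m n ⟨x, hx⟩ rfl
    exact ⟨x, by exact_mod_cast hx⟩
  refine ⟨hv, hpw, Or.inl rfl, ?_, hup, hnear, ?_, ?_, ?_, ?_, ?_, ?_⟩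
  · rcases hgc with h | h
    · left
      refine ⟨h, fun h3 => ?_⟩
      have h4 : ((3 : ℕ) : ℤ) ∣ ((u - 1 : ℕ) : ℤ) := by
        push_cast [hu1]
        exact h3
      have h5 := Nat.dvd_gcd dvd_rfl (Int.natCast_dvd_natCast.1 h4)
      rw [h] at h5
      norm_num at h5
    · right
      refine ⟨h, ?_⟩
      rw [h] at hgd
      have h3 : ((3 : ℕ) : ℤ) ∣ ((u - 1 : ℕ) : ℤ) := Int.natCast_dvd_natCast.2 hgd
      push_cast [hu1] at h3
      exact h3
  · exact key (e9 (by positivity) hg9 (by rw [pv9]; push_cast; exact dvd_rfl)) (by push_cast; ring)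
  · exact key (e12 (Nat.mul_pos (by omega) (by positivity)) (hg3.mul_left _) (by
      rw [pvE6c]; push_cast [h24]; exact dvd_of_eq (by ring))) (by push_cast [h24]; ring)
  · exact key (e8 (Nat.mul_pos (by omega) (by omega)) ((hgd.trans d2).mul_left _) (by
      rw [pvE6d]; push_cast [h2.le]; exact dvd_of_eq (by ring))) (by push_cast [h2.le]; ring)
  · exact key (e5 (Nat.mul_pos (by omega) (by omega)) ((hgd.trans d5).mul_right _) (by
      rw [pvE6a]; push_cast [h5.le]; exact dvd_of_eq (by ring))) (by push_cast [h5.le]; ring)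
  · exact key (e4 (Nat.mul_pos (by omega) (by omega)) ((hgd.trans d4).mul_right _) (by
      rw [pvE6b]; push_cast [h4.le, h7]; exact dvd_of_eq (by ring))) (by push_cast [h4.le, h7]; ring)
  · have h : ((Nat.gcd 3 (u - 1) * Nat.card ↥(Lie.chevE6.group F) : ℕ) : ℤ) =
        ((u ^ 36 * (u ^ 2 - 1) * (u ^ 5 - 1) * (u ^ 6 - 1) * (u ^ 8 - 1) * (u ^ 9 - 1) * (u ^ 12 - 1) : ℕ) : ℤ) := by
      rw [hcard]
    rw [Nat.cast_mul] at h
    rw [h]
    push_cast [h2.le, h5.le, h6.le, h8.le, h9.le, h12.le]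
    ring

theorem te6Dat {v f : ℕ} (hv : v.Prime) {F : Type u} [Field F] [Fintype F] [CharP F v]
    (hF : Fintype.card F = (v ^ f) ^ 2) (hf : 1 ≤ f) :
    E6Dat v (v ^ f) (Nat.gcd 3 (v ^ f + 1)) (-((v ^ f : ℕ) : ℤ)) ↥(Lie.twistedE6 F (v ^ f)) := by
  have := Fact.mk hv
  have hN : Nat.card F = (v ^ f) ^ 2 := by rw [Nat.card_eq_fintype_card, hF]
  have hu2 : 2 ≤ v ^ f := hv.two_le.trans (Nat.le_self_pow (by omega) v)
  have hu1 : 1 ≤ v ^ f := by omega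
  have hq : IsPrimePow (v ^ f) := hv.isPrimePow.pow (by omega)
  have hgc : Nat.gcd 3 (v ^ f + 1) = 1 ∨ Nat.gcd 3 (v ^ f + 1) = 3 :=
    (Nat.dvd_prime Nat.prime_three).1 (Nat.gcd_dvd_left _ _)
  have hgd : Nat.gcd 3 (v ^ f + 1) ∣ v ^ f + 1 := Nat.gcd_dvd_right _ _
  have hg9 := gt3_dvd18 (v ^ f)
  have hg3 := gt3_dvd6 (v ^ f)
  have hg5 := gt3_dvd5 (v ^ f)
  have e9 := fun h h' => te6_ord hq hF chainE6tB hThE6tB eigE6tB (by decide)
    (m := (v ^ f) ^ 6 - (v ^ f) ^ 3 + 1) h h'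
  have e12 := fun h h' => te6_ord hq hF chainE6tC hThE6tC eigE6tC (by decide)
    (m := ((v ^ f) ^ 4 - (v ^ f) ^ 2 + 1) * ((v ^ f) ^ 2 - v ^ f + 1)) h h'
  have e8 := fun h h' => te6_ord hq hF chainE6td hThE6td eigE6td (by decide)
    (m := ((v ^ f) ^ 4 + 1) * ((v ^ f) ^ 2 - 1)) h h'
  have e5 := fun h h' => te6_ord hq hF chainE6tA hThE6tA eigE6tA (by decide)
    (m := ((v ^ f) ^ 5 + 1) * (v ^ f - 1)) h h'
  have e4 := fun h h' => te6_ord hq hF chainE6tb hThE6tb eigE6tb (by decide)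
    (m := ((v ^ f) ^ 4 - 1) * ((v ^ f) ^ 2 + v ^ f + 1)) h h'
  have hup : ∀ x : ↥(Lie.twistedE6 F (v ^ f)), ∃ b m : ℕ, OmX v (-((v ^ f : ℕ) : ℤ)) (orderOf x) b m := by
    intro x
    obtain ⟨b, m, O⟩ := H378.OmTE6.om_2E6 (p := v) hq hN x
    exact ⟨b, m, omX_TE6 hu1 O⟩
  have hnear := fun r hr h2 hd hn => te6_near (r := r) hq hF hr h2 hd hn
  have hcard := Cfsg.Agent.S1066.result hq hF
  have hpw : ∃ a, 1 ≤ a ∧ v ^ f = v ^ a := ⟨f, hf, rfl⟩
  clear hN hF hq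
  generalize v ^ f = u at *
  have h2 : 1 < u ^ 2 := Nat.one_lt_pow (by norm_num) (by omega)
  have h4 : 1 < u ^ 4 := Nat.one_lt_pow (by norm_num) (by omega)
  have h6 : 1 < u ^ 6 := Nat.one_lt_pow (by norm_num) (by omega)
  have h8 : 1 < u ^ 8 := Nat.one_lt_pow (by norm_num) (by omega)
  have h12 : 1 < u ^ 12 := Nat.one_lt_pow (by norm_num) (by omega)
  have h7 : u ≤ u ^ 2 := Nat.le_self_pow two_ne_zero u
  have h24 : u ^ 2 ≤ u ^ 4 := Nat.pow_le_pow_right hu1 (by norm_num)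
  have h36 : u ^ 3 ≤ u ^ 6 := Nat.pow_le_pow_right hu1 (by norm_num)
  have d2 : u + 1 ∣ u ^ 2 - 1 := by
    rw [sq_sub_one hu1]
    exact dvd_mul_left _ _
  have d4 : u + 1 ∣ u ^ 4 - 1 := by
    have : u ^ 4 - 1 = (u ^ 2 + 1) * (u ^ 2 - 1) := by
      zify [h4.le, h2.le]
      ring
    rw [this]
    exact d2.mul_left _
  have key : ∀ {m : ℕ} {n : ℤ}, (∃ x : ↥(Lie.twistedE6 F u), Nat.gcd 3 (u + 1) * orderOf x = m) → (m : ℤ) = n →
      ∃ x : ↥(Lie.twistedE6 F u), ((Nat.gcd 3 (u + 1) : ℕ) : ℤ) * (orderOf x : ℕ) = n := by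
    rintro m n ⟨x, hx⟩ rfl
    exact ⟨x, by exact_mod_cast hx⟩
  refine ⟨hv, hpw, Or.inr rfl, ?_, hup, ?_, ?_, ?_, ?_, ?_, ?_, ?_⟩
  · rcases hgc with h | h
    · left
      refine ⟨h, fun h3 => ?_⟩
      have h4 : ((3 : ℕ) : ℤ) ∣ ((u + 1 : ℕ) : ℤ) := by
        push_cast
        rw [← dvd_neg] at h3
        have e : -(-(u : ℤ) - 1) = u + 1 := by ring
        rwa [e] at h3
      have h5 := Nat.dvd_gcd dvd_rfl (Int.natCast_dvd_natCast.1 h4)
      rw [h] at h5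
      norm_num at h5
    · right
      refine ⟨h, ?_⟩
      rw [h] at hgd
      have h3 : ((3 : ℕ) : ℤ) ∣ ((u + 1 : ℕ) : ℤ) := Int.natCast_dvd_natCast.2 hgd
      push_cast at h3
      rw [← dvd_neg]
      have e : -(-(u : ℤ) - 1) = u + 1 := by ring
      rw [e]
      exact h3
  · intro r hr h2 hd hn
    have := hnear r hr h2 hd hn
    have a1 : (-(u : ℤ)) ^ 4 = (u : ℤ) ^ 4 := by ring
    have a2 : (-(u : ℤ)) ^ 2 = (u : ℤ) ^ 2 := by ring
    have a3 : (-(u : ℤ)) ^ 6 + (-(u : ℤ)) ^ 3 + 1 = (u : ℤ) ^ 6 - (u : ℤ) ^ 3 + 1 := by ring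
    rw [a1, a2, a3]
    exact this
  · exact key (e9 (by omega) hg9 (by rw [pvE6tB]; push_cast [h36]; exact dvd_rfl)) (by push_cast [h36]; ring)
  · exact key (e12 (Nat.mul_pos (by omega) (by omega)) (hg3.mul_left _) (by
      rw [pvE6tC]; push_cast [h24, h7]; exact dvd_of_eq (by ring))) (by push_cast [h24, h7]; ring)
  · exact key (e8 (Nat.mul_pos (by omega) (by omega)) ((hgd.trans d2).mul_left _) (by
      rw [pvE6td]; push_cast [h2.le]; exact dvd_of_eq (by ring))) (by push_cast [h2.le]; ring)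
  · exact key (e5 (Nat.mul_pos (by omega) (by omega)) (hg5.mul_right _) (by
      rw [pvE6tA]; push_cast [hu1]; exact dvd_of_eq (by ring))) (by push_cast [hu1]; ring)
  · exact key (e4 (Nat.mul_pos (by omega) (by positivity)) ((hgd.trans d4).mul_right _) (by
      rw [pvE6tb]; push_cast [h4.le]; exact dvd_of_eq (by ring))) (by push_cast [h4.le]; ring)
  · have h : ((Nat.gcd 3 (u + 1) * Nat.card ↥(Lie.twistedE6 F u) : ℕ) : ℤ) =
        ((u ^ 36 * (u ^ 2 - 1) * (u ^ 5 + 1) * (u ^ 6 - 1) * (u ^ 8 - 1) * (u ^ 9 + 1) * (u ^ 12 - 1) : ℕ) : ℤ) := by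
      rw [hcard]
    rw [Nat.cast_mul] at h
    rw [h]
    push_cast [h2.le, h6.le, h8.le, h12.le]
    ring

end

end Cfsg.Agent.R2.Spec.X4.H18
end

private theorem dce_6451a5e1e389 : _root_.True := by
  try have : _root_.True := by simp only [_root_.Cfsg.Agent.R2.Spec.X4.H18.kE6d.eq_1]
  try have : _root_.True := by simp only [_root_.Cfsg.Agent.R2.Spec.X4.H18.kE6td.eq_1]
  try have : _root_.True := by simp only [_root_.Cfsg.Agent.R2.Spec.X4.H18.kE6b.eq_1]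
  try have : _root_.True := by simp only [_root_.Cfsg.Agent.R2.Spec.X4.H18.kE6tb.eq_1]
  exact _root_.True.intro
end

-- part: R2/Spec/X4/H18/E6
section
prune_inst 0x20040400000000000000000000002000000000000001100000040006900000000800400008020000000000000000000000000000000000000000000000000000000000100100000000000002000000000000000000000000000000041000000000000
set_option linter.all false
open scoped Cfsg.Agent.FastGrp

-- part: R2/Spec/X4/H18/E6Num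
section
/-!
# `E₆(u)`, `²E₆(u)` : the classes `8` and `12`, numbers (helper18)

* `kt_one` : `k ∣ Φ`, `g T = Φ P`, `T ∣ A` imply `k = Φ` and an equation;
* `no12`, `no8` : the equations have no solutions.
-/

set_option autoImplicit false
set_option linter.unusedVariables false
set_option linter.unusedSimpArgs false
set_option maxRecDepth 10000

namespace Cfsg.Agent.R2.Spec.X4.H18

variable {p q k A k' B : ℕ} {W : ℕ → Prop}

theorem kt_one (h : LW p q k A k' B W) {g T : ℕ} {Φ P : ℤ} (hg : g = 1 ∨ g = 3) (hT : (g : ℤ) * T = Φ * P)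
    (hTA : T ∣ A) (hk : (k : ℤ) ∣ Φ) (h2 : Φ % 2 = 1) (h3 : Φ % 3 ≠ 0) (h5 : Φ % 5 ≠ 0)
    (hΦ : 0 < Φ) (hP : 3 ≤ P) (h7 : 243 * Φ < 1372 * P ^ 2 - 2646 * P + 1701) :
    ∃ c γ s : ℤ, 1 ≤ c ∧ (γ = 1 ∨ γ = 3) ∧ (s = 1 ∨ s = -1) ∧
      (g * γ) ^ 2 * γ * Φ = (2 * c * P) ^ 2 + s * 3 * (g * γ) * (2 * c * P) + 3 * (g * γ) ^ 2 ∧
      2 * c * P = g * γ * (q - s) := by
  have hk0 : 0 < k := by have := (k_ge h).1; omega
  have hk3 : k.Coprime g := by
    rcases hg with rfl | rfl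
    · exact Nat.coprime_one_right _
    · refine ((Nat.Prime.coprime_iff_not_dvd Nat.prime_three).2 fun hd => ?_).symm
      have := h.side.prime h.q2 Nat.prime_three (Or.inl hd)
      omega
  have hkT : k ∣ T := by
    refine hk3.dvd_of_dvd_mul_left ?_
    have : (k : ℤ) ∣ ((g * T : ℕ) : ℤ) := by
      push_cast
      rw [hT]
      exact hk.mul_right _
    exact_mod_cast this
  obtain ⟨t', ht'⟩ := hkT
  obtain ⟨c, hc⟩ := hTA
  rw [mul_comm] at hc
  obtain ⟨t, ht⟩ := hk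
  have hkz : (0 : ℤ) < k := by exact_mod_cast hk0
  have hgt : (g : ℤ) * t' = t * P := by
    apply mul_left_cancel₀ hkz.ne'
    have e : (T : ℤ) = k * t' := by exact_mod_cast ht'
    rw [e, ht] at hT
    linear_combination hT
  have ht0 : 1 ≤ t := by
    by_contra hcon
    have : t ≤ 0 := by omega
    nlinarith only [hΦ, ht, hcon]
  have hA0 : 0 < A := by
    have := h.side.A_odd
    omega
  have hc0 : 1 ≤ c := by
    rcases Nat.eq_zero_or_pos c with h0 | h0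
    · rw [h0, zero_mul] at hc
      omega
    · exact h0
  have hcz : (1 : ℤ) ≤ c := by exact_mod_cast hc0
  -- the equations
  obtain ⟨γ, s, hγ, hs, e1, e2⟩ : ∃ γ s : ℤ, (γ = 1 ∨ γ = 3) ∧ (s = 1 ∨ s = -1) ∧
      2 * (c * t' : ℤ) = γ * (q - s) ∧ γ * k = (q : ℤ) ^ 2 + s * q + 1 := by
    obtain ⟨γ, hγ, ⟨-, e1, e2⟩ | ⟨-, e1, e2⟩⟩ := cof_k' h hc ht'
    · refine ⟨γ, 1, by rcases hγ with rfl | rfl <;> simp, Or.inl rfl, ?_, ?_⟩
      · have : 2 * ((c : ℤ) * t') + γ = γ * q := by exact_mod_cast e1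
        linarith only [e1]
      · have : (γ : ℤ) * k = (q : ℤ) ^ 2 + q + 1 := by exact_mod_cast e2
        linarith only [e2]
    · refine ⟨γ, -1, by rcases hγ with rfl | rfl <;> simp, Or.inr rfl, ?_, ?_⟩
      · have : 2 * ((c : ℤ) * t') = γ * (q + 1) := by exact_mod_cast e1
        linarith only [e1]
      · have : (γ : ℤ) * k + q = (q : ℤ) ^ 2 + 1 := by exact_mod_cast e2
        linarith only [e2]
  have hss : s ^ 2 = 1 := by rcases hs with rfl | rfl <;> norm_num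
  have e3 : 2 * c * t * P = g * γ * (q - s) := by
    have : (g : ℤ) * (2 * (c * t')) = g * (γ * (q - s)) := by rw [e1]
    linear_combination this - 2 * (c : ℤ) * hgt
  have e4 : (g * γ : ℤ) ^ 2 * γ * Φ = t * ((2 * c * t * P) ^ 2 + s * 3 * (g * γ) * (2 * c * t * P) +
      3 * (g * γ) ^ 2) := by
    rw [e3, ht]
    linear_combination (t * (g * γ : ℤ) ^ 2) * e2 + (t * (g * γ : ℤ) ^ 2) * (2 : ℤ) * hss
  have hG1 : (1 : ℤ) ≤ g * γ ∧ (g * γ : ℤ) ≤ 9 ∧ (g * γ : ℤ) ^ 2 * γ ≤ 243 := by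
    rcases hg with rfl | rfl <;> rcases hγ with rfl | rfl <;> norm_num
  -- `t = 1`
  have ht1 : t = 1 := by
    by_contra hne
    have ho : t % 2 = 1 := by
      by_contra hcon
      have h0 : t % 2 = 0 := by omega
      rw [ht, Int.mul_emod, h0, mul_zero] at h2
      simp at h2
    have ho3 : t % 3 ≠ 0 := by
      intro h0
      rw [ht, Int.mul_emod, h0, mul_zero] at h3
      simp at h3
    have ho5 : t % 5 ≠ 0 := by
      intro h0
      rw [ht, Int.mul_emod, h0, mul_zero] at h5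
      simp at h5
    have ht7 : 7 ≤ t := by
      by_contra hlt
      have h6 : t < 7 := by omega
      interval_cases t <;> (clear * - hne ho3 ho5 h2 ht; omega)
    have hct : 7 ≤ (c : ℤ) * t := by nlinarith only [hc0, ht7]
    have hZ : 14 * P ≤ 2 * c * t * P := by nlinarith only [hP, hct]
    have e5 : t * ((2 * c * t * P) ^ 2 + s * 3 * (g * γ) * (2 * c * t * P) + 3 * (g * γ) ^ 2) ≤ 243 * Φ := by
      rw [← e4]
      exact mul_le_mul_of_nonneg_right hG1.2.2 hΦ.le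
    generalize (g * γ : ℤ) = G at *
    generalize 2 * c * t * P = Z at *
    have hZ0 : 0 ≤ G * Z := mul_nonneg (by linarith only [hG1]) (by linarith only [hP, hZ])
    have e6 : Z ^ 2 - 3 * G * Z + 3 * G ^ 2 ≤ Z ^ 2 + s * 3 * G * Z + 3 * G ^ 2 := by
      rcases hs with rfl | rfl
      · linarith only [hZ0]
      · linarith only []
    have e7 : 196 * P ^ 2 - 378 * P + 243 ≤ Z ^ 2 - 3 * G * Z + 3 * G ^ 2 := by
      have a1 : (14 * P) ^ 2 - 27 * (14 * P) + 243 ≤ Z ^ 2 - 27 * Z + 243 := by nlinarith only [hP, hZ]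
      have a2 : Z ^ 2 - 27 * Z + 243 ≤ Z ^ 2 - 3 * G * Z + 3 * G ^ 2 := by nlinarith only [hP, hG1, hZ]
      linarith only [a1, a2]
    have e8 : 0 ≤ 196 * P ^ 2 - 378 * P + 243 := by linarith only [hΦ, h7]
    have e9 : 7 * (196 * P ^ 2 - 378 * P + 243) ≤ t * (Z ^ 2 + s * 3 * G * Z + 3 * G ^ 2) := by
      calc 7 * (196 * P ^ 2 - 378 * P + 243) ≤ t * (196 * P ^ 2 - 378 * P + 243) :=
            mul_le_mul_of_nonneg_right ht7 e8
        _ ≤ t * (Z ^ 2 + s * 3 * G * Z + 3 * G ^ 2) := mul_le_mul_of_nonneg_left (e7.trans e6) (by linarith only [ht7])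
    linarith only [h7, e5, e9]
  rw [ht1, mul_one] at e3
  rw [ht1, mul_one, one_mul] at e4
  exact ⟨c, γ, s, hcz, hγ, hs, e4, e3⟩

/-- no solution between `c₀` and `c₀ + 1` -/
theorem no_between {G R P c₀ c s : ℤ} (hG : 0 < G) (hP : 0 < P) (hs : s = 1 ∨ s = -1) (hc : 0 ≤ c) (hc₀ : 0 ≤ c₀)
    (h3 : 3 * G ≤ 4 * (c₀ + 1) * P)
    (h1 : (2 * c₀ * P) ^ 2 + 3 * G * (2 * c₀ * P) + 3 * G ^ 2 < R)
    (h2 : R < (2 * (c₀ + 1) * P) ^ 2 - 3 * G * (2 * (c₀ + 1) * P) + 3 * G ^ 2) :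
    R ≠ (2 * c * P) ^ 2 + s * 3 * G * (2 * c * P) + 3 * G ^ 2 := by
  intro e
  rcases (lt_or_ge c₀ c).symm with h4 | h4
  · have a1 : 2 * c * P ≤ 2 * c₀ * P := by nlinarith only [hP, h4]
    have a0 : 0 ≤ 2 * c * P := by positivity
    have a2 : (2 * c * P) ^ 2 ≤ (2 * c₀ * P) ^ 2 := pow_le_pow_left₀ a0 a1 2
    have a3 : s * 3 * G * (2 * c * P) ≤ 3 * G * (2 * c₀ * P) := by
      rcases hs with rfl | rfl
      · nlinarith only [hG, a1]
      · have : 0 ≤ 3 * G * (2 * c * P) := by (clear * - hG hP hc; positivity)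
        have : 0 ≤ 3 * G * (2 * c₀ * P) := by (clear * - hG hP hc₀; positivity)
        linarith
    linarith
  · have a1 : 2 * (c₀ + 1) * P ≤ 2 * c * P := by nlinarith only [hP, h4]
    have a0 : 0 ≤ 2 * (c₀ + 1) * P := by positivity
    have hY : 3 * G ≤ 2 * (2 * (c₀ + 1) * P) := by linarith
    have a3 : -(3 * G * (2 * c * P)) ≤ s * 3 * G * (2 * c * P) := by
      rcases hs with rfl | rfl
      · have : 0 ≤ 3 * G * (2 * c * P) := by (clear * - hG hP hc; positivity)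
        linarith
      · linarith
    generalize 2 * (c₀ + 1) * P = Y at *
    generalize 2 * c * P = Z at *
    nlinarith only [h2, hY, e, a3, a1]

/-- small `u`, class `12` -/
theorem small12 : ∀ u ∈ List.range 40, ∀ c ∈ List.range 12, ∀ X ∈ [(u : ℤ), -(u : ℤ)], ∀ g ∈ [(1 : ℤ), 3],
    ∀ γ ∈ [(1 : ℤ), 3], ∀ s ∈ [(1 : ℤ), -1], 2 ≤ u →
    (g * γ) ^ 2 * γ * (X ^ 4 - X ^ 2 + 1) = (2 * c * (X ^ 2 + X + 1)) ^ 2 +
      s * 3 * (g * γ) * (2 * c * (X ^ 2 + X + 1)) + 3 * (g * γ) ^ 2 →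
    2 * c * (X ^ 2 + X + 1) = g * γ * (15 - s) ∨ 2 * c * (X ^ 2 + X + 1) = g * γ * (3 - s) := by
  decide +kernel

/-- small `u`, class `8` -/
theorem small8 : ∀ u ∈ List.range 40, ∀ c ∈ List.range 12, ∀ g ∈ [(1 : ℤ), 3],
    ∀ γ ∈ [(1 : ℤ), 3], ∀ s ∈ [(1 : ℤ), -1], 2 ≤ u →
    (g * γ) ^ 2 * γ * ((u : ℤ) ^ 4 + 1) = (2 * c * ((u : ℤ) ^ 2 - 1)) ^ 2 +
      s * 3 * (g * γ) * (2 * c * ((u : ℤ) ^ 2 - 1)) + 3 * (g * γ) ^ 2 → False := by
  decide +kernel

/-- `c ≤ 11` -/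
theorem c_le {g γ Φ P c s : ℤ} (hg : g = 1 ∨ g = 3) (hγ : γ = 1 ∨ γ = 3) (hs : s = 1 ∨ s = -1) (hΦ : 0 < Φ) (hP : 3 ≤ P)
    (h : 243 * Φ < 576 * P ^ 2 - 648 * P + 243)
    (e : (g * γ) ^ 2 * γ * Φ = (2 * c * P) ^ 2 + s * 3 * (g * γ) * (2 * c * P) + 3 * (g * γ) ^ 2) : c < 12 := by
  by_contra hcon
  have hG1 : (1 : ℤ) ≤ g * γ ∧ (g * γ : ℤ) ≤ 9 ∧ (g * γ : ℤ) ^ 2 * γ ≤ 243 := by
    rcases hg with rfl | rfl <;> rcases hγ with rfl | rfl <;> norm_num
  have hZ : 24 * P ≤ 2 * c * P := by nlinarith only [hP, hcon]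
  have e5 : (g * γ) ^ 2 * γ * Φ ≤ 243 * Φ := mul_le_mul_of_nonneg_right hG1.2.2 hΦ.le
  rw [e] at e5
  generalize (g * γ : ℤ) = G at *
  generalize 2 * c * P = Z at *
  have hZ0 : 0 ≤ G * Z := mul_nonneg (by linarith) (by linarith)
  have e6 : Z ^ 2 - 3 * G * Z + 3 * G ^ 2 ≤ Z ^ 2 + s * 3 * G * Z + 3 * G ^ 2 := by
    rcases hs with rfl | rfl
    · linarith only [hZ0]
    · linarith
  have e7 : 576 * P ^ 2 - 648 * P + 243 ≤ Z ^ 2 - 3 * G * Z + 3 * G ^ 2 := by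
    have a1 : (24 * P) ^ 2 - 27 * (24 * P) + 243 ≤ Z ^ 2 - 27 * Z + 243 := by nlinarith only [hP, hZ]
    have a2 : Z ^ 2 - 27 * Z + 243 ≤ Z ^ 2 - 3 * G * Z + 3 * G ^ 2 := by nlinarith only [hP, hG1, hZ]
    linarith
  linarith

/-- **Class `12`.** -/
theorem no12 (h : LW p q k A k' B W) {g T u : ℕ} {X : ℤ} (hX : X = u ∨ X = -u) (hu : 2 ≤ u) (hg : g = 1 ∨ g = 3)
    (hT : (g : ℤ) * T = (X ^ 4 - X ^ 2 + 1) * (X ^ 2 + X + 1))
    (hTA : T ∣ A) (hk : (k : ℤ) ∣ X ^ 4 - X ^ 2 + 1) : False := by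
  have hq7 := h.q7
  have m2 : (X ^ 4 - X ^ 2 + 1) % 2 = 1 := by
    have : X % 2 = 0 ∨ X % 2 = 1 := by omega
    rcases this with h | h <;> simp only [pow_succ, Int.add_emod, Int.sub_emod, Int.mul_emod, h, _root_.pow_succ, _root_.pow_zero, _root_.one_mul, _root_.Int.add_emod, _root_.Int.sub_emod, _root_.Int.mul_emod, _root_.MulZeroClass.mul_zero, _root_.EuclideanDomain.zero_mod, _root_.sub_self, _root_.Int.one_emod_two, _root_.zero_add, _root_.mul_one]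
  have m3 : (X ^ 4 - X ^ 2 + 1) % 3 ≠ 0 := by
    have : X % 3 = 0 ∨ X % 3 = 1 ∨ X % 3 = 2 := by omega
    rcases this with h | h | h <;> simp only [pow_succ, Int.add_emod, Int.sub_emod, Int.mul_emod, h, _root_.pow_succ, _root_.pow_zero, _root_.one_mul, _root_.Int.add_emod, _root_.Int.sub_emod, _root_.Int.mul_emod, _root_.MulZeroClass.mul_zero, _root_.EuclideanDomain.zero_mod, _root_.sub_self, _root_.Int.reduceMod, _root_.zero_add, _root_.ne_eq, _root_.one_ne_zero, _root_.not_false_eq_true, _root_.mul_one, _root_.Int.reduceMul]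
  have m5 : (X ^ 4 - X ^ 2 + 1) % 5 ≠ 0 := by
    have : X % 5 = 0 ∨ X % 5 = 1 ∨ X % 5 = 2 ∨ X % 5 = 3 ∨ X % 5 = 4 := by omega
    rcases this with h | h | h | h | h <;> simp only [pow_succ, Int.add_emod, Int.sub_emod, Int.mul_emod, h, _root_.pow_succ, _root_.pow_zero, _root_.one_mul, _root_.Int.add_emod, _root_.Int.sub_emod, _root_.Int.mul_emod, _root_.MulZeroClass.mul_zero, _root_.EuclideanDomain.zero_mod, _root_.sub_self, _root_.Int.reduceMod, _root_.zero_add, _root_.ne_eq, _root_.one_ne_zero, _root_.not_false_eq_true, _root_.mul_one, _root_.Int.reduceMul, _root_.Int.reduceSub, _root_.Int.reduceAdd, _root_.OfNat.ofNat_ne_zero]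
  have b1 : 0 < X ^ 4 - X ^ 2 + 1 := by nlinarith only [sq_nonneg (X ^ 2)]
  have b2 : 3 ≤ X ^ 2 + X + 1 := by
    rcases hX with rfl | rfl
    · linarith only [hu, _root_.sq_nonneg (↑u : ℤ)]
    · have : (2 : ℤ) ≤ u := by exact_mod_cast hu
      nlinarith only [hu]
  have b3 : 243 * (X ^ 4 - X ^ 2 + 1) < 1372 * (X ^ 2 + X + 1) ^ 2 - 2646 * (X ^ 2 + X + 1) + 1701 := by
    obtain ⟨t, rfl⟩ : ∃ t, u = t + 2 := ⟨u - 2, by omega⟩
    rcases hX with rfl | rfl <;> push_cast <;> apply pos_lt <;> clear * - <;> ring_nf <;> positivity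
  have b4 : 243 * (X ^ 4 - X ^ 2 + 1) < 576 * (X ^ 2 + X + 1) ^ 2 - 648 * (X ^ 2 + X + 1) + 243 := by
    obtain ⟨t, rfl⟩ : ∃ t, u = t + 2 := ⟨u - 2, by omega⟩
    rcases hX with rfl | rfl <;> push_cast <;> apply pos_lt <;> clear * - <;> ring_nf <;> positivity
  obtain ⟨c, γ, s, hc, hγ, hs, e1, e2⟩ := kt_one h hg hT hTA hk m2 m3 m5 b1 b2 b3
  have hgz : (g : ℤ) = 1 ∨ (g : ℤ) = 3 := by
    rcases hg with rfl | rfl
    · left; rfl
    · right; rfl
  have hc12 := c_le hgz hγ hs b1 b2 b4 e1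
  rcases Nat.lt_or_ge u 40 with hu40 | hu40
  · obtain ⟨c', rfl⟩ : ∃ c' : ℕ, c = c' := ⟨c.toNat, by omega⟩
    have h1 := small12 u (List.mem_range.2 hu40) c' (List.mem_range.2 (by omega)) X
      (by rcases hX with h | h <;> simp [h]) g (by rcases hgz with h | h <;> simp [h]) γ
      (by rcases hγ with h | h <;> simp [h]) s (by rcases hs with h | h <;> simp [h]) hu e1
    have hG : (0 : ℤ) < g * γ := by
      rcases hgz with h | h <;> rcases hγ with h' | h' <;> rw [h, h'] <;> norm_num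
    rw [e2] at h1
    rcases h1 with h1 | h1
    · have h2 := mul_left_cancel₀ hG.ne' h1
      have h3 : q = 15 := by omega
      obtain ⟨e, he⟩ := h.qp
      rw [h3] at he
      have d3 : 3 ∣ p ^ e := by rw [← he]; norm_num
      have d5 : 5 ∣ p ^ e := by rw [← he]; norm_num
      have h4 := (Nat.prime_dvd_prime_iff_eq Nat.prime_three h.pp).1 (Nat.prime_three.dvd_of_dvd_pow d3)
      have h5 := (Nat.prime_dvd_prime_iff_eq Nat.prime_five h.pp).1 (Nat.prime_five.dvd_of_dvd_pow d5)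
      omega
    · have h2 := mul_left_cancel₀ hG.ne' h1
      omega
  · have hX' : ∃ t : ℕ, X = t + 40 ∨ X = -(t + 40 : ℤ) := ⟨u - 40, by
      rcases hX with h | h
      · left; rw [h]; push_cast [hu40]; ring
      · right; rw [h]; push_cast [hu40]; ring⟩
    obtain ⟨t, ht⟩ := hX'
    rcases hgz with hg' | hg' <;> rcases hγ with rfl | rfl <;> rw [hg'] at e1
    · refine no_between (G := 1 * 1) (c₀ := 0) (by norm_num) (by linarith only [b2]) hs (by linarith only [hc]) (by norm_num) (by linarith only [b2])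
        ?_ ?_ e1 <;> rcases ht with rfl | rfl <;> apply pos_lt <;> clear * - <;> ring_nf <;> positivity
    · refine no_between (G := 1 * 3) (c₀ := 2) (by norm_num) (by linarith only [b2]) hs (by linarith only [hc]) (by norm_num) (by linarith only [b2])
        ?_ ?_ e1 <;> rcases ht with rfl | rfl <;> apply pos_lt <;> clear * - <;> ring_nf <;> positivity
    · refine no_between (G := 3 * 1) (c₀ := 1) (by norm_num) (by linarith only [b2]) hs (by linarith only [hc]) (by norm_num) (by linarith only [b2])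
        ?_ ?_ e1 <;> rcases ht with rfl | rfl <;> apply pos_lt <;> clear * - <;> ring_nf <;> positivity
    · refine no_between (G := 3 * 3) (c₀ := 7) (by norm_num) (by linarith only [b2]) hs (by linarith only [hc]) (by norm_num) (by linarith only [b2])
        ?_ ?_ e1 <;> rcases ht with rfl | rfl <;> apply pos_lt <;> clear * - <;> ring_nf <;> positivity

/-- **Class `8`.** -/
theorem no8 (h : LW p q k A k' B W) {g T u : ℕ} {X : ℤ} (hX : X = u ∨ X = -u) (hu : 2 ≤ u) (hev : u % 2 = 0)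
    (hg : g = 1 ∨ g = 3) (hT : (g : ℤ) * T = (X ^ 4 + 1) * (X ^ 2 - 1))
    (hTA : T ∣ A) (hk : (k : ℤ) ∣ X ^ 4 + 1) : False := by
  have e4 : X ^ 4 = (u : ℤ) ^ 4 := by rcases hX with rfl | rfl <;> ring
  have e2 : X ^ 2 = (u : ℤ) ^ 2 := by rcases hX with rfl | rfl <;> ring
  rw [e4, e2] at hT
  rw [e4] at hk
  clear e4 e2 hX
  have m2 : ((u : ℤ) ^ 4 + 1) % 2 = 1 := by
    have : (u : ℤ) % 2 = 0 := by omega
    simp [pow_succ, Int.add_emod, Int.sub_emod, Int.mul_emod, this]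
  have m3 : ((u : ℤ) ^ 4 + 1) % 3 ≠ 0 := by
    have : (u : ℤ) % 3 = 0 ∨ (u : ℤ) % 3 = 1 ∨ (u : ℤ) % 3 = 2 := by (clear * -; omega)
    rcases this with h | h | h <;> simp only [pow_succ, Int.add_emod, Int.sub_emod, Int.mul_emod, h, _root_.pow_succ, _root_.pow_zero, _root_.one_mul, _root_.Int.add_emod, _root_.Int.mul_emod, _root_.MulZeroClass.mul_zero, _root_.EuclideanDomain.zero_mod, _root_.Int.reduceMod, _root_.zero_add, _root_.ne_eq, _root_.one_ne_zero, _root_.not_false_eq_true, _root_.mul_one, _root_.Int.reduceAdd, _root_.OfNat.ofNat_ne_zero, _root_.Int.reduceMul]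
  have m5 : ((u : ℤ) ^ 4 + 1) % 5 ≠ 0 := by
    have : (u : ℤ) % 5 = 0 ∨ (u : ℤ) % 5 = 1 ∨ (u : ℤ) % 5 = 2 ∨ (u : ℤ) % 5 = 3 ∨ (u : ℤ) % 5 = 4 := by (clear * -; omega)
    rcases this with h | h | h | h | h <;> simp only [pow_succ, Int.add_emod, Int.sub_emod, Int.mul_emod, h, _root_.pow_succ, _root_.pow_zero, _root_.one_mul, _root_.Int.add_emod, _root_.Int.mul_emod, _root_.MulZeroClass.mul_zero, _root_.EuclideanDomain.zero_mod, _root_.Int.reduceMod, _root_.zero_add, _root_.ne_eq, _root_.one_ne_zero, _root_.not_false_eq_true, _root_.mul_one, _root_.Int.reduceAdd, _root_.OfNat.ofNat_ne_zero, _root_.Int.reduceMul]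
  have b1 : 0 < (u : ℤ) ^ 4 + 1 := by positivity
  have b2 : 3 ≤ (u : ℤ) ^ 2 - 1 := by
    have : (2 : ℤ) ≤ u := by exact_mod_cast hu
    nlinarith only [hu]
  have b3 : 243 * ((u : ℤ) ^ 4 + 1) < 1372 * ((u : ℤ) ^ 2 - 1) ^ 2 - 2646 * ((u : ℤ) ^ 2 - 1) + 1701 := by
    obtain ⟨t, rfl⟩ : ∃ t, u = t + 2 := ⟨u - 2, by omega⟩
    push_cast
    apply pos_lt
    clear * -
    ring_nf
    positivity
  obtain ⟨c, γ, s, hc, hγ, hs, e1, e2⟩ := kt_one h hg hT hTA hk m2 m3 m5 b1 b2 b3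
  have hgz : (g : ℤ) = 1 ∨ (g : ℤ) = 3 := by
    rcases hg with rfl | rfl
    · left; rfl
    · right; rfl
  rcases Nat.lt_or_ge u 40 with hu40 | hu40
  · have hc12 : c < 12 ∨ u = 2 := by
      rcases Nat.lt_or_ge u 3 with h3 | h3
      · right; omega
      · left
        refine c_le hgz hγ hs b1 b2 ?_ e1
        obtain ⟨t, rfl⟩ : ∃ t, u = t + 3 := ⟨u - 3, by omega⟩
        push_cast
        apply pos_lt
        clear * -
        ring_nf
        positivity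
    have hc12' : c < 12 := by
      rcases hc12 with hc12 | rfl
      · exact hc12
      · by_contra hcon
        have hk17 := Int.le_of_dvd (by norm_num) hk
        have := (k_ge h).1
        norm_num at hk17
        omega
    obtain ⟨c', rfl⟩ : ∃ c' : ℕ, c = c' := ⟨c.toNat, by omega⟩
    exact small8 u (List.mem_range.2 hu40) c' (List.mem_range.2 (by omega)) g
      (by rcases hgz with h | h <;> simp [h]) γ
      (by rcases hγ with h | h <;> simp [h]) s (by rcases hs with h | h <;> simp [h]) hu e1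
  · obtain ⟨t, rfl⟩ : ∃ t, u = t + 40 := ⟨u - 40, by omega⟩
    rcases hgz with hg' | hg' <;> rcases hγ with rfl | rfl <;> rw [hg'] at e1
    · refine no_between (G := 1 * 1) (c₀ := 0) (by norm_num) (by linarith only [b2]) hs (by linarith only [hc]) (by norm_num) (by linarith only [b2])
        ?_ ?_ e1 <;> push_cast <;> apply pos_lt <;> clear * - <;> ring_nf <;> positivity
    · refine no_between (G := 1 * 3) (c₀ := 2) (by norm_num) (by linarith only [b2]) hs (by linarith only [hc]) (by norm_num) (by linarith only [b2])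
        ?_ ?_ e1 <;> push_cast <;> apply pos_lt <;> clear * - <;> ring_nf <;> positivity
    · refine no_between (G := 3 * 1) (c₀ := 1) (by norm_num) (by linarith only [b2]) hs (by linarith only [hc]) (by norm_num) (by linarith only [b2])
        ?_ ?_ e1 <;> push_cast <;> apply pos_lt <;> clear * - <;> ring_nf <;> positivity
    · refine no_between (G := 3 * 3) (c₀ := 7) (by norm_num) (by linarith only [b2]) hs (by linarith only [hc]) (by norm_num) (by linarith only [b2])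
        ?_ ?_ e1 <;> push_cast <;> apply pos_lt <;> clear * - <;> ring_nf <;> positivity

end Cfsg.Agent.R2.Spec.X4.H18
end

-- part: R2/Spec/X4/H18/E6
section
/-!
# Box X4 of S3435 : rows `E₆(u)`, `²E₆(u)` (helper18)
-/

set_option autoImplicit false
set_option linter.unusedVariables false
set_option linter.unusedSimpArgs false

namespace Cfsg.Agent.R2.Spec.X4.H18

open Cfsg Cfsg.Agent.H426.LieFam

universe u

/-! ### numbers -/

/-- no common prime -/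
theorem nc {r : ℕ} (hr : r.Prime) (hr5 : 5 ≤ r) {T D : ℤ} (α β κ : ℤ) (hκ : κ = 1 ∨ κ = 2 ∨ κ = 3 ∨ κ = 6)
    (h : α * T + β * D = κ) (hT : (r : ℤ) ∣ T) : ¬ (r : ℤ) ∣ D := by
  intro hD
  have h1 : (r : ℤ) ∣ κ := by
    rw [← h]
    exact dvd_add (hT.mul_left _) (hD.mul_left _)
  have h2 : (r : ℤ) ∣ 6 := by
    rcases hκ with rfl | rfl | rfl | rfl
    · exact h1.trans (by norm_num)
    · exact h1.trans (by norm_num)
    · exact h1.trans (by norm_num)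
    · exact h1
  have h3 : r ∣ 6 := by exact_mod_cast h2
  have h4 := Nat.le_of_dvd (by norm_num) h3
  have h5 : r = 5 ∨ r = 6 := by omega
  rcases h5 with rfl | rfl
  · omega
  · norm_num at hr

theorem cop_int {n : ℕ} {Y : ℤ} (h : ∀ r : ℕ, r.Prime → r ∣ n → ¬ (r : ℤ) ∣ Y) : IsCoprime (n : ℤ) Y := by
  rw [Int.isCoprime_iff_gcd_eq_one]
  by_contra hne
  obtain ⟨r, hr, hd⟩ := Nat.exists_prime_and_dvd hne
  have h1 : (r : ℤ) ∣ ((Int.gcd (n : ℤ) Y : ℕ) : ℤ) := Int.natCast_dvd_natCast.2 hd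
  have h2 : (r : ℤ) ∣ (n : ℤ) := h1.trans (Int.gcd_dvd_left _ _)
  exact h r hr (by exact_mod_cast h2) (h1.trans (Int.gcd_dvd_right _ _))

theorem liftN {n g N : ℕ} {P : ℤ} (hng : n.Coprime g) (hN : (g : ℤ) * N = P) (h : (n : ℤ) ∣ P) : n ∣ N := by
  refine hng.dvd_of_dvd_mul_left ?_
  have : (n : ℤ) ∣ ((g * N : ℕ) : ℤ) := by
    push_cast
    rw [hN]
    exact h
  exact_mod_cast this

/-- the classes `8`, `12`, `9` -/
def Cl (r : ℕ) (X : ℤ) : Prop := (r : ℤ) ∣ X ^ 4 + 1 ∨ (r : ℤ) ∣ X ^ 4 - X ^ 2 + 1 ∨ (r : ℤ) ∣ X ^ 6 + X ^ 3 + 1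

section cl

variable {r : ℕ} {X : ℤ} (hr : r.Prime) (hr5 : 5 ≤ r)

include hr hr5

theorem Cl.n6 (h : Cl r X) : ¬ (r : ℤ) ∣ X ^ 6 - 1 := by
  rcases h with h | h | h
  · exact nc hr hr5 (-X ^ 4 + X ^ 2 + 1) (X ^ 2 - 1) 2 (by norm_num) (by ring) h
  · exact nc hr hr5 (X ^ 2 + 1) (-1) 2 (by norm_num) (by ring) h
  · exact nc hr hr5 (-X ^ 3 + 2) (X ^ 3 - 1) 3 (by norm_num) (by ring) h

theorem Cl.n4 (h : Cl r X) : ¬ (r : ℤ) ∣ (X ^ 4 - 1) * (X ^ 2 - X + 1) := by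
  rcases h with h | h | h
  · exact nc hr hr5 (-X ^ 5 + X + 1) (X ^ 3 + X ^ 2 - 1) 2 (by norm_num) (by ring) h
  · exact nc hr hr5 (-X ^ 5 + X ^ 4 + 2 * X ^ 2 + X + 3) (X ^ 3 - 2 * X - 3) 6 (by norm_num) (by ring) h
  · exact nc hr hr5 (X ^ 5 - 2 * X ^ 3 + X ^ 2 + 1) (-X ^ 5 - X ^ 4 + 2 * X ^ 3 + X ^ 2 - 2 * X - 2) 3 (by norm_num)
      (by ring) h

theorem Cl.n5 (h : Cl r X) : ¬ (r : ℤ) ∣ (X ^ 5 - 1) * (X + 1) := by
  rcases h with h | h | h
  · exact nc hr hr5 (-2 * X ^ 5 - X ^ 4 + X ^ 3 - X ^ 2 + X + 3) (2 * X ^ 3 - X ^ 2 + 1) 2 (by norm_num) (by ring) h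
  · exact nc hr hr5 (X ^ 5 + X ^ 4 - X ^ 3 + X ^ 2 - 1) (-X ^ 3 + 2 * X - 2) 1 (by norm_num) (by ring) h
  · exact nc hr hr5 (X ^ 5 + 2 * X ^ 4 - X ^ 3 - X ^ 2 - X + 1) (-X ^ 5 - X ^ 4 + 2 * X ^ 3 - 2 * X ^ 2 + X - 2) 3
      (by norm_num) (by ring) h

end cl

theorem d2_6 (X : ℤ) : X ^ 2 - 1 ∣ X ^ 6 - 1 := ⟨X ^ 4 + X ^ 2 + 1, by ring⟩

theorem d3_6 (X : ℤ) : X ^ 2 + X + 1 ∣ X ^ 6 - 1 := ⟨(X ^ 3 + 1) * (X - 1), by ring⟩

/-- `X ^ 6 + X ^ 3 + 1` and `g`, small `u` -/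
def tab9 : List (ℕ × ℕ) := [(73, 1), (57, 3), (757, 1), (703, 1), (4161, 3), (4033, 1), (15751, 1), (15501, 3),
  (117993, 3), (117307, 1)]

set_option synthInstance.maxHeartbeats 200000 in
set_option synthInstance.maxSize 2000 in
/-- small `u` -/
theorem small9a : ∀ q < 600, q % 4 = 3 → 7 ≤ q → ∀ N ∈ tab9, (q ^ 2 + q + 1) ∣ 3 * N.1 →
    N.1 / N.2 ∣ (q ^ 3 - 1) / 2 →
    q = 63 ∨ q = 7 ∧ N.1 = 57 ∨ q = 27 ∧ N.1 = 757 ∨ q = 343 ∧ N.1 = 117993 := by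
  decide +kernel

set_option synthInstance.maxHeartbeats 200000 in
set_option synthInstance.maxSize 2000 in
/-- small `u` -/
theorem small9b : ∀ q < 600, q % 4 = 1 → 7 ≤ q → ∀ N ∈ tab9, (q ^ 2 - q + 1) ∣ 3 * N.1 →
    N.1 / N.2 ∣ (q ^ 3 + 1) / 2 →
    q = 65 ∨ q = 9 ∧ N.1 = 73 ∨ q = 125 ∧ N.1 = 15501 := by
  decide +kernel

section

variable {p q k A k' B m i : ℕ} {W : ℕ → Prop} {S : Type u} [Group S] {v u g : ℕ} {X : ℤ}

theorem E6Dat.u2 (D : E6Dat v u g X S) : 2 ≤ u := by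
  obtain ⟨f, hf, rfl⟩ := D.pw
  exact D.vp.two_le.trans (Nat.le_self_pow (by omega) v)

theorem E6Dat.vu (D : E6Dat v u g X S) : v ∣ u := by
  obtain ⟨f, hf, rfl⟩ := D.pw
  exact dvd_pow_self v (by omega)

theorem E6Dat.g13 (D : E6Dat v u g X S) : g = 1 ∨ g = 3 := by
  rcases D.hg with ⟨h, -⟩ | ⟨h, -⟩
  · exact Or.inl h
  · exact Or.inr h

theorem E6Dat.gX (D : E6Dat v u g X S) : (g : ℤ) ∣ X - 1 := by
  rcases D.hg with ⟨h, -⟩ | ⟨h, h'⟩
  · rw [h]; exact one_dvd _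
  · rw [h]; exact h'

theorem E6Dat.cop (D : E6Dat v u g X S) {n : ℕ} (hn : ∀ r : ℕ, r.Prime → r ∣ n → 5 ≤ r) : n.Coprime g := by
  rcases D.g13 with h | h
  · rw [h]; exact Nat.coprime_one_right _
  · rw [h]
    exact ((Nat.Prime.coprime_iff_not_dvd Nat.prime_three).2 fun hd => by
      have := hn 3 Nat.prime_three hd; omega).symm

/-- the class of `k` -/
theorem e6_kT (h : SX p q k A k' B m i W S) (hg : Good W m i) (D : E6Dat v u g X S) :
    (k : ℤ) ∣ X ^ 6 + X ^ 3 + 1 ∨ (k : ℤ) ∣ X ^ 4 - X ^ 2 + 1 ∨ ((k : ℤ) ∣ X ^ 4 + 1 ∧ u % 2 = 0) := by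
  have hk7 : ∀ r : ℕ, r.Prime → r ∣ k → 7 ≤ r := fun r hr hrk => SX.prime h hr (Or.inl hrk)
  have hcl : ∀ r : ℕ, r.Prime → r ∣ k → Cl r X := by
    intro r hr hrk
    have hr7 := hk7 r hr hrk
    have hgk := h.good_k hg hr hrk
    have hdS := h.dvd_card hr (h.W_prime hr (Or.inl hrk)) hgk.1 hgk.2
    exact D.near r hr (by omega) hdS (h.twoS hr hrk)
  obtain ⟨r, hr, hrk⟩ := Nat.exists_prime_and_dvd h.lw.k_pos.1.ne'
  have hr7 := hk7 r hr hrk
  obtain ⟨x, hx⟩ := h.kS hg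
  obtain ⟨b, n, O⟩ := D.up x
  rw [hx] at O
  have n6 := fun r hr hrk => (hcl r hr hrk).n6 hr (by have := hk7 r hr hrk; omega)
  have n4 := fun r hr hrk => (hcl r hr hrk).n4 hr (by have := hk7 r hr hrk; omega)
  have n5 := fun r hr hrk => (hcl r hr hrk).n5 hr (by have := hk7 r hr hrk; omega)
  -- `v` does not divide `k`
  have hvk : ¬ v ∣ k := by
    intro hvk
    have h1 := hcl v D.vp hvk
    have h2 : (v : ℤ) ∣ X := by
      have : (v : ℤ) ∣ u := Int.natCast_dvd_natCast.2 D.vu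
      rcases D.hX with h | h <;> rw [h]
      · exact this
      · exact this.neg_right
    have h3 : (v : ℤ) ∣ 1 := by
      rcases h1 with h1 | h1 | h1
      · have := dvd_sub h1 (h2.mul_right (X ^ 3))
        have e : X ^ 4 + 1 - X * X ^ 3 = 1 := by ring
        rwa [e] at this
      · have := dvd_sub h1 (h2.mul_right (X ^ 3 - X))
        have e : X ^ 4 - X ^ 2 + 1 - X * (X ^ 3 - X) = 1 := by ring
        rwa [e] at this
      · have := dvd_sub h1 (h2.mul_right (X ^ 5 + X ^ 2))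
        have e : X ^ 6 + X ^ 3 + 1 - X * (X ^ 5 + X ^ 2) = 1 := by ring
        rwa [e] at this
    have h4 := Int.le_of_dvd (by norm_num) h3
    have := D.vp.two_le
    omega
  have hb : b = 0 := by
    by_contra hb
    exact hvk (by rw [O.eq]; exact (dvd_pow_self v hb).mul_right _)
  have hkn : k = n := by rw [O.eq, hb, pow_zero, one_mul]
  have h0 := O.s0
  rw [← hkn] at h0
  have hrk' : (r : ℤ) ∣ k := Int.natCast_dvd_natCast.2 hrk
  rcases h0 with h0 | h0 | h0 | h0 | h0 | h0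
  · right; right
    have hc : IsCoprime (k : ℤ) (X ^ 2 - 1) := cop_int fun r hr hrk hd => n6 r hr hrk (hd.trans (d2_6 X))
    have h1 : (k : ℤ) ∣ X ^ 4 + 1 := hc.dvd_of_dvd_mul_right h0
    refine ⟨h1, ?_⟩
    by_contra hodd
    obtain ⟨y, hy⟩ := D.ex8
    have hkN : k ∣ orderOf y := liftN (D.cop fun r hr hrk => by have := hk7 r hr hrk; omega) hy h0
    have h2N : 2 ∣ orderOf y := by
      refine liftN (g := g) ?_ hy ?_
      · rcases D.g13 with h | h <;> rw [h] <;> norm_num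
      · refine Dvd.dvd.mul_right ?_ _
        have : X % 2 = 1 := by rcases D.hX with h | h <;> omega
        have h3 : (X ^ 4 + 1) % 2 = 0 := by simp [pow_succ, Int.add_emod, Int.mul_emod, this]
        exact Int.dvd_of_emod_eq_zero h3
    exact SX.no_two h hr hrk ⟨y, rfl⟩ h2N (hrk.trans hkN)
  · exact absurd (hrk'.trans h0) (n5 r hr hrk)
  · exact absurd (hrk'.trans h0) (n4 r hr hrk)
  · exact absurd (hrk'.trans h0) (n6 r hr hrk)
  · right; left
    have hc : IsCoprime (k : ℤ) (X ^ 2 + X + 1) := cop_int fun r hr hrk hd => n6 r hr hrk (hd.trans (d3_6 X))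
    exact hc.dvd_of_dvd_mul_right h0
  · exact Or.inl h0

/-- the class of `k` is `9` -/
theorem e6_k9 (h : SX p q k A k' B m i W S) (hg : Good W m i) (D : E6Dat v u g X S) :
    (k : ℤ) ∣ X ^ 6 + X ^ 3 + 1 := by
  have hk7 : ∀ r : ℕ, r.Prime → r ∣ k → 7 ≤ r := fun r hr hrk => SX.prime h hr (Or.inl hrk)
  have hc : k.Coprime g := D.cop fun r hr hrk => by have := hk7 r hr hrk; omega
  rcases e6_kT h hg D with h1 | h1 | ⟨h1, h2⟩
  · exact h1
  · exfalso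
    obtain ⟨y, hy⟩ := D.ex12
    exact no12 h.lw D.hX D.u2 D.g13 hy (SX.dvdA h ⟨y, rfl⟩ (liftN hc hy (h1.mul_right _))) h1
  · exfalso
    obtain ⟨y, hy⟩ := D.ex8
    exact no8 h.lw D.hX D.u2 h2 D.g13 hy (SX.dvdA h ⟨y, rfl⟩ (liftN hc hy (h1.mul_right _))) h1

/-- **`u ≥ 8`.** -/
theorem e6_u8 (h : SX p q k A k' B m i W S) (hg : Good W m i) (D : E6Dat v u g X S) (hvp : v ≠ p) : 8 ≤ u := by
  by_contra hcon
  have h9 := e6_k9 h hg D
  have hk7 : ∀ r : ℕ, r.Prime → r ∣ k → 7 ≤ r := fun r hr hrk => SX.prime h hr (Or.inl hrk)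
  have hc : k.Coprime g := D.cop fun r hr hrk => by have := hk7 r hr hrk; omega
  obtain ⟨y, hy⟩ := D.ex9
  have hTA := SX.dvdA h ⟨y, rfl⟩ (liftN hc hy h9)
  have hu2 := D.u2
  have hq7 := h.lw.q7
  have hqo := h.lw.q_odd
  have hg0 : 0 < g := by rcases D.g13 with h | h <;> omega
  have hgX := D.hg
  -- `T = N / g`
  obtain ⟨N, hN, hN'⟩ : ∃ N : ℕ, N = g * orderOf y ∧ ((N : ℕ) : ℤ) = X ^ 6 + X ^ 3 + 1 :=
    ⟨_, rfl, by rw [← hy]; push_cast; ring⟩
  have hNT : N / g = orderOf y := by rw [hN, Nat.mul_div_cancel_left _ hg0]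
  have hu6 : u ≠ 6 := by
    rintro h6
    obtain ⟨f, hf, hu'⟩ := D.pw
    have h2 : 2 ∣ v ^ f := by rw [← hu', h6]; norm_num
    have h3 : 3 ∣ v ^ f := by rw [← hu', h6]; norm_num
    have h4 := (Nat.prime_dvd_prime_iff_eq Nat.prime_two D.vp).1 (Nat.prime_two.dvd_of_dvd_pow h2)
    have h5 := (Nat.prime_dvd_prime_iff_eq Nat.prime_three D.vp).1 (Nat.prime_three.dvd_of_dvd_pow h3)
    omega
  have htab : (N, g) ∈ tab9 ∧ (N = 73 → u = 2) ∧ (N = 57 → u = 2) ∧ (N = 757 → u = 3) ∧ (N = 117993 → u = 7) ∧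
      (N = 15501 → u = 5) := by
    rcases D.hX with rfl | rfl
    · have hu7 : u < 8 := by omega
      clear hcon hy
      interval_cases u
      · norm_num at hN' hgX
        have : N = 73 := by omega
        subst this
        rw [hgX]
        decide
      · norm_num at hN' hgX
        have : N = 757 := by omega
        subst this
        rw [hgX]
        decide
      · norm_num at hN' hgX
        have : N = 4161 := by omega
        subst this
        rw [hgX]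
        decide
      · norm_num at hN' hgX
        have : N = 15751 := by omega
        subst this
        rw [hgX]
        decide
      · exact absurd rfl hu6
      · norm_num at hN' hgX
        have : N = 117993 := by omega
        subst this
        rw [hgX]
        decide
    · have hu7 : u < 8 := by omega
      clear hcon hy
      interval_cases u
      · norm_num at hN' hgX
        have : N = 57 := by omega
        subst this
        rw [hgX]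
        decide
      · norm_num at hN' hgX
        have : N = 703 := by omega
        subst this
        rw [hgX]
        decide
      · norm_num at hN' hgX
        have : N = 4033 := by omega
        subst this
        rw [hgX]
        decide
      · norm_num at hN' hgX
        have : N = 15501 := by omega
        subst this
        rw [hgX]
        decide
      · exact absurd rfl hu6
      · norm_num at hN' hgX
        have : N = 117307 := by omega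
        subst this
        rw [hgX]
        decide
  -- `q < 600`
  have hN3 : 3 * N < 359400 := by
    have := htab.1
    simp only [tab9, List.mem_cons, List.not_mem_nil, or_false, Prod.mk.injEq] at this
    omega
  have hkN : k ∣ N := by
    have : (k : ℤ) ∣ N := by rw [hN']; exact h9
    exact_mod_cast this
  have hN0 : 0 < N := by
    rcases Nat.eq_zero_or_pos N with h0 | h0
    · rw [h0] at hN'
      have := htab.1
      rw [h0] at this
      simp [tab9] at this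
    · exact h0
  have hqq : q ≤ q ^ 2 := Nat.le_self_pow two_ne_zero q
  have h17 : u = 2 → (q = 7 ∨ q = 9) → False := by
    rintro rfl hq
    obtain ⟨z, hz⟩ := D.ex8
    have h1 : 17 ∣ orderOf z := by
      refine liftN (g := g) ?_ hz ?_
      · rcases D.g13 with h | h <;> rw [h] <;> norm_num
      · refine Dvd.dvd.mul_right ?_ _
        rcases D.hX with h | h <;> rw [h] <;> norm_num
    have h2 := h1.trans (h.lw.exp _ (h.WS z))
    have hpp := h.lw.pp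
    have hpq := h.lw.p_dvd
    rcases hq with rfl | rfl
    · have hp : p = 7 := (Nat.prime_dvd_prime_iff_eq hpp (by norm_num)).1 hpq
      subst hp
      norm_num at h2
    · have hp : p = 3 := (Nat.prime_dvd_prime_iff_eq hpp Nat.prime_three).1
        (hpp.dvd_of_dvd_pow (show p ∣ 3 ^ 2 by norm_num; exact hpq))
      subst hp
      norm_num at h2
  have hvq : ∀ {a b : ℕ}, u = a → q = a ^ b → b ≠ 0 → False := by
    rintro a b rfl hq hb
    obtain ⟨f, hf, hu'⟩ := D.pw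
    obtain ⟨e, he⟩ := h.lw.qp
    have h1 : v ∣ p ^ e := by
      rw [← he, hq, hu', ← pow_mul]
      exact dvd_pow_self v (Nat.mul_ne_zero (by omega) hb)
    exact hvp ((Nat.prime_dvd_prime_iff_eq D.vp h.lw.pp).1 (D.vp.dvd_of_dvd_pow h1))
  have hpq2 : ∀ a b : ℕ, a.Prime → b.Prime → a ≠ b → a ∣ q → b ∣ q → False := by
    intro a b ha hb hab h1 h2
    obtain ⟨e, he⟩ := h.lw.qp
    rw [he] at h1 h2
    have h3 := (Nat.prime_dvd_prime_iff_eq ha h.lw.pp).1 (ha.dvd_of_dvd_pow h1)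
    have h4 := (Nat.prime_dvd_prime_iff_eq hb h.lw.pp).1 (hb.dvd_of_dvd_pow h2)
    exact hab (h3.trans h4.symm)
  rw [← hNT] at hTA
  rcases h.lw.side with ⟨h1, -, hA, -⟩ | ⟨h1, -, hA, -⟩
  · rcases h.lw.side.cof h.lw.q2 with ⟨-, h2, -⟩ | ⟨h2, -⟩
    · have h3 : q ^ 2 + q + 1 ∣ 3 * N := by
        rcases h2 with h2 | ⟨h2, -⟩
        · rw [← h2]; exact hkN.mul_left 3
        · rw [← h2]; exact mul_dvd_mul_left 3 hkN
      have h4 := Nat.le_of_dvd (by omega) h3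
      have hq600 : q < 600 := by nlinarith only [hN3, h4]
      rw [hA] at hTA
      rcases small9a q hq600 h1 hq7 (N, g) htab.1 h3 hTA with h5 | ⟨h5, h6⟩ | ⟨h5, h6⟩ | ⟨h5, h6⟩
      · exact hpq2 3 7 (by norm_num) (by norm_num) (by norm_num) (by rw [h5]; norm_num) (by rw [h5]; norm_num)
      · exact h17 (htab.2.2.1 h6) (Or.inl h5)
      · exact hvq (b := 3) (htab.2.2.2.1 h6) (by rw [h5]; norm_num) (by norm_num)
      · exact hvq (b := 3) (htab.2.2.2.2.1 h6) (by rw [h5]; norm_num) (by norm_num)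
    · omega
  · rcases h.lw.side.cof h.lw.q2 with ⟨h2, -⟩ | ⟨-, -, h2⟩
    · omega
    · have h3 : q ^ 2 - q + 1 ∣ 3 * N := by
        rcases h2 with h2 | ⟨h2, -⟩
        · rw [← h2]; exact hkN.mul_left 3
        · rw [← h2]; exact mul_dvd_mul_left 3 hkN
      have h4 := Nat.le_of_dvd (by omega) h3
      have hq600 : q < 600 := by
        have : q ^ 2 + 1 ≤ 359400 + q := by (clear * - hN3 h4; omega)
        nlinarith only [this]
      rw [hA] at hTA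
      rcases small9b q hq600 h1 hq7 (N, g) htab.1 h3 hTA with h5 | ⟨h5, h6⟩ | ⟨h5, h6⟩
      · exact hpq2 5 13 (by norm_num) (by norm_num) (by norm_num) (by rw [h5]; norm_num) (by rw [h5]; norm_num)
      · exact h17 (htab.2.1 h6) (Or.inr h5)
      · exact hvq (b := 3) (htab.2.2.2.2.2 h6) (by rw [h5]; norm_num) (by norm_num)

/-- a torus of class `9` and another one -/
theorem kill6 (h : LW p q k A k' B W) {T D c : ℕ} {T' D' α β : ℤ} (hg : g = 1 ∨ g = 3) (hc : A = c * T)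
    (hD : D ∣ B) (hT' : (g : ℤ) * T = T') (hD' : (g : ℤ) * D = D') (hid : α * T' + β * D' = 3) (hcu : c < u ^ 4)
    (h1 : 3 * (u : ℤ) ^ 4 ≤ |α|) (h2 : 3 * (u : ℤ) ^ 4 + 3 * |α| < D') : False := by
  have hcz : (c : ℤ) < (u : ℤ) ^ 4 := by exact_mod_cast hcu
  have hc0 : (0 : ℤ) ≤ c := by positivity
  subst hT' hD'
  rcases hg with rfl | rfl
  · rcases kill_eq h hc hD (κ := 3) (α := α) (by norm_num) ⟨-β, by push_cast at hid; linear_combination hid⟩ (by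
      push_cast at h2
      linarith) with ⟨-, h3⟩ | ⟨-, h3⟩
    · have : |α| = c * 3 := by rw [← h3, abs_of_nonneg (by positivity)]
      linarith only [hcu, h1, this]
    · have : |α| = c * 3 := by
        rw [show α = -((c : ℤ) * 3) by linarith only [h3], abs_neg, abs_of_nonneg (by positivity)]
      linarith only [hcu, h1, this]
  · have hid' : α * T + β * D = 1 := by
      push_cast at hid
      linarith only [hid]
    rcases kill_eq h hc hD (κ := 1) (α := α) (by norm_num) ⟨-β, by linear_combination hid'⟩ (by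
      push_cast at h2
      linarith) with ⟨-, h3⟩ | ⟨-, h3⟩
    · have : |α| = c * 1 := by rw [← h3, abs_of_nonneg (by positivity)]
      linarith only [hcu, h1, this]
    · have : |α| = c * 1 := by
        rw [show α = -((c : ℤ) * 1) by linarith only [h3], abs_neg, abs_of_nonneg (by positivity)]
      linarith only [hcu, h1, this]

theorem abs_lt6 {α N D' L : ℤ} (h1 : -N ≤ α) (h2 : α ≤ N) (h3 : L + 3 * N < D') : L + 3 * |α| < D' := by
  have : |α| ≤ N := abs_le.2 ⟨h1, h2⟩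
  linarith

/-- small `k'` -/
theorem small6 (h : LW p q k A k' B W) (hu : 8 ≤ u) {T : ℕ} (hTA : T ∣ A) (hT : (u : ℤ) ^ 6 - u ^ 3 + 1 ≤ 3 * T)
    (hk' : k' ≤ 11 * u) : False := by
  have hA0 : 0 < A := by
    have := h.side.A_odd
    omega
  have h1 := Nat.le_of_dvd hA0 hTA
  have h2 := (h.side.k_ge h.q2).2
  have h3 : 2 * A ≤ q ^ 3 + 1 := by rcases h.side.two_mul with h3 | h3 <;> omega
  have hqq : q ≤ q ^ 2 := Nat.le_self_pow two_ne_zero q
  have hq7 : (7 : ℤ) ≤ q := by exact_mod_cast h.q7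
  have huz : (8 : ℤ) ≤ u := by exact_mod_cast hu
  have e1 : (q : ℤ) ^ 2 - q + 1 ≤ 33 * u := by
    have : q ^ 2 + 1 ≤ 33 * u + q := by omega
    have : (q : ℤ) ^ 2 + 1 ≤ 33 * u + q := by exact_mod_cast this
    linarith
  have e2 : 2 * (T : ℤ) ≤ (q : ℤ) ^ 3 + 1 := by
    have : 2 * T ≤ q ^ 3 + 1 := by omega
    exact_mod_cast this
  have e3 : (q : ℤ) ^ 3 + 1 = (q + 1) * (q ^ 2 - q + 1) := by ring
  have e4 : ((q : ℤ) + 1) * (q ^ 2 - q + 1) ≤ (q + 1) * (33 * u) := mul_le_mul_of_nonneg_left e1 (by linarith only [hq7])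
  have e5 : 2 * ((u : ℤ) ^ 6 - u ^ 3 + 1) ≤ 3 * ((q + 1) * (33 * u)) := by linarith only [hT, h1, h3, e4]
  have e6 : 48 * (u : ℤ) * (99 * u) ≤ 2 * ((u : ℤ) ^ 6 - u ^ 3 + 1) := by
    obtain ⟨t, rfl⟩ : ∃ t, u = t + 8 := ⟨u - 8, by omega⟩
    clear * -
    push_cast
    apply pos_le
    ring_nf
    positivity
  have e7 : 48 * (u : ℤ) ≤ q + 1 := by
    have h5 : (99 * (u : ℤ)) * (48 * (u : ℤ)) ≤ (99 * u) * (q + 1) := by linarith only [hT, h1, h3, e4, e6]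
    exact le_of_mul_le_mul_left h5 (by linarith only [hu])
  nlinarith only [hu, e4, e7]

/-- the torus of a prime of `k'` -/
theorem e6_cls (h : SX p q k A k' B m i W S) (D : E6Dat v u g X S) {r n : ℕ} (hr : r.Prime) (hrk : r ∣ k') (hrn : r ∣ n)
    (hn : (n : ℤ) ∣ (X ^ 4 + 1) * (X ^ 2 - 1) ∨ (n : ℤ) ∣ (X ^ 5 - 1) * (X + 1) ∨
      (n : ℤ) ∣ (X ^ 4 - 1) * (X ^ 2 - X + 1) ∨ (n : ℤ) ∣ X ^ 6 - 1 ∨
      (n : ℤ) ∣ (X ^ 4 - X ^ 2 + 1) * (X ^ 2 + X + 1)) :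
    ∃ N : ℕ, N ∣ B ∧ ((g : ℤ) * N = (X ^ 4 + 1) * (X ^ 2 - 1) ∨ (g : ℤ) * N = (X ^ 5 - 1) * (X + 1) ∨
      (g : ℤ) * N = (X ^ 4 - 1) * (X ^ 2 - X + 1) ∨ (g : ℤ) * N = (X ^ 4 - X ^ 2 + 1) * (X ^ 2 + X + 1)) := by
  have hr7 := SX.prime h hr (Or.inr hrk)
  have hrg : r.Coprime g := D.cop fun s hs hsr => by
    have := (Nat.prime_dvd_prime_iff_eq hs hr).1 hsr
    omega
  have hrn' : (r : ℤ) ∣ n := Int.natCast_dvd_natCast.2 hrn
  have key : ∀ {P : ℤ}, (∃ x : S, (g : ℤ) * (orderOf x : ℕ) = P) → (r : ℤ) ∣ P → ∃ N : ℕ, N ∣ B ∧ (g : ℤ) * N = P := by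
    rintro P ⟨x, hx⟩ hP
    exact ⟨orderOf x, SX.dvdB h ⟨x, rfl⟩ hr hrk (liftN hrg hx hP), hx⟩
  have k8 := fun hd => key D.ex8 hd
  have k5 := fun hd => key D.ex5 hd
  have k4 := fun hd => key D.ex4 hd
  have k12 := fun hd => key D.ex12 hd
  rcases hn with h0 | h0 | h0 | h0 | h0
  · obtain ⟨N, h1, h2⟩ := k8 (hrn'.trans h0)
    exact ⟨N, h1, Or.inl h2⟩
  · obtain ⟨N, h1, h2⟩ := k5 (hrn'.trans h0)
    exact ⟨N, h1, Or.inr (Or.inl h2)⟩
  · obtain ⟨N, h1, h2⟩ := k4 (hrn'.trans h0)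
    exact ⟨N, h1, Or.inr (Or.inr (Or.inl h2))⟩
  · have h1 := hrn'.trans h0
    have e : X ^ 6 - 1 = (X ^ 2 - 1) * ((X ^ 2 + X + 1) * (X ^ 2 - X + 1)) := by ring
    have hrp := Nat.prime_iff_prime_int.1 hr
    rw [e] at h1
    rcases hrp.dvd_or_dvd h1 with h2 | h2
    · obtain ⟨N, h1, h2⟩ := k8 (h2.mul_left _)
      exact ⟨N, h1, Or.inl h2⟩
    · rcases hrp.dvd_or_dvd h2 with h3 | h3
      · obtain ⟨N, h1, h2⟩ := k12 (h3.mul_left _)
        exact ⟨N, h1, Or.inr (Or.inr (Or.inr h2))⟩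
      · obtain ⟨N, h1, h2⟩ := k4 (h3.mul_left _)
        exact ⟨N, h1, Or.inr (Or.inr (Or.inl h2))⟩
  · obtain ⟨N, h1, h2⟩ := k12 (hrn'.trans h0)
    exact ⟨N, h1, Or.inr (Or.inr (Or.inr h2))⟩

/-- the orders of the tori are at most `2 u⁶` -/
theorem le6 (hX : X = u ∨ X = -u) (hu : 8 ≤ u) {n : ℕ}
    (hn : (n : ℤ) ∣ (X ^ 4 + 1) * (X ^ 2 - 1) ∨ (n : ℤ) ∣ (X ^ 5 - 1) * (X + 1) ∨
      (n : ℤ) ∣ (X ^ 4 - 1) * (X ^ 2 - X + 1) ∨ (n : ℤ) ∣ X ^ 6 - 1 ∨
      (n : ℤ) ∣ (X ^ 4 - X ^ 2 + 1) * (X ^ 2 + X + 1)) : n ≤ 2 * u ^ 6 := by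
  obtain ⟨t, rfl⟩ : ∃ t, u = t + 8 := ⟨u - 8, by omega⟩
  have key : ∀ {P : ℤ}, (n : ℤ) ∣ P → 0 < P → P ≤ 2 * ((t + 8 : ℕ) : ℤ) ^ 6 → n ≤ 2 * (t + 8) ^ 6 := by
    intro P h1 h2 h3
    have := (Int.le_of_dvd h2 h1).trans h3
    exact_mod_cast this
  rcases hn with h0 | h0 | h0 | h0 | h0
  · refine key h0 ?_ ?_
    · rcases hX with rfl | rfl <;> push_cast <;> apply pos_lt <;> clear * - <;> ring_nf <;> (clear * -; positivity)
    · rcases hX with rfl | rfl <;> push_cast <;> apply pos_le <;> clear * - <;> ring_nf <;> positivity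
  · refine key h0 ?_ ?_
    · rcases hX with rfl | rfl <;> push_cast <;> apply pos_lt <;> clear * - <;> ring_nf <;> positivity
    · rcases hX with rfl | rfl <;> push_cast <;> apply pos_le <;> clear * - <;> ring_nf <;> positivity
  · refine key h0 ?_ ?_
    · rcases hX with rfl | rfl <;> push_cast <;> apply pos_lt <;> clear * - <;> ring_nf <;> positivity
    · rcases hX with rfl | rfl <;> push_cast <;> apply pos_le <;> clear * - <;> ring_nf <;> positivity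
  · refine key h0 ?_ ?_
    · rcases hX with rfl | rfl <;> push_cast <;> apply pos_lt <;> clear * - <;> ring_nf <;> positivity
    · rcases hX with rfl | rfl <;> push_cast <;> apply pos_le <;> clear * - <;> ring_nf <;> positivity
  · refine key h0 ?_ ?_
    · rcases hX with rfl | rfl <;> push_cast <;> apply pos_lt <;> clear * - <;> ring_nf <;> positivity
    · rcases hX with rfl | rfl <;> push_cast <;> apply pos_le <;> clear * - <;> ring_nf <;> positivity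

/-- the unipotent centralizers -/
theorem le6' (hX : X = u ∨ X = -u) (hu : 8 ≤ u) {n : ℕ}
    (hn : (n : ℤ) ∣ (X ^ 3 - 1) * (X + 1) ∨ (n : ℤ) ∣ X ^ 4 - 1 ∨ (n : ℤ) ∣ X ^ 5 - 1 ∨
      (n : ℤ) ∣ (X ^ 3 + 1) * (X ^ 2 + X + 1) ∨ (n : ℤ) ∣ (X ^ 3 + 1) * (X - 1)) : n ≤ 2 * u ^ 5 := by
  obtain ⟨t, rfl⟩ : ∃ t, u = t + 8 := ⟨u - 8, by omega⟩
  have key : ∀ {P : ℤ}, (n : ℤ) ∣ P → (0 < P ∧ P ≤ 2 * ((t + 8 : ℕ) : ℤ) ^ 5 ∨ 0 < -P ∧ -P ≤ 2 * ((t + 8 : ℕ) : ℤ) ^ 5) →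
      n ≤ 2 * (t + 8) ^ 5 := by
    rintro P h1 (⟨h2, h3⟩ | ⟨h2, h3⟩)
    · have := (Int.le_of_dvd h2 h1).trans h3
      exact_mod_cast this
    · have := (Int.le_of_dvd h2 (h1.neg_right)).trans h3
      exact_mod_cast this
  rcases hn with h0 | h0 | h0 | h0 | h0
  · refine key h0 (Or.inl ⟨?_, ?_⟩)
    · rcases hX with rfl | rfl <;> push_cast <;> apply pos_lt <;> clear * - <;> ring_nf <;> positivity
    · rcases hX with rfl | rfl <;> push_cast <;> apply pos_le <;> clear * - <;> ring_nf <;> positivity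
  · refine key h0 (Or.inl ⟨?_, ?_⟩)
    · rcases hX with rfl | rfl <;> push_cast <;> apply pos_lt <;> clear * - <;> ring_nf <;> positivity
    · rcases hX with rfl | rfl <;> push_cast <;> apply pos_le <;> clear * - <;> ring_nf <;> positivity
  · rcases hX with rfl | rfl
    · refine key h0 (Or.inl ⟨?_, ?_⟩) <;> push_cast
      · apply pos_lt; clear * -; ring_nf; positivity
      · apply pos_le; clear * -; ring_nf; positivity
    · refine key h0 (Or.inr ⟨?_, ?_⟩) <;> push_cast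
      · apply pos_lt; clear * -; ring_nf; positivity
      · apply pos_le; clear * -; ring_nf; positivity
  · rcases hX with rfl | rfl
    · refine key h0 (Or.inl ⟨?_, ?_⟩) <;> push_cast
      · apply pos_lt; clear * -; ring_nf; positivity
      · apply pos_le; clear * -; ring_nf; positivity
    · refine key h0 (Or.inr ⟨?_, ?_⟩) <;> push_cast
      · apply pos_lt; clear * -; ring_nf; positivity
      · apply pos_le; clear * -; ring_nf; positivity
  · refine key h0 (Or.inl ⟨?_, ?_⟩)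
    · rcases hX with rfl | rfl <;> push_cast <;> apply pos_lt <;> clear * - <;> ring_nf <;> positivity
    · rcases hX with rfl | rfl <;> push_cast <;> apply pos_le <;> clear * - <;> ring_nf <;> positivity

/-- **State I.** -/
theorem e6_I (h : SX p q k A k' B m i W S) (hg : Good W m i) (D : E6Dat v u g X S) (hu : 8 ≤ u)
    (h1 : ∀ r : ℕ, r.Prime → r ∣ k' → ¬ r ∣ m ∧ ¬ r ∣ i) : False := by
  obtain ⟨x, hx⟩ := SX.k'S h h1
  have hk25 := (k_ge h.lw).2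
  have hk7 : ∀ r : ℕ, r.Prime → r ∣ k → 7 ≤ r := fun r hr hrk => SX.prime h hr (Or.inl hrk)
  have hp7 : ∀ w : ℕ, w.Prime → w ∣ k' → 7 ≤ w := fun w hw hwk => SX.prime h hw (Or.inr hwk)
  obtain ⟨s, hs, hsk⟩ := Nat.exists_prime_and_dvd h.lw.k_pos.1.ne'
  have h9 := e6_k9 h hg D
  have hcg : k.Coprime g := D.cop fun r hr hrk => by have := hk7 r hr hrk; omega
  obtain ⟨y, hy⟩ := D.ex9
  have hkT := liftN hcg hy h9
  have hTA := SX.dvdA h ⟨y, rfl⟩ hkT
  have hT3 : (u : ℤ) ^ 6 - u ^ 3 + 1 ≤ 3 * (orderOf y : ℕ) := by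
    have e1 : (u : ℤ) ^ 6 - u ^ 3 + 1 ≤ X ^ 6 + X ^ 3 + 1 := by
      have : (0 : ℤ) ≤ (u : ℤ) ^ 3 := by positivity
      rcases D.hX with h | h <;> rw [h] <;> linarith only [this]
    have e2 : (g : ℤ) * (orderOf y : ℕ) ≤ 3 * (orderOf y : ℕ) := by
      have : (0 : ℤ) ≤ (orderOf y : ℕ) := by positivity
      rcases D.g13 with h | h <;> rw [h] <;> push_cast <;> linarith only []
    linarith only [hy, e1, e2]
  -- no common torus
  have hcommon : ∀ w : ℕ, w.Prime → w ∣ k' → ¬ (w : ℤ) ∣ X ^ 6 + X ^ 3 + 1 := by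
    intro w hw hwk hd
    have hw7 := hp7 w hw hwk
    have hwg : w.Coprime g := D.cop fun s hs hsr => by
      have := (Nat.prime_dvd_prime_iff_eq hs hw).1 hsr
      omega
    exact h.lw.na hs hsk hw hwk (h.WS y) (hsk.trans hkT) (liftN hwg hy hd)
  obtain ⟨b, n, O⟩ := D.up x
  rw [hx] at O
  have hcase : (k' ≤ 2 * u ^ 6 ∧ ∃ N : ℕ, N ∣ B ∧ ((g : ℤ) * N = (X ^ 4 + 1) * (X ^ 2 - 1) ∨
      (g : ℤ) * N = (X ^ 5 - 1) * (X + 1) ∨ (g : ℤ) * N = (X ^ 4 - 1) * (X ^ 2 - X + 1) ∨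
      (g : ℤ) * N = (X ^ 4 - X ^ 2 + 1) * (X ^ 2 + X + 1))) ∨ k' ≤ 11 * u := by
    obtain ⟨r, hr, hrk⟩ := Nat.exists_prime_and_dvd (show k' ≠ 1 by omega)
    by_cases hb : b = 0
    · have hkn : k' = n := by rw [O.eq, hb, pow_zero, one_mul]
      have h0 := O.s0
      rw [← hkn] at h0
      left
      have h0' : (k' : ℤ) ∣ (X ^ 4 + 1) * (X ^ 2 - 1) ∨ (k' : ℤ) ∣ (X ^ 5 - 1) * (X + 1) ∨
          (k' : ℤ) ∣ (X ^ 4 - 1) * (X ^ 2 - X + 1) ∨ (k' : ℤ) ∣ X ^ 6 - 1 ∨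
          (k' : ℤ) ∣ (X ^ 4 - X ^ 2 + 1) * (X ^ 2 + X + 1) := by
        rcases h0 with h0 | h0 | h0 | h0 | h0 | h0
        · exact Or.inl h0
        · exact Or.inr (Or.inl h0)
        · exact Or.inr (Or.inr (Or.inl h0))
        · exact Or.inr (Or.inr (Or.inr (Or.inl h0)))
        · exact Or.inr (Or.inr (Or.inr (Or.inr h0)))
        · exact absurd ((Int.natCast_dvd_natCast.2 hrk).trans h0) (hcommon r hr hrk)
      exact ⟨le6 D.hX hu h0', e6_cls h D hr hrk hrk h0'⟩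
    · have hvk : v ∣ k' := by
        rw [O.eq]
        exact (dvd_pow_self v hb).mul_right _
      have hv7 := hp7 v D.vp hvk
      have hvu : v ≤ u := Nat.le_of_dvd (by omega) D.vu
      have hpow : v ^ b = v * v ^ (b - 1) := by
        rw [← pow_succ']
        congr 1
        omega
      by_cases hn : n = 1
      · right
        rw [O.eq, hn, mul_one, hpow]
        have := O.le hb
        calc v * v ^ (b - 1) ≤ u * 11 := Nat.mul_le_mul hvu this
          _ = 11 * u := mul_comm _ _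
      · left
        obtain ⟨w, hw, hwn⟩ := Nat.exists_prime_and_dvd hn
        have hwk : w ∣ k' := by rw [O.eq]; exact hwn.mul_left _
        have hw7 := hp7 w hw hwk
        have hs1 := O.s1 hb
        have hn5 := le6' D.hX hu hs1
        constructor
        · rcases Nat.lt_or_ge 1 b with hb2 | hb1
          · have h6 : 6 ≤ v ^ (b - 1) := by
              have : v ≤ v ^ (b - 1) := Nat.le_self_pow (by omega) v
              omega
            have hm := O.s6 hb h6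
            have hle : n ≤ u + 1 := by
              have hu8 : (8 : ℤ) ≤ u := by exact_mod_cast hu
              rcases D.hX with h | h
              · rw [h] at hm
                have := Int.le_of_dvd (by linarith only [hu]) hm
                omega
              · rw [h] at hm
                have := Int.le_of_dvd (by linarith only [hu]) (hm.neg_right)
                omega
            rw [O.eq, hpow]
            have := O.le hb
            calc v * v ^ (b - 1) * n ≤ u * 11 * (u + 1) := Nat.mul_le_mul (Nat.mul_le_mul hvu this) hle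
              _ ≤ 2 * u ^ 6 := by
                obtain ⟨t, rfl⟩ : ∃ t, u = t + 8 := ⟨u - 8, by omega⟩
                clear * -
                zify
                apply pos_le
                ring_nf
                positivity
          · have hb1 : b = 1 := by (clear * - hb hb1; omega)
            rw [O.eq, hb1, pow_one]
            calc v * n ≤ u * (2 * u ^ 5) := Nat.mul_le_mul hvu hn5
              _ = _ := by ring
        · refine e6_cls h D hw hwk hwn ?_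
          rcases hs1 with h0 | h0 | h0 | h0 | h0
          · exact Or.inr (Or.inr (Or.inr (Or.inl (h0.trans ⟨(X ^ 2 - X + 1), by ring⟩))))
          · exact Or.inr (Or.inr (Or.inl (h0.mul_right _)))
          · exact Or.inr (Or.inl (h0.mul_right _))
          · exact Or.inr (Or.inr (Or.inr (Or.inl (h0.trans ⟨X - 1, by ring⟩))))
          · exact Or.inr (Or.inr (Or.inr (Or.inl (h0.trans ⟨X ^ 2 + X + 1, by ring⟩))))
  rcases hcase with ⟨hle, N, hN, hND⟩ | hle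
  · obtain ⟨c, hc⟩ := hTA
    rw [mul_comm] at hc
    have hkT' : k ≤ orderOf y := by
      have hA0 : 0 < A := by
        have := h.lw.side.A_odd
        omega
      have : orderOf y ≠ 0 := by
        intro h0
        rw [h0, mul_zero] at hc
        omega
      exact Nat.le_of_dvd (by omega) hkT
    have hcu : c < u ^ 4 := by
      refine c_lt h.lw hc hkT' hle ?_
      zify
      have e1 : 81 * (2 * (u : ℤ) ^ 6) ^ 3 < 16 * (u ^ 4) ^ 4 * ((u : ℤ) ^ 6 - u ^ 3 + 1) := by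
        obtain ⟨t, rfl⟩ : ∃ t, u = t + 8 := ⟨u - 8, by omega⟩
        clear * -
        push_cast
        apply pos_lt
        ring_nf
        positivity
      have e2 : 16 * ((u : ℤ) ^ 4) ^ 4 * ((u : ℤ) ^ 6 - u ^ 3 + 1) ≤ 16 * (u ^ 4) ^ 4 * (3 * (orderOf y : ℕ)) :=
        mul_le_mul_of_nonneg_left hT3 (by positivity)
      linarith only [e1, e2]
    obtain ⟨t, rfl⟩ : ∃ t, u = t + 8 := ⟨u - 8, by omega⟩
    rcases hND with hN' | hN' | hN' | hN'
    · refine kill6 h.lw D.g13 hc hN hy hN' (α := -2 * X ^ 5 - 2 * X ^ 4 + 3 * X ^ 2 + X + 1)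
        (β := 2 * X ^ 5 + 2 * X ^ 4 + 2 * X ^ 3 + X ^ 2 + X - 2) (by ring) hcu ?_
        (abs_lt6 (N := 2 * (t + 8 : ℤ) ^ 5 + 2 * (t + 8 : ℤ) ^ 4 + 3 * (t + 8 : ℤ) ^ 2 + (t + 8) + 1) ?_ ?_ ?_)
      · rcases D.hX with h | h <;> rw [h, le_abs]
        · right; push_cast; apply pos_le; clear * -; ring_nf; positivity
        · left; push_cast; apply pos_le; clear * -; ring_nf; positivity
      · rcases D.hX with h | h <;> rw [h] <;> push_cast <;> apply pos_le <;> clear * - <;> ring_nf <;> positivity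
      · rcases D.hX with h | h <;> rw [h] <;> push_cast <;> apply pos_le <;> clear * - <;> ring_nf <;> positivity
      · rcases D.hX with h | h <;> rw [h] <;> push_cast <;> apply pos_lt <;> clear * - <;> ring_nf <;> (clear * -; positivity)
    · refine kill6 h.lw D.g13 hc hN hy hN' (α := X ^ 5 + 2 * X ^ 4 - X ^ 3 - X ^ 2 - X + 1)
        (β := -X ^ 5 - X ^ 4 + 2 * X ^ 3 - 2 * X ^ 2 + X - 2) (by ring) hcu ?_
        (abs_lt6 (N := (t + 8 : ℤ) ^ 5 + 2 * (t + 8 : ℤ) ^ 4 + (t + 8 : ℤ) ^ 3 + (t + 8 : ℤ) ^ 2 + (t + 8) + 1) ?_ ?_ ?_)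
      · rcases D.hX with h | h <;> rw [h, le_abs]
        · left; push_cast; apply pos_le; clear * -; ring_nf; positivity
        · right; push_cast; apply pos_le; clear * -; ring_nf; positivity
      · rcases D.hX with h | h <;> rw [h] <;> push_cast <;> apply pos_le <;> clear * - <;> ring_nf <;> positivity
      · rcases D.hX with h | h <;> rw [h] <;> push_cast <;> apply pos_le <;> clear * - <;> ring_nf <;> positivity
      · rcases D.hX with h | h <;> rw [h] <;> push_cast <;> apply pos_lt <;> clear * - <;> ring_nf <;> positivity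
    · refine kill6 h.lw D.g13 hc hN hy hN' (α := X ^ 5 - 2 * X ^ 3 + X ^ 2 + 1)
        (β := -X ^ 5 - X ^ 4 + 2 * X ^ 3 + X ^ 2 - 2 * X - 2) (by ring) hcu ?_
        (abs_lt6 (N := (t + 8 : ℤ) ^ 5 + 2 * (t + 8 : ℤ) ^ 3 + (t + 8 : ℤ) ^ 2 + 1) ?_ ?_ ?_)
      · rcases D.hX with h | h <;> rw [h, le_abs]
        · left; push_cast; apply pos_le; clear * -; ring_nf; positivity
        · right; push_cast; apply pos_le; clear * -; ring_nf; positivity
      · rcases D.hX with h | h <;> rw [h] <;> push_cast <;> apply pos_le <;> clear * - <;> ring_nf <;> positivity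
      · rcases D.hX with h | h <;> rw [h] <;> push_cast <;> apply pos_le <;> clear * - <;> ring_nf <;> positivity
      · rcases D.hX with h | h <;> rw [h] <;> push_cast <;> apply pos_lt <;> clear * - <;> ring_nf <;> positivity
    · refine kill6 h.lw D.g13 hc hN hy hN' (α := -2 * X ^ 5 - X ^ 3 - 2 * X)
        (β := 2 * X ^ 5 - 2 * X ^ 4 + 3 * X ^ 3 + X ^ 2 - X + 3) (by ring) hcu ?_
        (abs_lt6 (N := 2 * (t + 8 : ℤ) ^ 5 + (t + 8 : ℤ) ^ 3 + 2 * (t + 8 : ℤ)) ?_ ?_ ?_)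
      · rcases D.hX with h | h <;> rw [h, le_abs]
        · right; push_cast; apply pos_le; clear * -; ring_nf; positivity
        · left; push_cast; apply pos_le; clear * -; ring_nf; positivity
      · rcases D.hX with h | h <;> rw [h] <;> push_cast <;> apply pos_le <;> clear * - <;> ring_nf <;> positivity
      · rcases D.hX with h | h <;> rw [h] <;> push_cast <;> apply pos_le <;> clear * - <;> ring_nf <;> positivity
      · rcases D.hX with h | h <;> rw [h] <;> push_cast <;> apply pos_lt <;> clear * - <;> ring_nf <;> positivity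
  · exact small6 h.lw hu hTA hT3 hle

/-! ### the second state -/

theorem fact3 {y n g : ℕ} {F₁ F₂ : ℤ} (hy : y.Prime) (hn : n ≠ 0) (hg0 : g ≠ 0) (h : F₁ * F₂ ∣ (g : ℤ) * n)
    (h1 : ((y ^ n.factorization y : ℕ) : ℤ) ∣ F₁) (h2 : ((g : ℤ) * y) ∣ F₂) : False := by
  have h3 : ((y ^ n.factorization y : ℕ) : ℤ) * ((g : ℤ) * y) ∣ (g : ℤ) * n := (mul_dvd_mul h1 h2).trans h
  have h4 : ((y ^ (n.factorization y + 1) : ℕ) : ℤ) ∣ n := by
    have hgz : (g : ℤ) ≠ 0 := by exact_mod_cast hg0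
    refine (mul_dvd_mul_iff_left hgz).1 ?_
    refine dvd_trans (dvd_of_eq ?_) h3
    push_cast
    ring
  have h5 : y ^ (n.factorization y + 1) ∣ n := by exact_mod_cast h4
  have := (hy.pow_dvd_iff_le_factorization hn).1 h5
  omega

theorem E6Dat.v_cop (D : E6Dat v u g X S) : v.Coprime g := by
  rcases D.hg with ⟨h, -⟩ | ⟨h, h'⟩
  · rw [h]; exact Nat.coprime_one_right _
  · rw [h]
    refine (Nat.coprime_primes D.vp Nat.prime_three).2 ?_
    rintro rfl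
    have h1 : ((3 : ℕ) : ℤ) ∣ u := Int.natCast_dvd_natCast.2 D.vu
    rcases D.hX with h2 | h2 <;> omega

theorem E6Dat.not_syl (D : E6Dat v u g X S) [Finite S] (x : S) : ¬ v ^ (Nat.card S).factorization v ∣ orderOf x := by
  intro hd
  have h0 : ((v ^ 36 : ℕ) : ℤ) ∣ (g : ℤ) * (Nat.card S : ℕ) := by
    rw [D.card]
    refine Dvd.dvd.mul_right ?_ _
    push_cast
    exact pow_dvd_pow_of_dvd (Int.natCast_dvd_natCast.2 D.vu) 36
  have h1 : v ^ 36 ∣ Nat.card S := by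
    refine (Nat.Coprime.pow_left 36 D.v_cop).dvd_of_dvd_mul_left ?_
    exact_mod_cast h0
  have h2 := (D.vp.pow_dvd_iff_le_factorization Nat.card_pos.ne').1 h1
  obtain ⟨b, n, O⟩ := D.up x
  rw [O.eq] at hd
  have h3 : v ^ (Nat.card S).factorization v ∣ v ^ b :=
    (Nat.Coprime.pow_left _ ((Nat.Prime.coprime_iff_not_dvd D.vp).2 O.nd)).dvd_of_dvd_mul_right hd
  have h4 := (Nat.pow_dvd_pow_iff_le_right D.vp.one_lt).1 h3
  have h5 := O.le (by omega)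
  have h6 : v ^ 4 ≤ v ^ (b - 1) := Nat.pow_le_pow_right D.vp.pos (by omega)
  have h7 : 2 ^ 4 ≤ v ^ 4 := Nat.pow_le_pow_left D.vp.two_le 4
  omega

/-- a cyclic Sylow subgroup -/
theorem E6Dat.cyc (D : E6Dat v u g X S) [Finite S] {y : ℕ} (hy : y.Prime) (hy2 : y ≠ 2) (hyS : y ∣ Nat.card S)
    (hyv : y ≠ v) (hx : ∃ x : S, y ^ (Nat.card S).factorization y ∣ orderOf x) :
    5 ≤ y ∧ (((y : ℤ) ∣ X ^ 4 + X ^ 3 + X ^ 2 + X + 1 ∧ ¬ (y : ℤ) ∣ X - 1) ∨ Cl y X) := by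
  obtain ⟨x, hx⟩ := hx
  have hn0 : Nat.card S ≠ 0 := Nat.card_pos.ne'
  have hg0 : g ≠ 0 := by rcases D.g13 with h | h <;> omega
  have hyp := Nat.prime_iff_prime_int.1 hy
  obtain ⟨b, n, O⟩ := D.up x
  have hya : y ∣ y ^ (Nat.card S).factorization y := by
    have h3 := (hy.pow_dvd_iff_le_factorization hn0).1 (show y ^ 1 ∣ Nat.card S by rwa [pow_one])
    exact dvd_pow_self y (by omega)
  have h1 : ((y ^ (Nat.card S).factorization y : ℕ) : ℤ) ∣ n := by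
    rw [O.eq] at hx
    exact Int.natCast_dvd_natCast.2
      ((Nat.Coprime.pow_left _ (Nat.Coprime.pow_right _ ((Nat.coprime_primes hy D.vp).2 hyv))).dvd_of_dvd_mul_left hx)
  have hfac : ∀ {F₁ F₂ R : ℤ}, (X ^ 2 - 1) * (X ^ 5 - 1) * (X ^ 6 - 1) * (X ^ 8 - 1) * (X ^ 9 - 1) * (X ^ 12 - 1) =
      F₁ * F₂ * R → ((y ^ (Nat.card S).factorization y : ℕ) : ℤ) ∣ F₁ → ((g : ℤ) * y) ∣ F₂ → False := by
    intro F₁ F₂ R h2 h3 h4
    refine fact3 hy hn0 hg0 ?_ h3 h4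
    rw [D.card, h2]
    exact ⟨u ^ 36 * R, by ring⟩
  generalize (Nat.card S).factorization y = N at *
  have hyaz : (y : ℤ) ∣ ((y ^ N : ℕ) : ℤ) := Int.natCast_dvd_natCast.2 hya
  have hyn : (y : ℤ) ∣ n := hyaz.trans h1
  have hgX2 : (g : ℤ) ∣ X ^ 2 - 1 := D.gX.trans ⟨X + 1, by ring⟩
  have rem : ∀ {P Q : ℤ}, ¬ (y : ℤ) ∣ Q → ((y ^ N : ℕ) : ℤ) ∣ P * Q → ((y ^ N : ℕ) : ℤ) ∣ P := by
    intro P Q hQ hPQ
    refine (cop_int fun r hr hrk => ?_).dvd_of_dvd_mul_right hPQ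
    have := (Nat.prime_dvd_prime_iff_eq hr hy).1 (hr.dvd_of_dvd_pow hrk)
    rw [this]
    exact hQ
  have k12 : ∀ {F : ℤ}, F ∣ X ^ 12 - 1 → ((y ^ N : ℕ) : ℤ) ∣ F → ((y : ℤ) ∣ X ^ 6 - 1 ∨ (y : ℤ) ∣ X ^ 8 - 1) →
      False := by
    intro F hF h2 h3
    refine hfac (F₁ := X ^ 12 - 1) (F₂ := (X ^ 2 - 1) * ((X ^ 6 - 1) * (X ^ 8 - 1))) (R := (X ^ 5 - 1) * (X ^ 9 - 1))
      (by ring) (h2.trans hF) (mul_dvd_mul hgX2 ?_)
    rcases h3 with h3 | h3
    · exact h3.mul_right _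
    · exact h3.mul_left _
  have k2 : ((y ^ N : ℕ) : ℤ) ∣ X ^ 2 - 1 → False := fun h2 =>
    k12 (F := X ^ 2 - 1) ⟨X ^ 10 + X ^ 8 + X ^ 6 + X ^ 4 + X ^ 2 + 1, by ring⟩ h2
      (Or.inl ((hyaz.trans h2).trans (d2_6 X)))
  have k6 : ∀ {F : ℤ}, F ∣ X ^ 6 - 1 → ((y ^ N : ℕ) : ℤ) ∣ F → False := fun {F} hF h2 =>
    k12 (F := F) (hF.trans ⟨X ^ 6 + 1, by ring⟩) h2 (Or.inl ((hyaz.trans h2).trans hF))
  have k5 : ((y ^ N : ℕ) : ℤ) ∣ X ^ 5 - 1 → (y : ℤ) ∣ X - 1 → False := by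
    intro h2 h3
    exact hfac (F₁ := X ^ 5 - 1) (F₂ := (X ^ 2 - 1) * (X ^ 6 - 1)) (R := (X ^ 8 - 1) * (X ^ 9 - 1) * (X ^ 12 - 1))
      (by ring) h2 (mul_dvd_mul hgX2 (h3.trans ⟨X ^ 5 + X ^ 4 + X ^ 3 + X ^ 2 + X + 1, by ring⟩))
  have k9 : ((y ^ N : ℕ) : ℤ) ∣ X ^ 6 + X ^ 3 + 1 → (y : ℤ) ∣ X ^ 6 - 1 → False := by
    intro h2 h3
    exact hfac (F₁ := X ^ 9 - 1) (F₂ := (X ^ 2 - 1) * (X ^ 6 - 1)) (R := (X ^ 5 - 1) * (X ^ 8 - 1) * (X ^ 12 - 1))
      (by ring) (h2.trans ⟨X ^ 3 - 1, by ring⟩) (mul_dvd_mul hgX2 h3)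
  have main : ((y : ℤ) ∣ X ^ 4 + X ^ 3 + X ^ 2 + X + 1 ∧ ¬ (y : ℤ) ∣ X - 1) ∨ (y : ℤ) ∣ X ^ 4 + 1 ∨
      (y : ℤ) ∣ X ^ 4 - X ^ 2 + 1 ∨ ((y : ℤ) ∣ X ^ 6 + X ^ 3 + 1 ∧ ((y ^ N : ℕ) : ℤ) ∣ X ^ 6 + X ^ 3 + 1) := by
    have e5 : X ^ 5 - 1 = (X - 1) * (X ^ 4 + X ^ 3 + X ^ 2 + X + 1) := by ring
    by_cases hb : b = 0
    · rcases O.s0 with h0 | h0 | h0 | h0 | h0 | h0
      · by_cases h8 : (y : ℤ) ∣ X ^ 4 + 1
        · exact Or.inr (Or.inl h8)
        · rw [mul_comm] at h0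
          exact (k2 (rem h8 (h1.trans h0))).elim
      · by_cases hx1 : (y : ℤ) ∣ X - 1
        · exfalso
          have hx2 : ¬ (y : ℤ) ∣ X + 1 := by
            intro h2
            have h3 := dvd_sub h2 hx1
            have e : X + 1 - (X - 1) = ((2 : ℕ) : ℤ) := by push_cast; ring
            rw [e] at h3
            exact hy2 ((Nat.prime_dvd_prime_iff_eq hy Nat.prime_two).1 (Int.natCast_dvd_natCast.1 h3))
          exact k5 (rem hx2 (h1.trans h0)) hx1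
        · by_cases h5 : (y : ℤ) ∣ X ^ 4 + X ^ 3 + X ^ 2 + X + 1
          · exact Or.inl ⟨h5, hx1⟩
          · exfalso
            have e : (X ^ 5 - 1) * (X + 1) = (X ^ 2 - 1) * (X ^ 4 + X ^ 3 + X ^ 2 + X + 1) := by ring
            rw [e] at h0
            exact k2 (rem h5 (h1.trans h0))
      · exfalso
        refine k12 (F := (X ^ 4 - 1) * (X ^ 2 - X + 1)) ⟨(X ^ 2 + X + 1) * (X ^ 4 - X ^ 2 + 1), by ring⟩ (h1.trans h0) ?_
        rcases hyp.dvd_or_dvd (hyn.trans h0) with h2 | h2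
        · exact Or.inr (h2.trans ⟨X ^ 4 + 1, by ring⟩)
        · exact Or.inl (h2.trans ⟨(X + 1) * (X ^ 3 - 1), by ring⟩)
      · exact (k6 dvd_rfl (h1.trans h0)).elim
      · by_cases h12 : (y : ℤ) ∣ X ^ 4 - X ^ 2 + 1
        · exact Or.inr (Or.inr (Or.inl h12))
        · rw [mul_comm] at h0
          exact (k6 (d3_6 X) (rem h12 (h1.trans h0))).elim
      · exact Or.inr (Or.inr (Or.inr ⟨hyn.trans h0, h1.trans h0⟩))
    · rcases O.s1 hb with h0 | h0 | h0 | h0 | h0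
      · exact (k6 (F := (X ^ 3 - 1) * (X + 1)) ⟨X ^ 2 - X + 1, by ring⟩ (h1.trans h0)).elim
      · exact (k12 (F := X ^ 4 - 1) ⟨X ^ 8 + X ^ 4 + 1, by ring⟩ (h1.trans h0)
          (Or.inr ((hyn.trans h0).trans ⟨X ^ 4 + 1, by ring⟩))).elim
      · by_cases hx1 : (y : ℤ) ∣ X - 1
        · exact (k5 (h1.trans h0) hx1).elim
        · have h2 := hyn.trans h0
          rw [e5] at h2
          rcases hyp.dvd_or_dvd h2 with h3 | h3
          · exact absurd h3 hx1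
          · exact Or.inl ⟨h3, hx1⟩
      · exact (k6 (F := (X ^ 3 + 1) * (X ^ 2 + X + 1)) ⟨X - 1, by ring⟩ (h1.trans h0)).elim
      · exact (k6 (F := (X ^ 3 + 1) * (X - 1)) ⟨X ^ 2 + X + 1, by ring⟩ (h1.trans h0)).elim
  have h3 : y ≠ 3 := by
    rintro rfl
    have hX3 : X % 3 = 0 ∨ X % 3 = 1 ∨ X % 3 = 2 := by omega
    rcases main with ⟨h2, -⟩ | h2 | h2 | ⟨h2, h3⟩
    · have h4 := Int.emod_eq_zero_of_dvd h2
      rcases hX3 with h | h | h <;> simp only [pow_succ, Int.add_emod, Int.mul_emod, h, _root_.pow_succ, _root_.pow_zero, _root_.one_mul, _root_.Nat.cast_ofNat, _root_.Int.add_emod, _root_.Int.mul_emod, _root_.MulZeroClass.mul_zero, _root_.EuclideanDomain.zero_mod, _root_.add_zero, _root_.Int.reduceMod, _root_.zero_add, _root_.one_ne_zero, _root_.mul_one, _root_.Int.reduceAdd, _root_.EuclideanDomain.mod_self, _root_.OfNat.ofNat_ne_zero, _root_.Int.reduceMul] at h4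
    · have h4 := Int.emod_eq_zero_of_dvd h2
      rcases hX3 with h | h | h <;> simp only [pow_succ, Int.add_emod, Int.mul_emod, h, _root_.pow_succ, _root_.pow_zero, _root_.one_mul, _root_.Nat.cast_ofNat, _root_.Int.add_emod, _root_.Int.mul_emod, _root_.MulZeroClass.mul_zero, _root_.EuclideanDomain.zero_mod, _root_.Int.reduceMod, _root_.zero_add, _root_.one_ne_zero, _root_.mul_one, _root_.Int.reduceAdd, _root_.OfNat.ofNat_ne_zero, _root_.Int.reduceMul] at h4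
    · have h4 := Int.emod_eq_zero_of_dvd h2
      rcases hX3 with h | h | h <;> simp only [pow_succ, Int.add_emod, Int.sub_emod, Int.mul_emod, h, _root_.pow_succ, _root_.pow_zero, _root_.one_mul, _root_.Nat.cast_ofNat, _root_.Int.add_emod, _root_.Int.sub_emod, _root_.Int.mul_emod, _root_.MulZeroClass.mul_zero, _root_.EuclideanDomain.zero_mod, _root_.sub_self, _root_.Int.reduceMod, _root_.zero_add, _root_.one_ne_zero, _root_.mul_one, _root_.Int.reduceMul] at h4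
    · have h4 := Int.emod_eq_zero_of_dvd h2
      rcases hX3 with h | h | h
      · simp only [pow_succ, Int.add_emod, Int.mul_emod, h, _root_.pow_succ, _root_.pow_zero, _root_.one_mul, _root_.Nat.cast_ofNat, _root_.Int.add_emod, _root_.Int.mul_emod, _root_.MulZeroClass.mul_zero, _root_.EuclideanDomain.zero_mod, _root_.add_zero, _root_.Int.reduceMod, _root_.zero_add, _root_.one_ne_zero] at h4
      · refine k9 h3 (Int.dvd_of_emod_eq_zero ?_)
        simp only [pow_succ, Int.sub_emod, Int.mul_emod, h, _root_.pow_succ, _root_.pow_zero, _root_.one_mul, _root_.Nat.cast_ofNat, _root_.Int.sub_emod, _root_.Int.mul_emod, _root_.mul_one, _root_.Int.reduceMod, _root_.sub_self, _root_.EuclideanDomain.zero_mod]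
      · simp only [pow_succ, Int.add_emod, Int.mul_emod, h, _root_.pow_succ, _root_.pow_zero, _root_.one_mul, _root_.Nat.cast_ofNat, _root_.Int.add_emod, _root_.Int.mul_emod, _root_.Int.reduceMul, _root_.Int.reduceMod, _root_.Int.reduceAdd, _root_.EuclideanDomain.mod_self, _root_.zero_add, _root_.one_ne_zero] at h4
  have h5 : 5 ≤ y := by
    have := hy.two_le
    have : y ≠ 4 := by rintro rfl; norm_num at hy
    omega
  refine ⟨h5, ?_⟩
  rcases main with h2 | h2 | h2 | ⟨h2, -⟩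
  · exact Or.inl h2
  · exact Or.inr (Or.inl h2)
  · exact Or.inr (Or.inr (Or.inl h2))
  · exact Or.inr (Or.inr (Or.inr h2))

/-- **State II.** -/
theorem e6_II (h : SX p q k A k' B m i W S) (hg : Good W m i) (D : E6Dat v u g X S) (hvp : v ≠ p) (hu : 8 ≤ u)
    (hF : ∀ w : ℕ, w.Prime → 5 ≤ w → F1.FldDat v w S) (hw : ∃ w : ℕ, w.Prime ∧ w ∣ k' ∧ w ∣ m * i)
    (h2 : ∀ r : ℕ, r.Prime → (r ∣ (q ^ 2 + 1) / 2 ∨ r = p) → ¬ r ∣ m ∧ ¬ r ∣ i) : False := by
  have := h.fin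
  obtain ⟨w, hwp, hwk, hwmi⟩ := hw
  have hw7 := SX.prime h hwp (Or.inr hwk)
  have hwm : w ∣ m := by
    rcases hwp.dvd_mul.1 hwmi with h3 | h3
    · exact h3
    · exact (SX.noFld h hwp hwk h3 h2 (hF w hwp (by omega))).elim
  have hz25 := z_ge h.lw
  have hp3 := h.lw.p3
  have hvpz : ¬ v ∣ p * ((q ^ 2 + 1) / 2) := by
    intro hd
    rcases D.vp.dvd_mul.1 hd with h3 | h3
    · exact hvp ((Nat.prime_dvd_prime_iff_eq D.vp h.lw.pp).1 h3)
    · obtain ⟨x, hx⟩ := SX.cyc h hwp hwk hwm D.vp (Or.inl h3)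
      exact D.not_syl x hx
  obtain ⟨x, hx⟩ := SX.pzS h h2
  -- the classes of the primes of `p z`
  have hcl : ∀ y : ℕ, y.Prime → y ∣ p * ((q ^ 2 + 1) / 2) →
      5 ≤ y ∧ (((y : ℤ) ∣ X ^ 4 + X ^ 3 + X ^ 2 + X + 1 ∧ ¬ (y : ℤ) ∣ X - 1) ∨ Cl y X) := by
    intro y hy hyd
    have hyz : y ∣ (q ^ 2 + 1) / 2 ∨ y = p := by
      rcases hy.dvd_mul.1 hyd with h3 | h3
      · exact Or.inr ((Nat.prime_dvd_prime_iff_eq hy h.lw.pp).1 h3)
      · exact Or.inl h3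
    have hyS : y ∣ Nat.card S := h.dvd_card hy (h.W_prime hy (by (clear * - hyz; tauto))) (h2 y hy hyz).1 (h2 y hy hyz).2
    have hy2 : y ≠ 2 := by
      rcases hyz with hyz | rfl
      · have := (h.lw.side.z_prime h.lw.q2 hy hyz).1
        omega
      · omega
    have hyv : y ≠ v := by
      rintro rfl
      exact hvpz hyd
    exact D.cyc hy hy2 hyS hyv (SX.cyc h hwp hwk hwm hy hyz)
  have c2 : IsCoprime ((p * ((q ^ 2 + 1) / 2) : ℕ) : ℤ) (X ^ 2 - 1) := by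
    refine cop_int fun y hy hyd hd => ?_
    obtain ⟨h5, h6 | h6⟩ := hcl y hy hyd
    · have e : X ^ 2 - 1 = (X - 1) * (X + 1) := by ring
      rw [e] at hd
      rcases (Nat.prime_iff_prime_int.1 hy).dvd_or_dvd hd with h7 | h7
      · exact h6.2 h7
      · have h8 := dvd_sub h6.1 (h7.mul_right (X ^ 3 + X))
        have e : X ^ 4 + X ^ 3 + X ^ 2 + X + 1 - (X + 1) * (X ^ 3 + X) = 1 := by ring
        rw [e] at h8
        have := Int.le_of_dvd (by norm_num) h8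
        omega
    · exact h6.n6 hy h5 (hd.trans (d2_6 X))
  have n6 : ∀ y : ℕ, y.Prime → y ∣ p * ((q ^ 2 + 1) / 2) → ¬ (y : ℤ) ∣ X ^ 6 - 1 := by
    intro y hy hyd hd
    obtain ⟨h5, h6 | h6⟩ := hcl y hy hyd
    · have h8 := dvd_sub hd (h6.1.mul_right (X * (X - 1)))
      have e : X ^ 6 - 1 - (X ^ 4 + X ^ 3 + X ^ 2 + X + 1) * (X * (X - 1)) = X - 1 := by ring
      rw [e] at h8
      exact h6.2 h8
    · exact h6.n6 hy h5 hd
  have n4 : ∀ y : ℕ, y.Prime → y ∣ p * ((q ^ 2 + 1) / 2) → ¬ (y : ℤ) ∣ (X ^ 4 - 1) * (X ^ 2 - X + 1) := by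
    intro y hy hyd hd
    obtain ⟨h5, h6 | h6⟩ := hcl y hy hyd
    · rcases (Nat.prime_iff_prime_int.1 hy).dvd_or_dvd hd with h7 | h7
      · have h8 := dvd_sub (h6.1.mul_right (X - 1)) (h7.mul_right X)
        have e : (X ^ 4 + X ^ 3 + X ^ 2 + X + 1) * (X - 1) - (X ^ 4 - 1) * X = X - 1 := by ring
        rw [e] at h8
        exact h6.2 h8
      · exact n6 y hy hyd (h7.trans ⟨(X + 1) * (X ^ 3 - 1), by ring⟩)
    · exact h6.n4 hy h5 hd
  have cg : (p * ((q ^ 2 + 1) / 2)).Coprime g := D.cop fun r hr hrk => (hcl r hr hrk).1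
  have hpz0 : 0 < ((p * ((q ^ 2 + 1) / 2) : ℕ) : ℤ) := by
    have : 0 < p * ((q ^ 2 + 1) / 2) := Nat.mul_pos (by omega) (by omega)
    exact_mod_cast this
  -- a torus which is too large
  have kill : ∀ {F P : ℤ}, (∃ x : S, (g : ℤ) * (orderOf x : ℕ) = F * P) → 0 < F →
      ((p * ((q ^ 2 + 1) / 2) : ℕ) : ℤ) ∣ F → 6 < P → False := by
    rintro F P ⟨x, hx⟩ hF0 hF hP
    obtain ⟨κ, hκ, h3, -⟩ := SX.pzD h ⟨x, rfl⟩ (liftN cg hx (hF.mul_right _))
    have h4 := Int.le_of_dvd hF0 hF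
    have h5 : (g : ℤ) * (κ * ((p * ((q ^ 2 + 1) / 2) : ℕ) : ℤ)) = F * P := by
      rw [← hx, h3]
      push_cast
      ring
    have h6 : (g : ℤ) * (κ * ((p * ((q ^ 2 + 1) / 2) : ℕ) : ℤ)) ≤ 6 * ((p * ((q ^ 2 + 1) / 2) : ℕ) : ℤ) := by
      have h7 : (g : ℤ) * κ ≤ 6 := by
        rcases D.g13 with h | h <;> rcases hκ with h' | h' <;> rw [h, h'] <;> norm_num
      calc (g : ℤ) * (κ * ((p * ((q ^ 2 + 1) / 2) : ℕ) : ℤ)) = (g * κ) * ((p * ((q ^ 2 + 1) / 2) : ℕ) : ℤ) := by ring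
        _ ≤ _ := mul_le_mul_of_nonneg_right h7 hpz0.le
    nlinarith only [hF0, hP, h4, h5, h6]
  have hu8 : (8 : ℤ) ≤ u := by exact_mod_cast hu
  have hX2 : 64 ≤ X ^ 2 := by rcases D.hX with h | h <;> rw [h] <;> nlinarith only [hu]
  have hX3 : 6 < X ^ 2 + X + 1 := by rcases D.hX with h | h <;> rw [h] <;> nlinarith only [hu, _root_.sq_nonneg (↑u : ℤ)]
  obtain ⟨b, n, O⟩ := D.up x
  rw [hx] at O
  have hb : b = 0 := by
    by_contra hb
    exact hvpz (by rw [O.eq]; exact (dvd_pow_self v hb).mul_right _)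
  have hn : p * ((q ^ 2 + 1) / 2) = n := by rw [O.eq, hb, pow_zero, one_mul]
  have h0 := O.s0
  rw [← hn] at h0
  obtain ⟨y, hy, hyz⟩ := Nat.exists_prime_and_dvd (show (q ^ 2 + 1) / 2 ≠ 1 by omega)
  have hyd : y ∣ p * ((q ^ 2 + 1) / 2) := hyz.mul_left _
  have hyd' : (y : ℤ) ∣ ((p * ((q ^ 2 + 1) / 2) : ℕ) : ℤ) := Int.natCast_dvd_natCast.2 hyd
  rcases h0 with h0 | h0 | h0 | h0 | h0 | h0
  · exact kill D.ex8 (by (clear * -; positivity)) (c2.dvd_of_dvd_mul_right h0) (by linarith only [hX2])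
  · have e : (X ^ 5 - 1) * (X + 1) = (X ^ 4 + X ^ 3 + X ^ 2 + X + 1) * (X ^ 2 - 1) := by ring
    rw [e] at h0
    have h5 := D.ex5
    rw [e] at h5
    refine kill h5 ?_ (c2.dvd_of_dvd_mul_right h0) (by linarith only [hX2])
    linarith only [hX2, sq_nonneg (2 * X ^ 2 + X), sq_nonneg (X + 2)]
  · exact n4 y hy hyd (hyd'.trans h0)
  · exact n6 y hy hyd (hyd'.trans h0)
  · have c3 : IsCoprime ((p * ((q ^ 2 + 1) / 2) : ℕ) : ℤ) (X ^ 2 + X + 1) :=
      cop_int fun r hr hrk hd => n6 r hr hrk (hd.trans (d3_6 X))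
    exact kill D.ex12 (by nlinarith only [hX2]) (c3.dvd_of_dvd_mul_right h0) hX3
  · -- the torus of `k`
    have h9 := e6_k9 h hg D
    have hk7 : ∀ r : ℕ, r.Prime → r ∣ k → 7 ≤ r := fun r hr hrk => SX.prime h hr (Or.inl hrk)
    have hcg : k.Coprime g := D.cop fun r hr hrk => by have := hk7 r hr hrk; omega
    obtain ⟨t, ht⟩ := D.ex9
    have hkT := liftN hcg ht h9
    have hpT := liftN cg ht h0
    obtain ⟨s, hs, hsk⟩ := Nat.exists_prime_and_dvd h.lw.k_pos.1.ne'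
    exact h.lw.naz hs (Or.inl hsk) h.lw.pp (Or.inr rfl) (h.WS t) (hsk.trans hkT) ((dvd_mul_right _ _).trans hpT)

/-- both rows -/
theorem row_e6Dat (h : SX p q k A k' B m i W S) (hg : Good W m i) (D : E6Dat v u g X S) (hvp : v ≠ p)
    (hF : ∀ w : ℕ, w.Prime → 5 ≤ w → F1.FldDat v w S) : False := by
  have hu := e6_u8 h hg D hvp
  rcases h.dich with h1 | ⟨hw, h2⟩
  · exact e6_I h hg D hu h1
  · exact e6_II h hg D hvp hu hF hw h2

/-- **Row `E₆(u)`.** -/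
theorem row_e6 {v f : ℕ} (h : SX p q k A k' B m i W S) (hg : Good W m i) (hI : Fam.Is v f S Fam.e6) (hv : v.Prime)
    (hvp : v ≠ p) : False := by
  have hF : ∀ w : ℕ, w.Prime → 5 ≤ w → F1.FldDat v w S := fun w hw hw5 =>
    fldDat_exc (t := Fam.e6) trivial hv hI hw hw5
  obtain ⟨F, _, _, _, hcard, ⟨e⟩⟩ := hI
  have hf := f_pos_of_card (n := 1) (by rw [hcard, pow_one])
  exact row_e6Dat h hg ((e6Dat hv hcard hf).congr e) hvp hF

/-- **Row `²E₆(u)`.** -/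
theorem row_te6 {v f : ℕ} (h : SX p q k A k' B m i W S) (hg : Good W m i) (hI : Fam.Is v f S Fam.te6) (hv : v.Prime)
    (hvp : v ≠ p) : False := by
  have hF : ∀ w : ℕ, w.Prime → 5 ≤ w → F1.FldDat v w S := fun w hw hw5 =>
    fldDat_exc (t := Fam.te6) trivial hv hI hw hw5
  obtain ⟨F, _, _, _, hcard, ⟨e⟩⟩ := hI
  exact row_e6Dat h hg ((te6Dat hv hcard (f_pos_of_card hcard)).congr e) hvp hF

end

end Cfsg.Agent.R2.Spec.X4.H18
end

private theorem dce_45db68f0c6fc : _root_.True := by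
  try have : _root_.True := by simp only [_root_.Cfsg.Agent.R2.Spec.X4.H18.tab9.eq_1]
  exact _root_.True.intro
end
end
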